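import Groth.Agent.GrMax.Main
import Groth.Agent.Chev.MaxTori
import Groth.Agent.S8433
import Groth.Agent.MTImage.RankSemicont
import Groth.Agent.Chev.NonAffTori

/-!
# Maximal tori containing a torus over an arbitrary field
-/

set_option autoImplicit false
set_option linter.unusedSectionVars false
set_option linter.style.haveILetI false
set_option backward.isDefEq.respectTransparency false
set_option maxHeartbeats 1000000
set_option synthInstance.maxHeartbeats 400000

universe u

open CategoryTheory CategoryTheory.Limits MonoidalCategory CartesianMonoidalCategory MonObj GrpObj AlgebraicGeometry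

noncomputable section

namespace Groth.Agent.GrMax

variable {k : Type u} [Field k]

theorem comm_points_torus {S : Scheme.{u}} (T : Over S) [GrpObj T] (hT : Red.IsTorus T) {X : Over S} (x y : X ⟶ T) :
    x * y = y * x :=
  MTBridge.comm_points_scheme T (by
    obtain ⟨S', g', hf, hs, hl, hloc⟩ := MTBridge.isMultTypeFT_of_isTorus T hT
    exact ⟨S', g', hf, hs, hl, fun s => by obtain ⟨U, hU, M, hM, -, e⟩ := hloc s; exact ⟨U, hU, M, hM, e⟩⟩) x y

/-- **Every torus of an affine smooth group lies in a maximal torus.** -/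
theorem exists_maxTorus_containing {G R : Over (Spec (CommRingCat.of k))} [GrpObj G] [GrpObj R] [IsAffine G.left]
    [Smooth G.hom] (j : R ⟶ G) [IsMonHom j] [Mono j] (hR : Red.IsTorus R) :
    ∃ (T : Over (Spec (CommRingCat.of k))) (_ : GrpObj T) (i : T ⟶ G) (r : R ⟶ T),
      Red.IsMaximalTorus i ∧ r ≫ i = j := by
  haveI : IsAffineHom G.hom := isAffineHom_of_isAffine _
  obtain ⟨Z, _, z, hz, hzc, hZs⟩ :=
    Groth.Agent.S5247.result R G (MTBridge.isMultTypeFT_of_isTorus R hR) ‹Smooth G.hom› inferInstance j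
  haveI := hz.1; haveI := hz.2.1; haveI := hzc; haveI := hZs
  haveI : IsAffine Z.left := isAffine_of_isAffineHom z.left
  haveI : IsAffineHom Z.hom := isAffineHom_of_isAffine _
  obtain ⟨j', hj'⟩ := (hz.2.2 R j).2 fun X' x h => by
    rw [← MonObj.mul_comp, ← MonObj.mul_comp, comm_points_torus R hR]
  haveI : IsMonHom j' := MTSplit.isMonHom_of_comp_mono j' z j hj'
  obtain ⟨C, _, c, hcm, hco, hcc, hCs, hCq, hCc⟩ := exists_neutral Z
  haveI := hcm; haveI := hco; haveI := hcc; haveI := hCs; haveI := hCc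
  haveI : IsAffine C.left := isAffine_of_isAffineHom c.left
  haveI : IsAffineHom C.hom := isAffineHom_of_isAffine _
  haveI : Mono c := GrpField.SchImg.mono_of_isClosedImmersion c
  obtain ⟨j₀, hj₀⟩ := MTImage.exists_factor_open hR j' c
  haveI : IsMonHom j₀ := MTSplit.isMonHom_of_comp_mono j₀ c j' hj₀
  have hj₀c : ∀ (X : Over (Spec (CommRingCat.of k))) (x : X ⟶ R) (g : X ⟶ C), (x ≫ j₀) * g = g * (x ≫ j₀) := by
    intro X x g
    have h := (hz.2.2 X (g ≫ c ≫ z)).1 ⟨g ≫ c, Category.assoc _ _ _⟩ X (𝟙 X) x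
    rw [← cancel_mono (c ≫ z), MonObj.mul_comp, MonObj.mul_comp, Category.assoc x j₀, reassoc_of% hj₀, hj']
    rw [Category.id_comp] at h
    exact h.symm
  obtain ⟨T, _, t, ht⟩ := exists_maxTorus C
  haveI := ht.1; haveI := ht.2.1
  obtain ⟨r, hr⟩ := Groth.Agent.S8398.result _ C (fun s => by
      rw [show C.hom.base ⁻¹' {s} = Set.univ from
        Set.eq_univ_of_forall fun y => Subsingleton.elim (α := PrimeSpectrum k) _ _]
      exact isConnected_univ)
    T t ht R (MTBridge.isMultTypeFT_of_isTorus R hR) j₀ hj₀c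
  refine ⟨T, inferInstance, t ≫ c ≫ z, r, ?_, by rw [← Category.assoc, hr, reassoc_of% hj₀, hj']⟩
  let L := AlgebraicClosure k
  let f := fieldMap (k := k) L
  let F := Over.pullback f
  haveI : PreservesLimitsOfShape WalkingCospan F :=
    (Adjunction.rightAdjoint_preservesLimits (Over.mapPullbackAdj _)).preservesLimitsOfShape
  refine Chev.MaxTorusBC.isMaximalTorus_descend f _ ht.2.2.1 (Chev.Borel.isMaximalTorus_of_isMaxTorus _ ?_)
  obtain ⟨-, -, hTL, hmax⟩ := Chev.Borel.isMaxTorus_of_isMaximalTorus _ (Chev.MaxTorusBC.isMaximalTorus_bc t ht f)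
  haveI : IsOpenImmersion (F.map c).left := MorphismProperty.baseChange_map (P := @IsOpenImmersion) f c ‹_›
  haveI : LocallyOfFiniteType (F.obj Z).hom := inferInstanceAs (LocallyOfFiniteType (pullback.snd Z.hom f))
  refine ⟨inferInstance, inferInstance, hTL, fun T' _ a _ _ g hT' hg => ?_⟩
  have hju : (F.map r ≫ g) ≫ a = F.map j := by
    rw [Category.assoc, hg, ← Functor.map_comp, ← Category.assoc, hr, reassoc_of% hj₀, hj']
  obtain ⟨b, hb⟩ := ((Chev.CentBC.isCentralizerOf_bc f j z hz).2.2 _ a).2 fun X' x h => by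
    rw [← hju, ← Category.assoc h, ← MonObj.mul_comp, ← MonObj.mul_comp, comm_points_torus T' hT']
  haveI : IsMonHom b := MTSplit.isMonHom_of_comp_mono b (F.map z) a hb
  obtain ⟨b₀, hb₀⟩ := MTImage.exists_factor_open hT' b (F.map c)
  haveI : IsMonHom b₀ := MTSplit.isMonHom_of_comp_mono b₀ (F.map c) b hb₀
  haveI : Mono (b₀ ≫ F.map c ≫ F.map z) := by rw [reassoc_of% hb₀, hb]; infer_instance
  haveI : Mono b₀ := mono_of_mono b₀ (F.map c ≫ F.map z)
  refine hmax T' b₀ g hT' ?_
  rw [← cancel_mono (F.map c ≫ F.map z), Category.assoc, reassoc_of% hb₀, hb, hg, Functor.map_comp, Functor.map_comp]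

/-- **A maximal torus over a field is geometrically maximal.** -/
theorem isMaximalTorus_of_isMaxTorus {G T : Over (Spec (CommRingCat.of k))} [GrpObj G] [GrpObj T] [IsAffine G.left]
    [Smooth G.hom] (i : T ⟶ G) (h : AGF.IsMaxTorus i) : Red.IsMaximalTorus i := by
  obtain ⟨him, himono, hT, hmax⟩ := h
  haveI := him; haveI := himono
  obtain ⟨T₁, _, i₁, r, hi₁, hr⟩ := exists_maxTorus_containing i hT
  haveI := hi₁.1; haveI := hi₁.2.1
  haveI : IsMonHom r := MTSplit.isMonHom_of_comp_mono r i₁ i hr
  haveI := hmax T₁ i₁ r hi₁.2.2.1 hr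
  haveI : IsMonHom (asIso r).hom := ‹IsMonHom r›
  rw [← hr]
  exact Groth.Agent.S8433.isMaximalTorus_of_iso_left (asIso r) i₁ hT hi₁

/-- Maximal tori of a connected group have one dimension. -/
theorem dim_eq {G T T' : Over (Spec (CommRingCat.of k))} [GrpObj G] [GrpObj T] [GrpObj T'] [IsAffine G.left]
    [Smooth G.hom] [ConnectedSpace G.left] (i : T ⟶ G) (i' : T' ⟶ G) (h : Red.IsMaximalTorus i)
    (h' : Red.IsMaximalTorus i') : topologicalKrullDim ↥T.left = topologicalKrullDim ↥T'.left := by
  haveI : IsAffineHom G.hom := isAffineHom_of_isAffine _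
  let f := fieldMap (k := k) (AlgebraicClosure k)
  haveI : IsAffineHom (Red.bc f G).hom := inferInstanceAs (IsAffineHom (pullback.snd G.hom f))
  haveI : IsAffine (Red.bc f G).left := isAffine_of_isAffineHom (Red.bc f G).hom
  haveI : Smooth (Red.bc f G).hom := inferInstanceAs (Smooth (pullback.snd G.hom f))
  haveI : ConnectedSpace (Red.bc f G).left := AutFinOrd.connectedSpace_bc f G
  obtain ⟨g, φ, -, -⟩ := Chev.Borel.maxTorus_conj _ _
    (Chev.Borel.isMaxTorus_of_isMaximalTorus _ (Chev.MaxTorusBC.isMaximalTorus_bc i h f))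
    (Chev.Borel.isMaxTorus_of_isMaximalTorus _ (Chev.MaxTorusBC.isMaximalTorus_bc i' h' f))
  have key : ∀ (X : Over (Spec (CommRingCat.of k))) [LocallyOfFiniteType X.hom],
      topologicalKrullDim ↥(Red.bc f X).left = topologicalKrullDim ↥X.left := fun X _ => by
    rw [MTImage.dim_bc_point f X, show X.hom.base ⁻¹' {f (IsLocalRing.closedPoint _)} = Set.univ from
      Set.eq_univ_of_forall fun y => Subsingleton.elim (α := PrimeSpectrum k) _ _]
    exact IsHomeomorph.topologicalKrullDim_eq _ (Homeomorph.Set.univ ↥X.left).isHomeomorph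
  haveI := Chev.locallyOfFiniteType_of_isTorus h.2.2.1
  haveI := Chev.locallyOfFiniteType_of_isTorus h'.2.2.1
  rw [← key T, ← key T']
  exact IsHomeomorph.topologicalKrullDim_eq _ (Scheme.homeoOfIso ((Over.forget _).mapIso φ)).isHomeomorph

/-- Absence of tori over the field and over its algebraic closure agree. -/
theorem hasNoSubtorus_bc_iff (G : Over (Spec (CommRingCat.of k))) [GrpObj G] [IsAffine G.left] [Smooth G.hom]
    [ConnectedSpace G.left] :
    Red.HasNoSubtorus k G ↔ Red.HasNoSubtorus (AlgebraicClosure k) (Red.bc (fieldMap (AlgebraicClosure k)) G) := by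
  haveI : IsAffineHom G.hom := isAffineHom_of_isAffine _
  let f := fieldMap (k := k) (AlgebraicClosure k)
  let F := Over.pullback f
  haveI : PreservesLimitsOfShape WalkingCospan F :=
    (Adjunction.rightAdjoint_preservesLimits (Over.mapPullbackAdj _)).preservesLimitsOfShape
  constructor
  · intro h T' _ j _ _ hT'
    obtain ⟨T, _, i, hi⟩ := exists_maxTorus G
    haveI := hi.1; haveI := hi.2.1
    haveI : IsIso T.hom := h T i hi.2.2.1
    haveI : IsAffineHom (Red.bc f G).hom := inferInstanceAs (IsAffineHom (pullback.snd G.hom f))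
    haveI : IsAffine (Red.bc f G).left := isAffine_of_isAffineHom (Red.bc f G).hom
    haveI : Smooth (Red.bc f G).hom := inferInstanceAs (Smooth (pullback.snd G.hom f))
    haveI : ConnectedSpace (Red.bc f G).left := AutFinOrd.connectedSpace_bc f G
    obtain ⟨T₁, _, i₁, r, hi₁, hr⟩ := MTImage.exists_maxTorus_containing j hT'
    haveI := hi₁.1; haveI := hi₁.2.1
    obtain ⟨g, φ, -, -⟩ := Chev.Borel.maxTorus_conj _ _ hi₁
      (Chev.Borel.isMaxTorus_of_isMaximalTorus _ (Chev.MaxTorusBC.isMaximalTorus_bc i hi f))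
    haveI : IsIso (F.obj T).hom := inferInstanceAs (IsIso (pullback.snd T.hom f))
    haveI : IsIso φ.hom.left := inferInstanceAs (IsIso ((Over.forget _).map φ.hom))
    haveI : IsIso T₁.hom := by rw [← Over.w φ.hom]; infer_instance
    haveI : IsMonHom r := MTSplit.isMonHom_of_comp_mono r i₁ j hr
    haveI : Mono (r ≫ i₁) := by rw [hr]; infer_instance
    haveI : Mono r := mono_of_mono r i₁
    haveI : IsSplitEpi r := ⟨⟨toUnit T₁ ≫ η[T'], by
      refine Over.OverMorphism.ext ((cancel_mono T₁.hom).1 ?_)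
      rw [Over.w, Over.w]⟩⟩
    haveI : IsIso r := isIso_of_mono_of_isSplitEpi r
    haveI : IsIso r.left := inferInstanceAs (IsIso ((Over.forget _).map r))
    show IsIso T'.hom
    rw [← Over.w r]
    infer_instance
  · intro h T _ j _ _ hT
    haveI : IsIso (F.obj T).hom := h (F.obj T) (F.map j) (Chev.Borel.isTorus_bc_scheme T f hT)
    haveI : IsIso (𝟙_ (Over (Spec (CommRingCat.of k)))).hom := inferInstanceAs (IsIso (𝟙 _))
    haveI : IsIso (F.obj (𝟙_ (Over (Spec (CommRingCat.of k))))).hom :=
      inferInstanceAs (IsIso (pullback.snd (𝟙_ (Over (Spec (CommRingCat.of k)))).hom f))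
    haveI : IsIso (F.map (toUnit T)) := by
      haveI : IsIso ((F.map (toUnit T)).left ≫ (F.obj (𝟙_ (Over (Spec (CommRingCat.of k))))).hom) := by
        rw [Over.w]; infer_instance
      haveI : IsIso (F.map (toUnit T)).left :=
        IsIso.of_isIso_comp_right (F.map (toUnit T)).left (F.obj (𝟙_ (Over (Spec (CommRingCat.of k))))).hom
      haveI : IsIso ((Over.forget _).map (F.map (toUnit T))) := ‹IsIso (F.map (toUnit T)).left›
      exact isIso_of_reflects_iso _ (Over.forget _)
    haveI : IsIso (toUnit T) := Chev.Borel.isIso_of_isIso_pullback f (toUnit T)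
    exact inferInstanceAs (IsIso ((Over.forget _).map (toUnit T)))

end Groth.Agent.GrMax
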