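import Groth.Agent.GrMax.Step
import Groth.Agent.AdjRep.Center
import Groth.Agent.S3922
import Groth.Agent.S8429
import Groth.Agent.S0115
import Groth.Agent.MTImage.CartanField

/-!
# Maximal tori over an arbitrary field
-/

set_option autoImplicit false
set_option linter.unusedSectionVars false
set_option linter.style.haveILetI false
set_option backward.isDefEq.respectTransparency false
set_option maxHeartbeats 1000000
set_option synthInstance.maxHeartbeats 400000

universe u

open CategoryTheory CategoryTheory.Limits MonoidalCategory CartesianMonoidalCategory MonObj GrpObj AlgebraicGeometry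

noncomputable section

namespace Groth.Agent.GrMax

variable {k : Type u} [Field k]

/-- The quotient by the centre. -/
theorem exists_centre_quotient (G : Over (Spec (CommRingCat.of k))) [GrpObj G] [Smooth G.hom] [QuasiCompact G.hom]
    [ConnectedSpace G.left] :
    ∃ (Z : Over (Spec (CommRingCat.of k))) (_ : GrpObj Z) (i : Z ⟶ G) (Q : Over (Spec (CommRingCat.of k))) (_ : GrpObj Q)
      (q : G ⟶ Q), IsMonHom q ∧ IsAffine Q.left ∧ Smooth Q.hom ∧ ConnectedSpace Q.left ∧ Surjective q.left ∧
        AlgGrp.IsKernel i q ∧ Red.IsCentralizerOf (𝟙 G) i := by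
  obtain ⟨Z, hZg, i, him, hic, hZ, Q, hQg, q, hq, hQa, hQl, hqf, hqs, hk⟩ := AdjRep.exists_centre_affine_quotient G
  haveI := hq; haveI := hQa; haveI := hQl; haveI := hqf; haveI := hqs
  haveI : IsLocallyNoetherian Q.left := LocallyOfFiniteType.isLocallyNoetherian Q.hom
  haveI : LocallyOfFiniteType (q.left ≫ Q.hom) := by rw [Over.w q]; infer_instance
  haveI : LocallyOfFiniteType q.left := locallyOfFiniteType_of_comp q.left Q.hom
  haveI : LocallyOfFinitePresentation q.left := inferInstance
  haveI : Smooth (q.left ≫ Q.hom) := by rw [Over.w q]; infer_instance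
  haveI : Mono i := GrpField.SchImg.mono_of_isClosedImmersion i
  refine ⟨Z, hZg, i, Q, hQg, q, hq, hQa, Groth.Agent.S0115.result q.left Q.hom,
    q.left.surjective.connectedSpace q.left.continuous, hqs, hk, him, inferInstance, fun X g => ?_⟩
  rw [hZ]
  simp only [Category.comp_id]

/-- Maximal tori lift from the quotient by the centre. -/
theorem exists_maxTorus_of_quotient {Z G Q : Over (Spec (CommRingCat.of k))} [GrpObj Z] [GrpObj G] [GrpObj Q]
    [Smooth G.hom] [QuasiCompact G.hom] [ConnectedSpace G.left] [IsAffine Q.left] [Smooth Q.hom] (i : Z ⟶ G) (q : G ⟶ Q)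
    [IsMonHom q] [Surjective q.left] (hk : AlgGrp.IsKernel i q) (hc : Red.IsCentralizerOf (𝟙 G) i)
    (h : ∃ (T : Over (Spec (CommRingCat.of k))) (_ : GrpObj T) (t : T ⟶ Q), Red.IsMaximalTorus t) :
    ∃ (T : Over (Spec (CommRingCat.of k))) (_ : GrpObj T) (t : T ⟶ G), Red.IsMaximalTorus t := by
  haveI : IsAffineHom Q.hom := isAffineHom_of_isAffine _
  haveI : IsSeparated G.hom := GrpField.isSeparated_hom G
  let L := AlgebraicClosure k
  let f := fieldMap (k := k) L
  haveI : Smooth (Red.bc f G).hom := inferInstanceAs (Smooth (pullback.snd G.hom f))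
  haveI : QuasiCompact (Red.bc f G).hom := inferInstanceAs (QuasiCompact (pullback.snd G.hom f))
  haveI : ConnectedSpace (Red.bc f G).left := AutFinOrd.connectedSpace_bc f G
  have hG : SGA3x.HasMaxTorusFpqcLocally G := by
    obtain ⟨T, hT, t, ht⟩ := MTImage.exists_maxTorus_general (Red.bc f G)
    refine ⟨_, f, inferInstance, inferInstance, fun V hV => ⟨f ⁻¹ᵁ V, f.isCompact_preimage hV.isCompact,
      Set.image_preimage_eq _ f.surjective⟩, T, hT, t, ht⟩
  obtain ⟨T', hT', t', ht'⟩ := h
  obtain ⟨T, hT, t, v, ht, -⟩ := (Groth.Agent.S8429.result _ G Q hG q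
    (fun s => MorphismProperty.baseChange_map (P := @Surjective) (Red.geomPt s) q inferInstance)
    (fun X z hz X' x g => by
      obtain ⟨w, hw, -⟩ := hk.exists_lift z (toUnit _) hz
      simpa using (hc.2.2 X z).1 ⟨w, hw⟩ X' x g)).1 T' t' ht'
  exact ⟨T, hT, t, ht⟩

/-- **Affine smooth connected groups have maximal tori.** -/
theorem exists_maxTorus_affine (n : ℕ) : ∀ (G : Over (Spec (CommRingCat.of k))) [GrpObj G] [IsAffine G.left]
    [Smooth G.hom] [ConnectedSpace G.left], topologicalKrullDim G.left < (n : ℕ) →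
    ∃ (T : Over (Spec (CommRingCat.of k))) (_ : GrpObj T) (t : T ⟶ G), Red.IsMaximalTorus t := by
  induction n with
  | zero =>
    intro G _ _ _ _ h
    exfalso
    obtain ⟨d, hd⟩ := Chev.exists_natDim' G
    rw [hd] at h
    exact absurd (Nat.cast_lt (α := WithBot ℕ∞).1 h) (Nat.not_lt_zero d)
  | succ n IH =>
    intro G _ _ _ _ h
    haveI : IsAffineHom G.hom := isAffineHom_of_isAffine _
    rcases finite_or_infinite k with hk | hk
    · obtain ⟨B, _, iB, T, hT, t, -, ht⟩ := Groth.Agent.S3922.result k G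
      exact ⟨T, hT, t ≫ iB, ht⟩
    obtain ⟨Z, _, i, Q, _, q, hq, hQa, hQs, hQc, hqs, hker, hc⟩ := exists_centre_quotient G
    haveI := hq; haveI := hQa; haveI := hQs; haveI := hQc; haveI := hqs
    exact exists_maxTorus_of_quotient i q hker hc (exists_maxTorus_quotient n IH i q hker hc h)

/-- **Smooth algebraic groups have maximal tori** (Grothendieck). -/
theorem exists_maxTorus (G : Over (Spec (CommRingCat.of k))) [GrpObj G] [Smooth G.hom] [QuasiCompact G.hom] :
    ∃ (T : Over (Spec (CommRingCat.of k))) (_ : GrpObj T) (t : T ⟶ G), Red.IsMaximalTorus t := by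
  obtain ⟨C₀, _, c, hcm, hco, hcc, hCs, hCq, hCc⟩ := exists_neutral G
  haveI := hcm; haveI := hco; haveI := hCs; haveI := hCq; haveI := hCc
  obtain ⟨Z, _, i, Q, _, q, hq, hQa, hQs, hQc, hqs, hker, hc⟩ := exists_centre_quotient C₀
  haveI := hq; haveI := hQa; haveI := hQs; haveI := hQc; haveI := hqs
  haveI : IsAffineHom Q.hom := isAffineHom_of_isAffine _
  obtain ⟨d, hd⟩ := Chev.exists_natDim' Q
  obtain ⟨T, hT, t, ht⟩ := exists_maxTorus_of_quotient i q hker hc
    (exists_maxTorus_affine (d + 1) Q (by rw [hd]; exact_mod_cast Nat.lt_succ_self d))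
  exact ⟨T, hT, t ≫ c, isMaximalTorus_comp_open c t ht⟩

end Groth.Agent.GrMax
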