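import Groth.Agent.Comod.Transfer
import Groth.Agent.Takeuchi.Points
import Mathlib.RingTheory.Coalgebra.Convolution

/-!
# A generating matrix of coefficients of a finitely generated Hopf algebra
-/

set_option autoImplicit false
set_option linter.unusedSectionVars false
set_option backward.isDefEq.respectTransparency false

universe u

open TensorProduct WithConv
open Groth.Agent.Takeuchi (Pt push)

noncomputable section

namespace Groth.Agent.GrMax

variable {k : Type u} [Field k] {A : Type u} [CommRing A] [HopfAlgebra k A]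

/-- A matrix of coefficients generating the algebra. -/
structure MatGen (k : Type u) [Field k] (A : Type u) [CommRing A] [HopfAlgebra k A] (n : ℕ) where
  /-- the entries -/
  c : Matrix (Fin n) (Fin n) A
  comul_c : ∀ i j, Coalgebra.comul (R := k) (c i j) = ∑ l, c i l ⊗ₜ[k] c l j
  counit_c : ∀ i j, Coalgebra.counit (R := k) (c i j) = (1 : Matrix (Fin n) (Fin n) k) i j
  gen : Algebra.adjoin k (Set.range fun p : Fin n × Fin n => c p.1 p.2) = ⊤

theorem exists_matGen [Algebra.FiniteType k A] : ∃ n, Nonempty (MatGen k A n) := by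
  classical
  obtain ⟨g, hg⟩ := (inferInstance : Algebra.FiniteType k A).out
  obtain ⟨S₀, hS₀, hfin⟩ := Comod.exists_finite_subcomod_finset (K := k) (C := A) g
  set W : Submodule k A := Comod.ofDSub S₀ with hWdef
  have hW : HopfRep.IsSubcomod (k := k) (A := A) W := Comod.isSubcomod_ofDSub _
  haveI : Module.Finite k W := hfin
  let b := Module.finBasis k W
  set n := Module.finrank k W
  choose z hz using fun j : Fin n => hW (b j : A) (b j).2
  let c : Matrix (Fin n) (Fin n) A := fun i j => TensorProduct.equivFinsuppOfBasisLeft b (z j) i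
  have hcm : ∀ j, Coalgebra.comul (R := k) (b j : A) = ∑ i, (b i : A) ⊗ₜ[k] c i j := by
    intro j
    have h1 : z j = ∑ i, b i ⊗ₜ[k] c i j := by
      apply (TensorProduct.equivFinsuppOfBasisLeft b).injective
      ext r
      simp [c, map_sum, Finsupp.single_apply]
    have h2 := hz j
    rw [h1, map_sum] at h2
    refine h2.symm.trans ?_
    simp
  have key : ∀ (x y : Fin n → A ⊗[k] A), (∑ i, (b i : A) ⊗ₜ[k] x i) = ∑ i, (b i : A) ⊗ₜ[k] y i → x = y := by
    intro x y h
    have hinj : Function.Injective (W.subtype.rTensor (A ⊗[k] A)) :=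
      Module.Flat.rTensor_preserves_injective_linearMap _ W.injective_subtype
    have h2 : (∑ i, b i ⊗ₜ[k] x i) = ∑ i, b i ⊗ₜ[k] y i := hinj (by simpa [map_sum] using h)
    funext r
    simpa [map_sum, Finsupp.single_apply] using congrArg (fun w => TensorProduct.equivFinsuppOfBasisLeft b w r) h2
  have key1 : ∀ (x y : Fin n → k), (∑ i, x i • (b i : A)) = ∑ i, y i • (b i : A) → x = y := by
    intro x y h
    have h2 : (∑ i, x i • b i) = ∑ i, y i • b i := Subtype.ext (by push_cast; exact h)
    funext r
    simpa [map_sum, Finsupp.single_apply] using congrArg (fun w => b.repr w r) h2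
  refine ⟨n, ⟨⟨c, fun i j => ?_, fun i j => ?_, ?_⟩⟩⟩
  · refine congrFun (key (fun i => Coalgebra.comul (R := k) (c i j)) (fun i => ∑ l, c i l ⊗ₜ[k] c l j) ?_) i
    have h := Coalgebra.coassoc_apply (R := k) (b j : A)
    rw [hcm] at h
    simp only [map_sum, LinearMap.rTensor_tmul, hcm, TensorProduct.sum_tmul, TensorProduct.assoc_tmul,
      LinearMap.lTensor_tmul] at h
    rw [Finset.sum_comm] at h
    simp only [TensorProduct.tmul_sum]
    exact h.symm
  · refine congrFun (key1 (fun i => Coalgebra.counit (R := k) (c i j)) (fun i => (1 : Matrix (Fin n) (Fin n) k) i j) ?_) i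
    have h := congrArg (TensorProduct.rid k A) (Coalgebra.lTensor_counit_comul (R := k) (b j : A))
    rw [hcm] at h
    simp only [map_sum, LinearMap.lTensor_tmul, TensorProduct.rid_tmul, one_smul] at h
    rw [h]
    simp [Matrix.one_apply]
  · rw [eq_top_iff, ← hg, Algebra.adjoin_le_iff]
    intro a ha
    have hb : ∀ j, (b j : A) = ∑ i, Coalgebra.counit (R := k) (b i : A) • c i j := by
      intro j
      have h := congrArg (TensorProduct.lid k A) (Coalgebra.rTensor_counit_comul (R := k) (b j : A))
      rw [hcm] at h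
      simp only [map_sum, LinearMap.rTensor_tmul, TensorProduct.lid_tmul, one_smul] at h
      exact h.symm
    have ha' : (a : A) = ∑ j, b.repr ⟨a, hS₀ a ha⟩ j • (b j : A) := by
      have := congrArg Subtype.val (b.sum_repr ⟨a, hS₀ a ha⟩).symm
      push_cast at this
      exact this
    rw [ha']
    refine Subalgebra.sum_mem _ fun j _ => Subalgebra.smul_mem _ ?_ _
    rw [hb]
    exact Subalgebra.sum_mem _ fun i _ => Subalgebra.smul_mem _ (Algebra.subset_adjoin (s := Set.range fun p : Fin n × Fin n => c p.1 p.2) ⟨(i, j), rfl⟩) _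

namespace MatGen

variable {n : ℕ} (C : MatGen k A n) {R : Type u} [CommRing R] [Algebra k R]

/-- The matrix of a point. -/
def mat (g : Pt k A R) : Matrix (Fin n) (Fin n) R := C.c.map g.ofConv

theorem mat_mul (g h : Pt k A R) : C.mat (g * h) = C.mat g * C.mat h := by
  ext i j
  show (g * h) (C.c i j) = _
  rw [Takeuchi.mul_apply, C.comul_c]
  simp [Matrix.mul_apply, mat]

theorem mat_one : C.mat (1 : Pt k A R) = 1 := by
  ext i j
  show (1 : Pt k A R) (C.c i j) = _
  rw [Takeuchi.one_apply, C.counit_c, Matrix.one_apply, Matrix.one_apply]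
  split_ifs <;> simp

theorem mat_injective : Function.Injective (C.mat (R := R)) := fun g h e =>
  WithConv.ext (AlgHom.ext_of_adjoin_eq_top C.gen (by
    rintro _ ⟨⟨i, j⟩, rfl⟩
    exact congrFun (congrFun e i) j))

theorem mat_push {R' : Type u} [CommRing R'] [Algebra k R'] (φ : R →ₐ[k] R') (g : Pt k A R) :
    C.mat (push φ g) = (C.mat g).map φ := rfl

theorem commute_iff (g h : Pt k A R) : g * h = h * g ↔ C.mat g * C.mat h = C.mat h * C.mat g := by
  rw [← mat_mul, ← mat_mul]
  exact C.mat_injective.eq_iff.symm

end MatGen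

end Groth.Agent.GrMax
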