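import Mathlib

/-!
# A rational polynomial giving the semisimple part of a matrix over an algebraic closure

In characteristic `p` a power `p^m` of the matrix, in characteristic zero the Jordan–Chevalley
polynomial; in both cases the commutator with the value is nilpotently related to the commutator
with the matrix.
-/

set_option autoImplicit false
set_option linter.unusedSectionVars false

universe u

open Polynomial

noncomputable section

namespace Groth.Agent.GrMax

variable {k : Type u} [Field k] {n : ℕ}

/-- The commutator with a matrix. -/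
def adM (D : Matrix (Fin n) (Fin n) k) : Module.End k (Matrix (Fin n) (Fin n) k) :=
  LinearMap.mulLeft k D - LinearMap.mulRight k D

theorem adM_apply (D V : Matrix (Fin n) (Fin n) k) : adM D V = D * V - V * D := rfl

/-- A vector killed by some power of the commutator is killed by the `n²`-th. -/
theorem adM_pow_eq_zero {D V : Matrix (Fin n) (Fin n) k} {N : ℕ} (h : ((adM D) ^ N) V = 0) :
    ((adM D) ^ (n * n)) V = 0 := by
  have h1 : V ∈ LinearMap.ker ((adM D) ^ N) := h
  have h2 := Module.End.ker_pow_le_ker_pow_finrank (adM D) N h1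
  rw [Module.finrank_matrix, Fintype.card_fin, Module.finrank_self, mul_one] at h2
  exact h2

theorem adM_sub_pow (p m : ℕ) [Fact p.Prime] [CharP k p] (D V : Matrix (Fin n) (Fin n) k) :
    ((adM D) ^ (p ^ m)) V = adM (D ^ (p ^ m)) V := by
  rcases Nat.eq_zero_or_pos n with rfl | hn
  · exact Subsingleton.elim _ _
  haveI : Nonempty (Fin n) := ⟨⟨0, hn⟩⟩
  haveI : CharP (Module.End k (Matrix (Fin n) (Fin n) k)) p :=
    charP_of_injective_algebraMap (RingHom.injective (algebraMap k (Module.End k (Matrix (Fin n) (Fin n) k)))) p
  rw [adM, sub_pow_char_pow_of_commute _ _ (LinearMap.commute_mulLeft_right D D), LinearMap.pow_mulLeft,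
    LinearMap.pow_mulRight]
  rfl

variable (L : Type u) [Field L] [IsAlgClosed L] [Algebra k L]

/-- What is needed of the semisimple part. -/
structure SSPoly (D : Matrix (Fin n) (Fin n) k) where
  /-- the polynomial -/
  q : k[X]
  /-- its effect on eigenvalues -/
  σ : L → L
  inj : Function.Injective σ
  add : ∀ x y, σ (x + y) = σ x + σ y
  /-- the eigenvalues -/
  Λ : Finset L
  eval_q : ∀ l ∈ Λ, aeval l q = σ l
  /-- a multiplicity bound -/
  N : ℕ
  kill : aeval (D.map (algebraMap k L)) (∏ l ∈ Λ, (X - C l) ^ N) = 0
  kill' : aeval (aeval (D.map (algebraMap k L)) q) (∏ l ∈ Λ, (X - C (σ l))) = 0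
  ad_zero : ∀ V : Matrix (Fin n) (Fin n) k, adM (aeval D q) V = 0 → ∃ N : ℕ, ((adM D) ^ N) V = 0

theorem exists_ssPoly (D : Matrix (Fin n) (Fin n) k) : Nonempty (SSPoly L D) := by
  classical
  set DL := D.map (algebraMap k L) with hDL
  let Λ : Finset L := DL.charpoly.roots.toFinset
  have hsplit : DL.charpoly = (DL.charpoly.roots.map fun a => X - C a).prod :=
    (IsAlgClosed.splits _).eq_prod_roots_of_monic DL.charpoly_monic
  have hkill : ∀ N, n ≤ N → aeval DL (∏ l ∈ Λ, (X - C l) ^ N) = 0 := by
    intro N hN
    have hdvd : DL.charpoly ∣ ∏ l ∈ Λ, (X - C l) ^ N := by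
      rw [hsplit, Finset.prod_multiset_map_count]
      refine Finset.prod_dvd_prod_of_dvd _ _ fun l _ => pow_dvd_pow _ (le_trans ?_ hN)
      refine (Multiset.count_le_card l _).trans ((card_roots' _).trans (le_of_eq ?_))
      rw [Matrix.charpoly_natDegree_eq_dim, Fintype.card_fin]
    exact aeval_eq_zero_of_dvd_aeval_eq_zero hdvd (Matrix.aeval_self_charpoly DL)
  rcases (CharP.exists k) with ⟨p, hp⟩
  rcases CharP.char_is_prime_or_zero k p with hprime | rfl
  · haveI : Fact p.Prime := ⟨hprime⟩
    haveI : CharP L p := charP_of_injective_algebraMap (algebraMap k L).injective p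
    haveI : ExpChar L p := ExpChar.prime hprime
    refine ⟨⟨X ^ (p ^ n), iterateFrobenius L p n, (iterateFrobenius L p n).injective,
      fun x y => map_add _ x y, Λ, fun l _ => by simp [iterateFrobenius_def], p ^ n, hkill _ (Nat.lt_pow_self hprime.one_lt).le, ?_,
      fun V hV => ⟨p ^ n, ?_⟩⟩⟩
    · rw [← hkill _ (Nat.lt_pow_self hprime.one_lt (n := n)).le, map_pow, aeval_X,
        show aeval (DL ^ p ^ n) (∏ l ∈ Λ, (X - C (iterateFrobenius L p n l))) =
          aeval DL ((∏ l ∈ Λ, (X - C (iterateFrobenius L p n l))).comp (X ^ p ^ n)) from by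
            rw [aeval_comp, map_pow, aeval_X]]
      congr 1
      rw [prod_comp]
      refine Finset.prod_congr rfl fun l _ => ?_
      rw [sub_pow_char_pow, sub_comp, X_comp, C_comp, iterateFrobenius_def, map_pow]
    · rw [adM_sub_pow p n]
      rwa [map_pow, aeval_X] at hV
  · haveI : CharZero k := CharP.charP_to_charZero k
    obtain ⟨nn, hnn, s, hs, hnil, hss, hsum⟩ := Module.End.exists_isNilpotent_isSemisimple (f := Matrix.toLin' D)
    obtain ⟨q, hq⟩ : ∃ q : k[X], aeval (Matrix.toLin' D) q = s := by
      rw [Algebra.adjoin_singleton_eq_range_aeval] at hs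
      exact hs
    let Φ := Matrix.toLinAlgEquiv' (R := k) (n := Fin n)
    have hΦ : Φ D = Matrix.toLin' D := rfl
    have hqs : Φ (aeval D q) = s := by rw [← aeval_algHom_apply, hΦ, hq]
    have hnD : IsNilpotent (D - aeval D q) := by
      rw [← IsNilpotent.map_iff (f := Φ) Φ.injective, map_sub, hqs, hΦ, hsum, add_sub_cancel_right]
      exact hnil
    have hminp : Squarefree (minpoly k (aeval D q)) := by
      rw [← minpoly.algEquiv_eq Φ, hqs]
      exact hss.minpoly_squarefree
    let φ : Matrix (Fin n) (Fin n) k →ₐ[k] Matrix (Fin n) (Fin n) L := (Algebra.ofId k L).mapMatrix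
    have hφD : φ D = DL := rfl
    have hnL : IsNilpotent (DL - aeval DL (q.map (algebraMap k L))) := by
      have := hnD.map φ
      rwa [map_sub, ← aeval_algHom_apply, hφD, ← aeval_map_algebraMap L DL q] at this
    set qL := q.map (algebraMap k L)
    have heval : ∀ l ∈ Λ, aeval l q = l := by
      intro l hl
      obtain ⟨m, hm⟩ := hnL
      have hroot : Matrix.charpoly DL |>.IsRoot l := (mem_roots DL.charpoly_monic.ne_zero).1 (Multiset.mem_toFinset.1 hl)
      have h1 : aeval DL ((X - qL) ^ m) = 0 := by rw [map_pow, map_sub, aeval_X, hm]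
      have h2 : minpoly L DL ∣ (X - qL) ^ m := minpoly.dvd L DL h1
      have h3 : (minpoly L DL).IsRoot l := by
        rcases Nat.eq_zero_or_pos n with rfl | hn
        · simp [Matrix.charpoly, Matrix.det_isEmpty] at hroot
        · rw [← Matrix.minpoly_toLin']
          refine (Module.End.hasEigenvalue_iff_isRoot).1 ((Module.End.hasEigenvalue_iff_isRoot_charpoly _ _).2 ?_)
          rwa [Matrix.charpoly_toLin']
      have h4 := IsRoot.dvd h3 h2
      rw [IsRoot, eval_pow, pow_eq_zero_iff', eval_sub, eval_X, sub_eq_zero] at h4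
      rw [← eval_map_algebraMap]
      exact h4.1.symm
    refine ⟨⟨q, id, Function.injective_id, fun _ _ => rfl, Λ, heval, n, hkill n le_rfl, ?_, fun V hV => ?_⟩⟩
    · let P : L[X] := ∏ l ∈ Λ, (X - C l)
      have hP : IsNilpotent (aeval DL P) := ⟨n, by rw [← map_pow, ← Finset.prod_pow]; exact hkill n le_rfl⟩
      set eL := aeval DL q
      have heL : eL = aeval DL qL := (aeval_map_algebraMap L DL q).symm
      have hPq : IsNilpotent (aeval eL P) := by
        obtain ⟨w, hw⟩ : (X - qL) ∣ P - P.comp qL := by
          have := Polynomial.sub_dvd_eval_sub (X : L[X]) qL (P.map C)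
          rwa [eval_map, eval_map, show eval₂ C (X : L[X]) P = P from eval₂_C_X, show eval₂ C qL P = P.comp qL from rfl] at this
        have e : aeval eL P = aeval DL P - (DL - eL) * aeval DL w := by
          rw [heL, ← aeval_comp, show DL - aeval DL qL = aeval DL (X - qL) by rw [map_sub, aeval_X], ← map_mul, ← hw,
            map_sub]
          abel
        rw [e]
        have hc : ∀ a b : L[X], Commute (aeval DL a) (aeval DL b) := fun a b => (Commute.all a b).map (aeval DL)
        have hXq : DL - eL = aeval DL (X - qL) := by rw [map_sub, aeval_X, heL]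
        rw [hXq]
        refine Commute.isNilpotent_sub (by rw [← map_mul]; exact hc _ _) hP ((hc _ _).isNilpotent_mul_right ?_)
        rw [← hXq, heL]
        exact hnL
      obtain ⟨m, hm⟩ := hPq
      rw [← map_pow] at hm
      have hsq : Squarefree (minpoly L eL) := by
        refine Separable.squarefree ?_
        have hsep : (minpoly k (aeval D q)).Separable := PerfectField.separable_iff_squarefree.2 hminp
        refine (hsep.map (f := algebraMap k L)).of_dvd (minpoly.dvd L eL ?_)
        rw [aeval_map_algebraMap, show eL = φ (aeval D q) by rw [← aeval_algHom_apply, hφD], aeval_algHom_apply,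
          minpoly.aeval, map_zero]
      exact aeval_eq_zero_of_dvd_aeval_eq_zero (hsq.isRadical m P (minpoly.dvd L eL hm)) (minpoly.aeval L eL)
    · set e := aeval D q
      obtain ⟨m, hm⟩ : IsNilpotent (adM (D - e)) := by
        refine Commute.isNilpotent_sub (LinearMap.commute_mulLeft_right _ _) ?_ ?_
        · obtain ⟨m, hm⟩ := hnD
          exact ⟨m, by rw [LinearMap.pow_mulLeft, hm, LinearMap.mulLeft_zero_eq_zero]⟩
        · obtain ⟨m, hm⟩ := hnD
          exact ⟨m, by rw [LinearMap.pow_mulRight, hm, LinearMap.mulRight_zero_eq_zero]⟩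
      refine ⟨m, ?_⟩
      have hce : Commute D e := by
        show Commute D (aeval D q)
        conv_lhs => rw [← aeval_X (R := k) D]
        exact (Commute.all X q).map (aeval D)
      have hcomm : Commute (adM e) (adM (D - e)) := by
        have h1 : Commute e (D - e) := hce.symm.sub_right (Commute.refl e)
        show Commute (LinearMap.mulLeft k e - LinearMap.mulRight k e) (LinearMap.mulLeft k (D - e) - LinearMap.mulRight k (D - e))
        refine Commute.sub_left ?_ ?_ <;> refine Commute.sub_right ?_ ?_
        · exact LinearMap.ext fun x => by simp [← mul_assoc, h1.eq]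
        · exact LinearMap.commute_mulLeft_right _ _
        · exact (LinearMap.commute_mulLeft_right _ _).symm
        · exact LinearMap.ext fun x => by simp [mul_assoc, h1.eq]
      have hV' : ∀ j : ℕ, ((adM D) ^ j) V = ((adM (D - e)) ^ j) V ∧ adM e (((adM (D - e)) ^ j) V) = 0 := by
        intro j
        induction j with
        | zero => exact ⟨rfl, hV⟩
        | succ j ih =>
          have hsplit' : adM D = adM (D - e) + adM e := LinearMap.ext fun x => by
            simp [adM_apply, sub_mul, mul_sub]
            abel
          refine ⟨?_, ?_⟩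
          · rw [pow_succ', Module.End.mul_apply, ih.1, hsplit', LinearMap.add_apply, ih.2, add_zero, pow_succ', Module.End.mul_apply]
          · rw [pow_succ', Module.End.mul_apply, ← Module.End.mul_apply, hcomm.eq, Module.End.mul_apply, ih.2, map_zero]
      rw [(hV' m).1, hm, LinearMap.zero_apply]

end Groth.Agent.GrMax
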