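import Groth.Agent.Chev.CentTorus

/-!
# Weights of a torus on the cotangent space control its weights on the coordinate ring
-/

set_option autoImplicit false
set_option linter.unusedSectionVars false
set_option backward.isDefEq.respectTransparency false

universe u

open TensorProduct WithConv
open Groth.Agent.Takeuchi (Pt push)


noncomputable section

namespace Groth.Agent.GrMax

open Chev.CentTorus

variable {k : Type u} [Field k] {A : Type u} [CommRing A] [HopfAlgebra k A] {M : Type u} [CommGroup M]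
  (t : A →ₐc[k] MonoidAlgebra k M)

local notation "εA" => Bialgebra.counitAlgHom k A

/-- An `ε`-derivation. -/
def IsTan (d : A →ₗ[k] k) : Prop := ∀ a b, d (a * b) = εA a * d b + d a * εA b

theorem IsTan.map_one {d : A →ₗ[k] k} (hd : IsTan d) : d 1 = 0 := by
  have := hd 1 1
  simpa using this

/-- A non-trivial weight vector vanishes at the unit. -/
theorem counit_eq_zero {m : M} {x : A} (hx : IsWeight t m x) (hm : m ≠ 1) : εA x = 0 := by
  classical
  have h1 : conj t (Algebra.ofId k (MonoidAlgebra k M)) (AlgHom.id k _) (1 : Pt k A k) = 1 := by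
    rw [conj, Takeuchi.push_one, _root_.mul_one, mul_inv_cancel]
  have h := congrArg (fun z : Pt k A (MonoidAlgebra k M) => z.ofConv x) h1
  rw [conj_apply t hx] at h
  have h2 := congrArg (fun z : MonoidAlgebra k M => z.coeff m) h
  simpa [Algebra.ofId_apply, AlgHom.convOne_apply, hm, Ne.symm hm, MonoidAlgebra.one_def] using h2

/-- The derivations detect the square of the augmentation ideal. -/
theorem exists_tan {x : A} (hx : εA x = 0) (hx2 : x ∉ (RingHom.ker (εA : A →+* k)) ^ 2) :
    ∃ d : A →ₗ[k] k, IsTan d ∧ d x ≠ 0 := by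
  set I := RingHom.ker (εA : A →+* k) with hI
  let J : Submodule k A := (I ^ 2).restrictScalars k
  let P : A →ₗ[k] A ⧸ J := J.mkQ ∘ₗ (LinearMap.id - (Algebra.linearMap k A) ∘ₗ (εA : A →ₐ[k] k).toLinearMap)
  have hPx : P x ≠ 0 := by
    intro h
    apply hx2
    have h2 : x - algebraMap k A (εA x) ∈ I ^ 2 := (Submodule.Quotient.mk_eq_zero J).1 h
    simpa [hx] using h2
  obtain ⟨f, hf⟩ : ∃ f : (A ⧸ J) →ₗ[k] k, f (P x) ≠ 0 := by
    by_contra! h
    exact hPx ((Module.forall_dual_apply_eq_zero_iff k _).1 h)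
  refine ⟨f ∘ₗ P, fun a b => ?_, hf⟩
  have hsub : ∀ a, a - algebraMap k A (εA a) ∈ I := fun a => by
    rw [hI, RingHom.mem_ker]
    simp
  have key : P (a * b) = εA a • P b + εA b • P a := by
    show J.mkQ _ = εA a • J.mkQ _ + εA b • J.mkQ _
    refine ((Submodule.Quotient.eq J).2 ?_).trans ((map_add J.mkQ _ _).trans (congrArg₂ _ (map_smul _ _ _) (map_smul _ _ _)))
    show _ ∈ I ^ 2
    convert (pow_two I ▸ Ideal.mul_mem_mul (hsub a) (hsub b) : _ ∈ I ^ 2) using 1
    simp only [LinearMap.sub_apply, LinearMap.id_apply, LinearMap.comp_apply, Algebra.linearMap_apply, AlgHom.toLinearMap_apply,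
      _root_.map_mul, Algebra.smul_def]
    ring
  simp only [LinearMap.comp_apply, key, map_add, map_smul, smul_eq_mul]
  ring

/-- If the weights outside a subgroup vanish on the cotangent space they vanish. -/
theorem eq_zero_of_weight_notMem [IsNoetherianRing A] [IsDomain A] (K : Subgroup M)
    (h : ∀ (m : M) (x : A), IsWeight t m x → m ∉ K → ∀ d : A →ₗ[k] k, IsTan d → d x = 0)
    {m : M} {x : A} (hx : IsWeight t m x) (hm : m ∉ K) : x = 0 := by
  classical
  set I := RingHom.ker (εA : A →+* k) with hI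
  have hsq : ∀ (m : M) (x : A), IsWeight t m x → m ∉ K → x ∈ I ^ 2 := fun m x hx hm => by
    by_contra hc
    obtain ⟨d, hd, hdx⟩ := exists_tan (counit_eq_zero t hx (fun e => hm (e ▸ K.one_mem))) hc
    exact hdx (h m x hx hm d hd)
  let S := A ⊗[k] MonoidAlgebra k (M ⧸ K)
  let q : MonoidAlgebra k M →ₐ[k] MonoidAlgebra k (M ⧸ K) := MonoidAlgebra.mapDomainAlgHom k k (QuotientGroup.mk' K)
  let φ : A →ₐ[k] S := (Algebra.TensorProduct.map (AlgHom.id k A) q).comp (coact t)
  let i : A →ₐ[k] S := Algebra.TensorProduct.includeLeft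
  let 𝔪 : Ideal S := I.map i
  have hφ : ∀ (m : M) (x : A), IsWeight t m x → φ x = x ⊗ₜ MonoidAlgebra.single (m : M ⧸ K) 1 := by
    intro m x hx
    show Algebra.TensorProduct.map _ q (coact t x) = _
    rw [hx, Algebra.TensorProduct.map_tmul]
    simp [q]
  have hδ : ∀ y ∈ I, φ y - i y ∈ 𝔪 ^ 2 := by
    intro y hy
    obtain ⟨s, f, hf, rfl⟩ := exists_weights t y
    rw [map_sum, map_sum, ← Finset.sum_sub_distrib]
    refine Ideal.sum_mem _ fun m' hm' => ?_
    rw [hφ m' _ (hf m' hm')]
    by_cases hK : m' ∈ K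
    · rw [(QuotientGroup.eq_one_iff m').2 hK, ← MonoidAlgebra.one_def, show i (f m') = f m' ⊗ₜ 1 from rfl, sub_self]
      exact zero_mem _
    · have h2 : (f m') ⊗ₜ[k] (1 : MonoidAlgebra k (M ⧸ K)) ∈ 𝔪 ^ 2 := by
        show i (f m') ∈ 𝔪 ^ 2
        rw [← Ideal.map_pow]
        exact Ideal.mem_map_of_mem _ (hsq m' _ (hf m' hm') hK)
      refine sub_mem ?_ h2
      have := Ideal.mul_mem_right ((1 : A) ⊗ₜ[k] MonoidAlgebra.single (m' : M ⧸ K) (1 : k)) _ h2
      rwa [Algebra.TensorProduct.tmul_mul_tmul, _root_.mul_one, one_mul] at this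
  have hφI : ∀ y ∈ I, φ y ∈ 𝔪 := fun y hy => by
    have := add_mem (Ideal.pow_le_self two_ne_zero (hδ y hy)) (Ideal.mem_map_of_mem i hy)
    rwa [sub_add_cancel] at this
  have hpow : ∀ n : ℕ, ∀ y ∈ I ^ (n + 1), φ y - i y ∈ 𝔪 ^ (n + 2) := by
    intro n
    induction n with
    | zero => intro y hy; exact hδ y (by simpa using hy)
    | succ n ih =>
      intro y hy
      rw [pow_succ] at hy
      refine Submodule.mul_induction_on hy (fun a ha b hb => ?_) (fun a b ha hb => ?_)
      · rw [map_mul, map_mul, show φ a * φ b - i a * i b = (φ a - i a) * φ b + i a * (φ b - i b) by ring]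
        refine add_mem ?_ ?_
        · rw [show n + 1 + 2 = (n + 2) + 1 from rfl, Submodule.pow_succ]
          exact Ideal.mul_mem_mul (ih a ha) (hφI b hb)
        · rw [show n + 1 + 2 = (n + 1) + 2 from rfl, Submodule.pow_add _ two_ne_zero]
          refine Ideal.mul_mem_mul ?_ (hδ b hb)
          show i a ∈ 𝔪 ^ (n + 1)
          rw [← Ideal.map_pow]
          exact Ideal.mem_map_of_mem _ ha
      · rw [map_add, map_add, show φ a + φ b - (i a + i b) = (φ a - i a) + (φ b - i b) by ring]
        exact add_mem ha hb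
  -- the coefficient at the class of `m`
  let B := MonoidAlgebra.basis (M ⧸ K) k
  let cf : S →ₗ[A] A := (TensorProduct.AlgebraTensorModule.rid k A A).toLinearMap ∘ₗ
    (B.coord (m : M ⧸ K)).baseChange A
  have hcf : ∀ (r : ℕ) (z : S), z ∈ 𝔪 ^ r → cf z ∈ I ^ r := by
    intro r z hz
    have h2 : z ∈ Ideal.map (algebraMap A S) (I ^ r) := by
      rw [Ideal.map_pow]; exact hz
    rw [Ideal.map_pow] at h2
    have h3 : z ∈ (I ^ r) • (⊤ : Submodule A S) := by
      rw [← Ideal.map_pow] at h2
      rw [Ideal.smul_top_eq_map]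
      exact h2
    have h4 : cf z ∈ (I ^ r) • LinearMap.range cf := by
      rw [← Submodule.map_top, ← Submodule.map_smul'']
      exact Submodule.mem_map_of_mem h3
    exact Submodule.smul_le.2 (fun a ha b _ => Ideal.mul_mem_right b _ ha) h4
  have hne : (m : M ⧸ K) ≠ 1 := fun e => hm ((QuotientGroup.eq_one_iff m).1 e)
  have hmem : ∀ n : ℕ, x ∈ I ^ (n + 1) := by
    intro n
    induction n with
    | zero =>
      rw [pow_one, hI, RingHom.mem_ker]
      exact counit_eq_zero t hx (fun e => hm (e ▸ K.one_mem))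
    | succ n ih =>
      have h2 := hcf _ _ (hpow n x ih)
      rw [hφ m x hx] at h2
      have e1 : cf (x ⊗ₜ[k] MonoidAlgebra.single (m : M ⧸ K) 1 - i x) = x := by
        have hval : ∀ z : MonoidAlgebra k (M ⧸ K), cf (x ⊗ₜ[k] z) = B.coord (m : M ⧸ K) z • x := fun z => by
          show TensorProduct.AlgebraTensorModule.rid k A A ((B.coord (m : M ⧸ K)).baseChange A (x ⊗ₜ[k] z)) = _
          rw [LinearMap.baseChange_tmul]
          exact TensorProduct.AlgebraTensorModule.rid_tmul (R := k) (A := A) (M := A) _ _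
        rw [map_sub, show i x = x ⊗ₜ[k] (1 : MonoidAlgebra k (M ⧸ K)) from rfl, hval, hval]
        simp [B, MonoidAlgebra.basis, hne, Ne.symm hne, MonoidAlgebra.one_def]
      rwa [e1] at h2
  have hproper : I ≠ ⊤ := RingHom.ker_ne_top _
  have : x ∈ (⊥ : Ideal A) := by
    rw [← Ideal.iInf_pow_eq_bot_of_isDomain I hproper, Submodule.mem_iInf]
    intro n
    exact Ideal.pow_le_pow_right (Nat.le_succ n) (hmem n)
  exact this

/-- The point of the subgroup orthogonal to all weights commutes with the universal point. -/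
theorem commute_of_weights [IsNoetherianRing A] [IsDomain A] (K : Subgroup M)
    (h : ∀ (m : M) (x : A), IsWeight t m x → m ∉ K → ∀ d : A →ₗ[k] k, IsTan d → d x = 0) :
    conj t (Algebra.TensorProduct.includeLeft : A →ₐ[k] A ⊗[k] MonoidAlgebra k (M ⧸ K))
        ((Algebra.TensorProduct.includeRight : MonoidAlgebra k (M ⧸ K) →ₐ[k] A ⊗[k] MonoidAlgebra k (M ⧸ K)).comp
          (MonoidAlgebra.mapDomainAlgHom k k (QuotientGroup.mk' K))) (toConv (AlgHom.id k A)) =
      push (Algebra.TensorProduct.includeLeft : A →ₐ[k] A ⊗[k] MonoidAlgebra k (M ⧸ K)) (toConv (AlgHom.id k A)) := by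
  classical
  refine WithConv.ext (AlgHom.ext fun a => ?_)
  obtain ⟨s, f, hf, rfl⟩ := exists_weights t a
  rw [map_sum, map_sum]
  refine Finset.sum_congr rfl fun m hm => ?_
  rw [conj_apply t (hf m hm)]
  show f m ⊗ₜ[k] (1 : MonoidAlgebra k (M ⧸ K)) * _ = f m ⊗ₜ[k] 1
  by_cases hK : m ∈ K
  · rw [AlgHom.comp_apply]
    simp [(QuotientGroup.eq_one_iff m).2 hK, ← MonoidAlgebra.one_def]
  · rw [eq_zero_of_weight_notMem t K h (hf m hm) hK]
    simp

end Groth.Agent.GrMax
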