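import Groth.Agent.GrMax.DerivPoint
import Groth.Agent.GrMax.SemisimplePart
import Groth.Agent.GrMax.MatCoeff
import Groth.Agent.GrMax.Weights

/-!
# The multiplicative point of the semisimple part of a tangent vector and its centralizer
-/

set_option autoImplicit false
set_option linter.unusedSectionVars false
set_option backward.isDefEq.respectTransparency false
set_option maxHeartbeats 1000000

universe u

open TensorProduct WithConv Polynomial
open scoped Groth.Agent.Takeuchi
open Groth.Agent.Takeuchi (Pt push)

noncomputable section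

namespace Groth.Agent.GrMax

variable {k : Type u} [Field k] {A : Type u} [CommRing A] [HopfAlgebra k A] {n : ℕ} (C : MatGen k A n)
  (L : Type u) [Field L] [IsAlgClosed L] [Algebra k L]

/-- The derivation of `L ⊗ A` of a tangent vector. -/
def tanDeriv {d : A →ₗ[k] k} (hd : IsTan d) : Derivation L (L ⊗[k] A) (L ⊗[k] A) :=
  let ℓ : A →ₗ[k] A := (TensorProduct.rid k A).toLinearMap ∘ₗ d.lTensor A ∘ₗ Coalgebra.comul
  have hℓ : ∀ a b, ℓ (a * b) = a * ℓ b + ℓ a * b := by
    let f : A ⊗[k] A →ₗ[k] A := (TensorProduct.rid k A).toLinearMap ∘ₗ d.lTensor A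
    let e : A ⊗[k] A →ₐ[k] A :=
      Algebra.TensorProduct.lift (AlgHom.id k A) ((Algebra.ofId k A).comp (Bialgebra.counitAlgHom k A)) fun _ _ => Commute.all _ _
    have he : ∀ a, e (Coalgebra.comul (R := k) a) = a := fun a => by
      have h := congrArg (TensorProduct.rid k A) (Coalgebra.lTensor_counit_comul (R := k) a)
      rw [TensorProduct.rid_tmul, one_smul] at h
      refine Eq.trans ?_ h
      generalize Coalgebra.comul (R := k) a = z
      induction z using TensorProduct.induction_on with
      | zero => simp
      | tmul x y => simp [e, Algebra.smul_def, mul_comm]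
      | add x y hx hy => simp only [map_add, hx, hy]
    have hf : ∀ y z, f (y * z) = e y * f z + f y * e z := by
      intro y z
      induction y using TensorProduct.induction_on with
      | zero => simp
      | add a b ha hb => simp only [add_mul, map_add, ha, hb]; ring
      | tmul a r =>
        induction z using TensorProduct.induction_on with
        | zero => simp
        | add a b ha hb => simp only [mul_add, map_add, ha, hb]; ring
        | tmul b s => simp [f, e, hd r s, Algebra.smul_def]; ring
    intro a b
    show f (Coalgebra.comul (R := k) (a * b)) = a * f (Coalgebra.comul (R := k) b) + f (Coalgebra.comul (R := k) a) * b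
    rw [Bialgebra.comul_mul, hf, he, he]
  Derivation.mk' (ℓ.baseChange L) fun x y => by
    induction x using TensorProduct.induction_on with
    | zero => simp
    | add a b ha hb => simp only [add_mul, map_add, ha, hb, add_smul, smul_add]; abel
    | tmul l a =>
      induction y using TensorProduct.induction_on with
      | zero => simp
      | add a b ha hb => simp only [mul_add, map_add, ha, hb, add_smul, smul_add]; abel
      | tmul l' b =>
        simp [hℓ, smul_eq_mul, Algebra.TensorProduct.tmul_mul_tmul, TensorProduct.tmul_add]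
        rw [mul_comm l' l, mul_comm (ℓ a) b]

theorem tanDeriv_matrix {d : A →ₗ[k] k} (hd : IsTan d) :
    (C.c.map (fun a => (1 : L) ⊗ₜ[k] a)).map (tanDeriv L hd) =
      C.c.map (fun a => (1 : L) ⊗ₜ[k] a) * ((C.c.map d).map (algebraMap k L)).map (algebraMap L (L ⊗[k] A)) := by
  ext i j
  simp only [Matrix.map_apply, Matrix.mul_apply]
  show ((TensorProduct.rid k A).toLinearMap ∘ₗ d.lTensor A ∘ₗ Coalgebra.comul).baseChange L ((1 : L) ⊗ₜ[k] C.c i j) = _
  rw [LinearMap.baseChange_tmul, LinearMap.comp_apply, LinearMap.comp_apply, C.comul_c]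
  simp [map_sum, TensorProduct.tmul_sum, Algebra.TensorProduct.algebraMap_apply, Algebra.TensorProduct.tmul_mul_tmul,
    Algebra.algebraMap_eq_smul_one, TensorProduct.smul_tmul']

theorem coeff_sum_apply {G R ι : Type*} [Semiring R] (s : Finset ι) (f : ι → MonoidAlgebra R G) (b : G) :
    (∑ x ∈ s, f x).coeff b = ∑ x ∈ s, (f x).coeff b := by
  simp [Finsupp.finsetSum_apply]

theorem coeff_single_eq_ite {G R : Type*} [Semiring R] [DecidableEq G] (a b : G) (r : R) :
    (MonoidAlgebra.single a r).coeff b = if a = b then r else 0 := by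
  simp [Finsupp.single_apply]

/-- **The point of the semisimple part and its centralizer.** -/
theorem exists_ssPoint {d : A →ₗ[k] k} (hd : IsTan d) (P : SSPoly L (C.c.map d)) :
    ∃ (M : Type u) (_ : CommGroup M), Group.FG M ∧ (∀ p : ℕ, p.Prime → CharP L p → ∀ m : M, m ^ p = 1) ∧
      (CharZero L → ∀ (m : M) (r : ℕ), r ≠ 0 → m ^ r = 1 → m = 1) ∧
      ∃ ψ : A →ₐ[k] MonoidAlgebra L M,
        (∀ (R : Type u) [CommRing R] [Algebra k R] [Algebra L R] [IsScalarTower k L R] (χ χ' : M →* R),
          (toConv (((MonoidAlgebra.lift L R M (χ * χ')).restrictScalars k).comp ψ) : Pt k A R) =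
            toConv (((MonoidAlgebra.lift L R M χ).restrictScalars k).comp ψ) *
              toConv (((MonoidAlgebra.lift L R M χ').restrictScalars k).comp ψ)) ∧
        (∀ (R : Type u) [CommRing R] [Algebra k R] [Algebra L R] [IsScalarTower k L R],
          (toConv (((MonoidAlgebra.lift L R M 1).restrictScalars k).comp ψ) : Pt k A R) = 1) ∧
        ∀ (R : Type u) [CommRing R] [Algebra k R] [Algebra L R] [IsScalarTower k L R] (x : Pt k A R),
          (C.mat x * (aeval (C.c.map d) P.q).map (algebraMap k R) = (aeval (C.c.map d) P.q).map (algebraMap k R) * C.mat x) ↔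
          ∀ (S : Type u) [CommRing S] [Algebra k S] [Algebra L S] [IsScalarTower k L S] (φ : R →ₐ[L] S) (χ : M →* S),
            push (φ.restrictScalars k) x * toConv (((MonoidAlgebra.lift L S M χ).restrictScalars k).comp ψ) =
              toConv (((MonoidAlgebra.lift L S M χ).restrictScalars k).comp ψ) * push (φ.restrictScalars k) x := by
  classical
  set D := (C.c.map d).map (algebraMap k L) with hD
  set qL := P.q.map (algebraMap k L)
  have hq : ∀ l ∈ P.Λ, qL.eval l = P.σ l := fun l hl => by rw [eval_map_algebraMap]; exact P.eval_q l hl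
  have hqD : aeval D qL = (aeval (C.c.map d) P.q).map (algebraMap k L) := by
    rw [aeval_map_algebraMap]
    exact aeval_algHom_apply ((Algebra.ofId k L).mapMatrix) (C.c.map d) P.q
  obtain ⟨E, hE1, hE2, hE3, hE4, hE5, hE6⟩ := exists_projectors D P.Λ P.σ P.inj.injOn qL hq P.kill
    (by rw [aeval_map_algebraMap]; exact P.kill')
  let Γ : AddSubgroup L := AddSubgroup.closure (P.Λ : Set L)
  let ι : Multiplicative Γ → L := fun m => ((Multiplicative.toAdd m : Γ) : L)
  let μ : L → Multiplicative Γ := fun l =>
    if h : l ∈ P.Λ then Multiplicative.ofAdd ⟨l, AddSubgroup.subset_closure h⟩ else 1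
  have hμ : ∀ l ∈ P.Λ, ι (μ l) = l := fun l hl => by simp [ι, μ, hl]
  let εL : L ⊗[k] A →ₐ[L] L :=
    Algebra.TensorProduct.lift (AlgHom.id L L) ((Algebra.ofId k L).comp (Bialgebra.counitAlgHom k A)) fun _ _ => Commute.all _ _
  let c' := C.c.map fun a => (1 : L) ⊗ₜ[k] a
  have hgen : Algebra.adjoin L (Set.range fun p : Fin n × Fin n => c' p.1 p.2) = ⊤ := by
    rw [eq_top_iff]
    intro z hz
    clear hz
    induction z using TensorProduct.induction_on with
    | zero => exact zero_mem _
    | add x y hx hy => exact add_mem hx hy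
    | tmul l a =>
      rw [show l ⊗ₜ[k] a = l • ((1 : L) ⊗ₜ[k] a) by rw [TensorProduct.smul_tmul', smul_eq_mul, _root_.mul_one]]
      refine Subalgebra.smul_mem _ ?_ _
      have ha : a ∈ Algebra.adjoin k (Set.range fun p : Fin n × Fin n => C.c p.1 p.2) := C.gen ▸ Algebra.mem_top
      induction ha using Algebra.adjoin_induction with
      | mem z hz => obtain ⟨p, rfl⟩ := hz; exact Algebra.subset_adjoin ⟨p, rfl⟩
      | algebraMap r =>
        rw [show (1 : L) ⊗ₜ[k] algebraMap k A r = algebraMap L (L ⊗[k] A) (algebraMap k L r) by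
          rw [Algebra.TensorProduct.algebraMap_apply, Algebra.algebraMap_eq_smul_one, ← TensorProduct.smul_tmul,
            ← Algebra.algebraMap_eq_smul_one]; rfl]
        exact Subalgebra.algebraMap_mem _ _
      | add a b _ _ ha hb => rw [TensorProduct.tmul_add]; exact add_mem ha hb
      | mul a b _ _ ha hb =>
        have := mul_mem ha hb
        rwa [Algebra.TensorProduct.tmul_mul_tmul, _root_.mul_one] at this
  have hε : c'.map εL = 1 := Matrix.ext fun i j => by
    simp only [c', εL, Matrix.map_apply, Algebra.TensorProduct.lift_tmul, AlgHom.comp_apply, Bialgebra.counitAlgHom_apply,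
      C.counit_c, Matrix.one_apply, map_one, _root_.one_mul]
    split_ifs <;> simp
  obtain ⟨ψ', hψ'⟩ := exists_derivPoint (tanDeriv L hd) c' hgen D (tanDeriv_matrix C L hd) εL hε ι
    (fun a b h => Multiplicative.toAdd.injective (Subtype.ext h)) rfl (fun _ _ => rfl) P.Λ μ hμ E hE1 hE2
  let ψ : A →ₐ[k] MonoidAlgebra L (Multiplicative Γ) :=
    (ψ'.restrictScalars k).comp Algebra.TensorProduct.includeRight
  have hmat : ∀ (R : Type u) [CommRing R] [Algebra k R] [Algebra L R] [IsScalarTower k L R] (χ : Multiplicative Γ →* R),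
      C.mat (toConv (((MonoidAlgebra.lift L R _ χ).restrictScalars k).comp ψ) : Pt k A R) =
        ∑ l ∈ P.Λ, χ (μ l) • (E l).map (algebraMap L R) := by
    intro R _ _ _ _ χ
    ext i j
    show MonoidAlgebra.lift L R _ χ (ψ' ((1 : L) ⊗ₜ[k] C.c i j)) = _
    rw [show (1 : L) ⊗ₜ[k] C.c i j = c' i j from rfl, hψ', map_sum, Matrix.sum_apply]
    refine Finset.sum_congr rfl fun l _ => ?_
    rw [MonoidAlgebra.lift_single, Matrix.smul_apply, Matrix.map_apply, smul_eq_mul, Algebra.smul_def, mul_comm]
  have horth : ∀ (R : Type u) [CommRing R] [Algebra L R] (a b : L → R),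
      (∑ l ∈ P.Λ, a l • (E l).map (algebraMap L R)) * (∑ l ∈ P.Λ, b l • (E l).map (algebraMap L R)) =
        ∑ l ∈ P.Λ, (a l * b l) • (E l).map (algebraMap L R) := by
    intro R _ _ a b
    rw [Finset.sum_mul]
    refine Finset.sum_congr rfl fun l hl => ?_
    rw [Finset.mul_sum, Finset.sum_eq_single_of_mem l hl]
    · rw [smul_mul_smul_comm, ← Matrix.map_mul, hE5 l hl l hl, if_pos rfl]
    · intro m hm hne
      rw [smul_mul_smul_comm, ← Matrix.map_mul, hE5 l hl m hm, if_neg hne.symm, Matrix.map_zero _ (map_zero _), smul_zero]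
  refine ⟨Multiplicative Γ, inferInstance, ?_, fun p _ hp m => ?_, fun _ m r hr h => ?_, ψ, ?_, ?_, ?_⟩
  · rw [← GroupFG.iff_add_fg.symm.trans (Iff.rfl)]
    exact (AddGroup.fg_iff_addSubgroup_fg Γ).2 ⟨P.Λ, rfl⟩
  · apply Multiplicative.toAdd.injective
    refine Subtype.ext ?_
    simp
  · apply Multiplicative.toAdd.injective
    refine Subtype.ext ?_
    have h2 := congrArg (fun z : Multiplicative Γ => ((Multiplicative.toAdd z : Γ) : L)) h
    simpa [hr] using h2
  · intro R _ _ _ _ χ χ'
    apply C.mat_injective
    rw [C.mat_mul, hmat, hmat, hmat, horth]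
    rfl
  · intro R _ _ _ _
    apply C.mat_injective
    rw [hmat, C.mat_one]
    simp only [MonoidHom.one_apply, one_smul]
    have h := congrArg (fun z : Matrix (Fin n) (Fin n) L => z.map (algebraMap L R)) hE1
    rw [Matrix.map_one _ (map_zero _) (map_one _)] at h
    refine Eq.trans ?_ h
    exact (Matrix.ext fun i j => by simp [Matrix.sum_apply]).symm
  · intro R _ _ _ _ x
    have heR : (aeval (C.c.map d) P.q).map (algebraMap k R) = ∑ l ∈ P.Λ, algebraMap L R (P.σ l) • (E l).map (algebraMap L R) := by
      have h := congrArg (fun z : Matrix (Fin n) (Fin n) L => z.map (algebraMap L R)) hE6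
      rw [hqD] at h
      refine Eq.trans ?_ (h.trans ?_)
      · rw [Matrix.map_map]
        exact Matrix.ext fun i j => by simp [← IsScalarTower.algebraMap_apply k L R]
      · exact Matrix.ext fun i j => by simp [Matrix.sum_apply, Algebra.smul_def (A := R)]
    constructor
    · intro h S _ _ _ _ φ χ
      rw [C.commute_iff, hmat, C.mat_push]
      have hpoly : ∀ l, C.mat x * (E l).map (algebraMap L R) = (E l).map (algebraMap L R) * C.mat x := by
        intro l
        have key : ∀ M' ∈ Algebra.adjoin L {aeval D qL},
            C.mat x * M'.map (algebraMap L R) = M'.map (algebraMap L R) * C.mat x := by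
          intro M' hM'
          induction hM' using Algebra.adjoin_induction with
          | mem z hz =>
            obtain rfl := Set.mem_singleton_iff.1 hz
            rw [hqD, Matrix.map_map]
            convert h using 2 <;> exact Matrix.ext fun i j => by simp [← IsScalarTower.algebraMap_apply k L R]
          | algebraMap r =>
            rw [show (algebraMap L (Matrix (Fin n) (Fin n) L) r).map (algebraMap L R) = algebraMap L R r • (1 : Matrix (Fin n) (Fin n) R) from
              Matrix.ext fun i j => by simp [Matrix.algebraMap_matrix_apply, Matrix.one_apply, apply_ite (algebraMap L R)]]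
            rw [mul_smul_comm, smul_mul_assoc, _root_.mul_one, _root_.one_mul]
          | add a b _ _ ha hb => rw [Matrix.map_add _ (map_add _), mul_add, add_mul, ha, hb]
          | mul a b _ _ ha hb => rw [Matrix.map_mul, ← mul_assoc, ha, mul_assoc, hb, mul_assoc]
        exact key _ (hE4 l)
      have hφ : ∀ l, ((E l).map (algebraMap L R)).map (φ.restrictScalars k) = (E l).map (algebraMap L S) := fun l =>
        Matrix.ext fun i j => φ.commutes _
      rw [Finset.mul_sum, Finset.sum_mul]
      refine Finset.sum_congr rfl fun l _ => ?_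
      rw [mul_smul_comm, smul_mul_assoc, ← hφ, ← Matrix.map_mul, ← Matrix.map_mul, hpoly]
    · intro h
      let S := MonoidAlgebra R (Multiplicative Γ)
      let φ : R →ₐ[L] S := IsScalarTower.toAlgHom L R S
      let χ : Multiplicative Γ →* S := MonoidAlgebra.of R _
      have h1 := h S φ χ
      rw [C.commute_iff, hmat, C.mat_push] at h1
      have hφ : ∀ l, ((E l).map (algebraMap L R)).map (φ.restrictScalars k) = (E l).map (algebraMap L S) := fun l =>
        Matrix.ext fun i j => φ.commutes _
      have hl : ∀ l ∈ P.Λ, C.mat x * (E l).map (algebraMap L R) = (E l).map (algebraMap L R) * C.mat x := by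
        intro l hl
        ext i j
        have h2 := congrArg (fun z : Matrix (Fin n) (Fin n) S => (z i j).coeff (μ l)) h1
        simp only [Matrix.mul_sum, Matrix.sum_mul, Matrix.sum_apply, Matrix.mul_smul, Matrix.smul_mul, ← hφ, ← Matrix.map_mul,
          Matrix.smul_apply, Matrix.map_apply, smul_eq_mul] at h2
        have e : ∀ (r : R) (l' : L), (χ (μ l') * (φ.restrictScalars k) r : S) = MonoidAlgebra.single (μ l') r := fun r l' => by
          show MonoidAlgebra.single (μ l') (1 : R) * MonoidAlgebra.single 1 r = _
          rw [MonoidAlgebra.single_mul_single, _root_.mul_one, _root_.one_mul]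
        simp only [e, MonoidAlgebra.coeff_sum, MonoidAlgebra.coeff_single, Finsupp.finsetSum_apply] at h2
        have hinj : ∀ l' ∈ P.Λ, μ l' = μ l → l' = l := fun l' hl' he => by rw [← hμ l' hl', he, hμ l hl]
        rw [coeff_sum_apply, coeff_sum_apply, Finset.sum_eq_single_of_mem l hl (fun l' hl' hne => (coeff_single_eq_ite _ _ _).trans (if_neg fun he => hne (hinj l' hl' he))),
          Finset.sum_eq_single_of_mem l hl (fun l' hl' hne => (coeff_single_eq_ite _ _ _).trans (if_neg fun he => hne (hinj l' hl' he))),
          coeff_single_eq_ite, if_pos rfl, coeff_single_eq_ite, if_pos rfl] at h2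
        exact h2
      rw [heR, Finset.mul_sum, Finset.sum_mul]
      refine Finset.sum_congr rfl fun l hl' => ?_
      rw [mul_smul_comm, smul_mul_assoc, hl l hl']

end Groth.Agent.GrMax
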