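import Groth.Agent.GrMax.BaseChange
import Groth.Agent.GrMax.SSPoint
import Groth.Agent.MTBridge.OfHopf
import Groth.Agent.TorusLift.Bounded
import Groth.Agent.Chev.CentralMT
import Groth.Agent.Chev.CentTorus
import Groth.Agent.S5247
import Mathlib.Algebra.AffineMonoid.UniqueSums
import Mathlib.Algebra.MonoidAlgebra.NoZeroDivisors

/-!
# The subgroup of multiplicative type of the semisimple part and its centralizer
-/

set_option autoImplicit false
set_option linter.unusedSectionVars false
set_option linter.style.haveILetI false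
set_option backward.isDefEq.respectTransparency false
set_option maxHeartbeats 1000000
set_option synthInstance.maxHeartbeats 400000

universe u

open CategoryTheory CategoryTheory.Limits MonoidalCategory CartesianMonoidalCategory MonObj GrpObj AlgebraicGeometry
open TensorProduct WithConv Polynomial
open scoped Groth.Agent.Takeuchi
open Groth.Agent.GrassClosed (SpA over_hom_ext)
open Groth.Agent.Takeuchi (Pt push)
open Groth.Agent.MTBridge (specGrp)
open Groth.Agent.Chev.PtsAction (sp)

noncomputable section

namespace Groth.Agent.GrMax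

open Chev.Borel (ptsR ptsR_sp)

/-- The spectrum of a group algebra that is a point or a domain is connected. -/
theorem connectedSpace_spec_groupAlgebra {L : Type u} [Field L] {M : Type u} [CommGroup M] (hfg : Group.FG M)
    (hp : ∀ p : ℕ, p.Prime → CharP L p → ∀ m : M, m ^ p = 1)
    (h0 : CharZero L → ∀ (m : M) (r : ℕ), r ≠ 0 → m ^ r = 1 → m = 1) :
    ConnectedSpace (Spec (CommRingCat.of (MonoidAlgebra L M))) := by
  classical
  rcases CharP.exists L with ⟨p, hp'⟩
  rcases CharP.char_is_prime_or_zero L p with hprime | rfl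
  · let aug : MonoidAlgebra L M →ₐ[L] L := MonoidAlgebra.lift L L M 1
    haveI : Fact p.Prime := ⟨hprime⟩
    haveI : CharP (MonoidAlgebra L M) p :=
      charP_of_injective_algebraMap (algebraMap L (MonoidAlgebra L M)).injective p
    have hnil : ∀ x, aug x = 0 → IsNilpotent x := by
      intro x hx
      refine ⟨p, ?_⟩
      have key : ∀ y : MonoidAlgebra L M, y ^ p = algebraMap L _ (aug y ^ p) := by
        intro y
        induction y using MonoidAlgebra.induction_linear with
        | zero => simp [hprime.ne_zero]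
        | add a b ha hb => rw [add_pow_char, ha, hb, map_add aug, add_pow_char, map_add]
        | single m r => simp [aug, MonoidAlgebra.single_pow, hp p hprime hp' m]
      rw [key, hx, zero_pow hprime.ne_zero, map_zero]
    haveI : Subsingleton (PrimeSpectrum (MonoidAlgebra L M)) := ⟨fun P Q => by
      have h : ∀ P : PrimeSpectrum (MonoidAlgebra L M), P.asIdeal = RingHom.ker (aug : MonoidAlgebra L M →+* L) := by
        intro P
        have hle : RingHom.ker (aug : MonoidAlgebra L M →+* L) ≤ P.asIdeal := fun x hx => by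
          obtain ⟨n, hn⟩ := hnil x hx
          exact P.isPrime.mem_of_pow_mem n (hn ▸ P.asIdeal.zero_mem)
        exact ((RingHom.ker_isMaximal_of_surjective _ (fun r => ⟨algebraMap L _ r, aug.commutes r⟩)).eq_of_le
          P.isPrime.ne_top hle).symm
      exact PrimeSpectrum.ext ((h P).trans (h Q).symm)⟩
    haveI : Nontrivial (MonoidAlgebra L M) := inferInstance
    exact inferInstanceAs (ConnectedSpace (PrimeSpectrum (MonoidAlgebra L M)))
  · haveI : CharZero L := CharP.charP_to_charZero L
    haveI : Monoid.FG M := Group.fg_iff_monoid_fg.1 hfg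
    haveI : IsMulTorsionFree M := ⟨fun r hr a b hab => by
      refine div_eq_one.1 (h0 inferInstance (a / b) r hr ?_)
      rw [div_pow]
      exact div_eq_one.2 hab⟩
    haveI : IsDomain (MonoidAlgebra L M) := NoZeroDivisors.to_isDomain _
    exact inferInstanceAs (ConnectedSpace (PrimeSpectrum (MonoidAlgebra L M)))

variable {k : Type u} [Field k] {L : Type u} [Field L] [Algebra k L] [IsAlgClosed L]
  {A : Type u} [CommRing A] [HopfAlgebra k A] {n : ℕ}

/-- A point satisfying the product law is a homomorphism of bialgebras. -/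
theorem exists_bialg (C : MatGen k A n) {M : Type u} [CommGroup M] (ψ : A →ₐ[k] MonoidAlgebra L M)
    (hmul : ∀ (R : Type u) [CommRing R] [Algebra k R] [Algebra L R] [IsScalarTower k L R] (χ χ' : M →* R),
      (toConv (((MonoidAlgebra.lift L R M (χ * χ')).restrictScalars k).comp ψ) : Pt k A R) =
        toConv (((MonoidAlgebra.lift L R M χ).restrictScalars k).comp ψ) *
          toConv (((MonoidAlgebra.lift L R M χ').restrictScalars k).comp ψ))
    (hone : ∀ (R : Type u) [CommRing R] [Algebra k R] [Algebra L R] [IsScalarTower k L R],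
      (toConv (((MonoidAlgebra.lift L R M 1).restrictScalars k).comp ψ) : Pt k A R) = 1) :
    ∃ ψL : L ⊗[k] A →ₐc[L] MonoidAlgebra L M, ∀ a : A, ψL ((1 : L) ⊗ₜ[k] a) = ψ a := by
  classical
  let f : L ⊗[k] A →ₐ[L] MonoidAlgebra L M :=
    Algebra.TensorProduct.lift (Algebra.ofId L (MonoidAlgebra L M)) ψ fun _ _ => Commute.all _ _
  have hf : ∀ a : A, f ((1 : L) ⊗ₜ[k] a) = ψ a := fun a => by simp [f, ← MonoidAlgebra.one_def]
  refine ⟨BialgHom.ofAlgHom f ?_ ?_, hf⟩
  · refine Algebra.TensorProduct.ext (Subsingleton.elim _ _) (AlgHom.ext fun a => ?_)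
    show Coalgebra.counit (R := L) (f ((1 : L) ⊗ₜ[k] a)) = Coalgebra.counit (R := L) ((1 : L) ⊗ₜ[k] a)
    rw [hf]
    have h := congrArg (fun z : Pt k A L => z.ofConv a) (hone L)
    simp only [AlgHom.convOne_apply] at h
    refine Eq.trans ?_ (h.trans (by simp [Algebra.smul_def]))
    show Coalgebra.counit (R := L) (ψ a) = MonoidAlgebra.lift L L M 1 (ψ a)
    induction ψ a using MonoidAlgebra.induction_linear with
    | zero => simp
    | add x y hx hy => simp only [map_add, hx, hy]
    | single m r => simp
  · let R := MonoidAlgebra L M ⊗[L] MonoidAlgebra L M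
    let χ : M →* R := ((Algebra.TensorProduct.includeLeft : MonoidAlgebra L M →ₐ[L] R) : MonoidAlgebra L M →* R).comp
      (MonoidAlgebra.of L M)
    let χ' : M →* R := ((Algebra.TensorProduct.includeRight : MonoidAlgebra L M →ₐ[L] R) : MonoidAlgebra L M →* R).comp
      (MonoidAlgebra.of L M)
    refine Algebra.TensorProduct.ext (Subsingleton.elim _ _) (AlgHom.ext fun a => ?_)
    show Algebra.TensorProduct.map f f (Coalgebra.comul (R := L) ((1 : L) ⊗ₜ[k] a)) =
      Coalgebra.comul (R := L) (f ((1 : L) ⊗ₜ[k] a))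
    have h := congrArg (fun z : Pt k A R => z.ofConv a) (hmul R χ χ')
    rw [Takeuchi.mul_apply] at h
    rw [hf, TensorProduct.comul_tmul]
    have h1 : ∀ y : MonoidAlgebra L M, MonoidAlgebra.lift L R M (χ * χ') y = Coalgebra.comul (R := L) y := by
      intro y
      induction y using MonoidAlgebra.induction_linear with
      | zero => simp
      | add a b ha hb => simp only [map_add, ha, hb]
      | single m r =>
        rw [MonoidAlgebra.lift_single]
        show r • ((MonoidAlgebra.single m (1 : L) ⊗ₜ[L] (1 : MonoidAlgebra L M)) *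
          ((1 : MonoidAlgebra L M) ⊗ₜ[L] MonoidAlgebra.single m (1 : L))) = _
        rw [Algebra.TensorProduct.tmul_mul_tmul, _root_.mul_one, _root_.one_mul, ← TensorProduct.tmul_smul,
          MonoidAlgebra.smul_single, smul_eq_mul, _root_.mul_one]
        simp
    refine Eq.trans ?_ (h.symm.trans (h1 _))
    generalize Coalgebra.comul (R := k) a = z
    induction z using TensorProduct.induction_on with
    | zero => simp
    | add x y hx hy => simp only [map_add, TensorProduct.tmul_add, hx, hy]
    | tmul x y =>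
      have hl : ∀ w : MonoidAlgebra L M, MonoidAlgebra.lift L R M χ w = w ⊗ₜ[L] (1 : MonoidAlgebra L M) := fun w => by
        induction w using MonoidAlgebra.induction_linear with
        | zero => simp
        | add a b ha hb => simp only [map_add, ha, hb, TensorProduct.add_tmul]
        | single m r =>
          rw [MonoidAlgebra.lift_single]
          show r • (MonoidAlgebra.single m (1 : L) ⊗ₜ[L] (1 : MonoidAlgebra L M)) = _
          rw [TensorProduct.smul_tmul', MonoidAlgebra.smul_single, smul_eq_mul, _root_.mul_one]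
      have hr : ∀ w : MonoidAlgebra L M, MonoidAlgebra.lift L R M χ' w = (1 : MonoidAlgebra L M) ⊗ₜ[L] w := fun w => by
        induction w using MonoidAlgebra.induction_linear with
        | zero => simp
        | add a b ha hb => simp only [map_add, ha, hb, TensorProduct.tmul_add]
        | single m r =>
          rw [MonoidAlgebra.lift_single]
          show r • ((1 : MonoidAlgebra L M) ⊗ₜ[L] MonoidAlgebra.single m (1 : L)) = _
          rw [← TensorProduct.tmul_smul, MonoidAlgebra.smul_single, smul_eq_mul, _root_.mul_one]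
      simp [hf, hl, hr]
      exact (by rw [Algebra.TensorProduct.tmul_mul_tmul, _root_.mul_one, _root_.one_mul] :
        ψ x ⊗ₜ[L] ψ y = ψ x ⊗ₜ[L] (1 : MonoidAlgebra L M) * (1 : MonoidAlgebra L M) ⊗ₜ[L] ψ y)

variable {G : Over (Spec (CommRingCat.of k))} [GrpObj G]
  (e : (Spec (CommRingCat.of A)).asOver (Spec (CommRingCat.of k)) ≅ G) [IsMonHom e.hom]
  {Gb : Over (Spec (CommRingCat.of L))} [GrpObj Gb]
  (a : (specGrp L (L ⊗[k] A)).X ≅ Gb) [IsMonHom a.hom]

/-- **The subgroup of a semisimple part.** -/
theorem exists_pointSubgroup (C : MatGen k A n) {d : A →ₗ[k] k} (hd : IsTan d) (P : SSPoly L (C.c.map d)) :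
    ∃ (H : Over (Spec (CommRingCat.of L))) (_ : GrpObj H) (u : H ⟶ Gb),
      IsMonHom u ∧ SGA3x.IsMultTypeFT H ∧ ConnectedSpace H.left ∧ IsAffine H.left ∧
      ∀ (X : Over (Spec (CommRingCat.of L))) (g : X ⟶ Gb),
        (∀ (R : CommAlgCat.{u} L) (p : SpA R ⟶ X),
          (C.bc L).mat (ptsR a R (p ≫ g)) * ((aeval (C.c.map d) P.q).map (algebraMap k L)).map (algebraMap L R) =
            ((aeval (C.c.map d) P.q).map (algebraMap k L)).map (algebraMap L R) * (C.bc L).mat (ptsR a R (p ≫ g))) ↔
        ∀ (X' : Over (Spec (CommRingCat.of L))) (x : X' ⟶ X) (h : X' ⟶ H),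
          (x ≫ g) * (h ≫ u) = (h ≫ u) * (x ≫ g) := by
  obtain ⟨M, _, hfg, hMp, hM0, ψ, hmul, hone, hcomm⟩ := exists_ssPoint C L hd P
  obtain ⟨ψL, hψL⟩ := exists_bialg C ψ hmul hone
  haveI : Algebra.FiniteType L (MonoidAlgebra L M) := MonoidAlgebra.finiteType_iff_group_fg.2 hfg
  let H := specGrp L (MonoidAlgebra L M)
  let rT : H.X ⟶ (specGrp L (L ⊗[k] A)).X :=
    Spec.mapMulEquiv (toConv (ψL : L ⊗[k] A →ₐ[L] MonoidAlgebra L M))
  haveI : IsMonHom rT := ((hopfSpec (CommRingCat.of L)).map
    (CommHopfAlgCat.ofHom (X := L ⊗[k] A) (Y := MonoidAlgebra L M) ψL).op).hom.isMonHom_hom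
  let u : H.X ⟶ Gb := rT ≫ a.hom
  set ε := (aeval (C.c.map d) P.q).map (algebraMap k L) with hεdef
  -- the values of `u` on affine points
  have hu : ∀ (R : CommAlgCat.{u} L) (φ : MonoidAlgebra L M →ₐ[L] R),
      ptsR a R (sp (A := CommAlgCat.of L (MonoidAlgebra L M)) (B := R) φ ≫ u) =
        toConv (φ.comp (ψL : L ⊗[k] A →ₐ[L] MonoidAlgebra L M)) := fun R φ => by
    rw [ptsR_sp]
    rw [show ptsR a (CommAlgCat.of L (MonoidAlgebra L M)) u = toConv (ψL : L ⊗[k] A →ₐ[L] MonoidAlgebra L M) from
      (ptsR a (CommAlgCat.of L (MonoidAlgebra L M))).apply_symm_apply _]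
  have hiff : ∀ (R : Type u) [CommRing R] [Algebra L R] (g : Pt L (L ⊗[k] A) R),
      ((C.bc L).mat g * ε.map (algebraMap L R) = ε.map (algebraMap L R) * (C.bc L).mat g) ↔
      ∀ (S : Type u) [CommRing S] [Algebra L S] (φ : R →ₐ[L] S) (χ : MonoidAlgebra L M →ₐ[L] S),
        push φ g * toConv (χ.comp (ψL : L ⊗[k] A →ₐ[L] MonoidAlgebra L M)) =
          toConv (χ.comp (ψL : L ⊗[k] A →ₐ[L] MonoidAlgebra L M)) * push φ g := by
    intro R _ _ g
    letI : Algebra k R := Algebra.compHom R (algebraMap k L)
    haveI : IsScalarTower k L R := .of_algebraMap_eq fun _ => rfl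
    rw [mat_bc, show ε.map (algebraMap L R) = (aeval (C.c.map d) P.q).map (algebraMap k R) from
      Matrix.ext fun i j => (IsScalarTower.algebraMap_apply k L R _).symm, hcomm R (restrPt L g)]
    have key : ∀ (S : Type u) [CommRing S] [Algebra k S] [Algebra L S] [IsScalarTower k L S] (φ : R →ₐ[L] S)
        (χ : MonoidAlgebra L M →ₐ[L] S),
        (push φ g * toConv (χ.comp (ψL : L ⊗[k] A →ₐ[L] MonoidAlgebra L M)) =
          toConv (χ.comp (ψL : L ⊗[k] A →ₐ[L] MonoidAlgebra L M)) * push φ g) ↔
        push (φ.restrictScalars k) (restrPt L g) * toConv ((χ.restrictScalars k).comp ψ) =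
          toConv ((χ.restrictScalars k).comp ψ) * push (φ.restrictScalars k) (restrPt L g) := by
      intro S _ _ _ _ φ χ
      rw [(C.bc L).commute_iff, C.commute_iff, mat_bc, mat_bc,
        show restrPt L (toConv (χ.comp (ψL : L ⊗[k] A →ₐ[L] MonoidAlgebra L M))) =
          toConv ((χ.restrictScalars k).comp ψ) from WithConv.ext (AlgHom.ext fun b => congrArg χ (hψL b))]
      rfl
    constructor
    · intro h S _ _ φ χ
      letI : Algebra k S := Algebra.compHom S (algebraMap k L)
      haveI : IsScalarTower k L S := .of_algebraMap_eq fun _ => rfl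
      refine (key S φ χ).2 ?_
      have := h S φ ((MonoidAlgebra.lift L S M).symm χ)
      rwa [Equiv.apply_symm_apply] at this
    · intro h S _ _ _ _ φ χ
      exact (key S φ (MonoidAlgebra.lift L S M χ)).1 (h S φ (MonoidAlgebra.lift L S M χ))
  have halg : ∀ {R : CommAlgCat.{u} L} {B : CommAlgCat.{u} L} (w : SpA R ⟶ SpA B),
      ∃ φ : B →ₐ[L] R, sp (A := B) (B := R) φ = w := fun {R B} w =>
    ⟨{ toRingHom := (Spec.preimage w.left).hom
       commutes' := fun c => by
        have e0 : CommRingCat.ofHom (algebraMap L B) ≫ Spec.preimage w.left = CommRingCat.ofHom (algebraMap L R) := by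
          apply Spec.map_injective
          rw [Spec.map_comp, Spec.map_preimage]
          exact Over.w w
        exact congr($(e0) c) }, Over.OverMorphism.ext (Spec.map_preimage _)⟩
  refine ⟨H.X, inferInstance, u, inferInstance,
    MTBridge.isMultTypeFT_specGrp (TorusLift.isMultType_monoidAlgebra L), connectedSpace_spec_groupAlgebra hfg hMp hM0,
    inferInstanceAs (IsAffine (Spec (CommRingCat.of (MonoidAlgebra L M)))), fun X g => ⟨fun hg X' x h => ?_, fun hg R p => ?_⟩⟩
  · refine over_hom_ext _ _ fun R p => (ptsR a R).injective ?_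
    obtain ⟨χ, hχ⟩ := halg (B := CommAlgCat.of L (MonoidAlgebra L M)) (p ≫ h)
    rw [MonObj.comp_mul, MonObj.comp_mul, map_mul, map_mul, ← Category.assoc p h u, ← hχ, hu, ← Category.assoc p x g]
    have := (hiff R (ptsR a R ((p ≫ x) ≫ g))).1 (hg R (p ≫ x)) R (AlgHom.id L R) χ
    simpa [push] using this
  · refine (hiff R _).2 fun S _ _ φ χ => ?_
    have h := congrArg (ptsR a (CommAlgCat.of L S))
      (hg _ (sp (A := R) (B := CommAlgCat.of L S) φ ≫ p)
        (sp (A := CommAlgCat.of L (MonoidAlgebra L M)) (B := CommAlgCat.of L S) χ))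
    rwa [map_mul, map_mul, hu, Category.assoc, ptsR_sp] at h

end Groth.Agent.GrMax
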