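import Groth.Agent.GrMax.SemisimplePart

/-!
# A non-nilpotent commutator over an extension gives one over an infinite ground field
-/

set_option autoImplicit false
set_option linter.unusedSectionVars false

universe u

set_option maxHeartbeats 2000000

noncomputable section

namespace Groth.Agent.GrMax

variable {k : Type u} [Field k] [Infinite k] {L : Type u} [Field L] [Algebra k L]
  {A : Type u} [CommRing A] [Algebra k A] (ε : A →ₐ[k] k)

/-- Derivations at a point with values in an algebra. -/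
def IsTanAt {R : Type u} [CommRing R] [Algebra k R] (d : A →ₗ[k] R) : Prop :=
  ∀ a b, d (a * b) = ε a • d b + ε b • d a

theorem map_adM_pow {n : ℕ} {R S : Type u} [CommRing R] [CommRing S] (φ : R →+* S)
    (D V : Matrix (Fin n) (Fin n) R) (N : ℕ) :
    ((fun W : Matrix (Fin n) (Fin n) R => D * W - W * D)^[N] V).map φ =
      (fun W : Matrix (Fin n) (Fin n) S => D.map φ * W - W * D.map φ)^[N] (V.map φ) := by
  induction N with
  | zero => rfl
  | succ N ih =>
    rw [Function.iterate_succ_apply', Function.iterate_succ_apply', ← ih, ← Matrix.map_mul, ← Matrix.map_mul]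
    exact Matrix.map_sub φ (fun a b => map_sub φ a b) _ _

theorem adM_pow_apply {F : Type u} [Field F] {n : ℕ} (D V : Matrix (Fin n) (Fin n) F) (N : ℕ) :
    ((adM D) ^ N) V = (fun W : Matrix (Fin n) (Fin n) F => D * W - W * D)^[N] V := by
  rw [Module.End.pow_apply]
  rfl

theorem IsTanAt.sum {ι : Type*} (t : Finset ι) (x : ι → k) (f : ι → A →ₗ[k] k) (hf : ∀ i, IsTanAt ε (f i)) :
    IsTanAt ε (∑ i ∈ t, x i • f i) := fun a b => by
  simp only [LinearMap.sum_apply, LinearMap.smul_apply, Finset.smul_sum, ← Finset.sum_add_distrib]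
  refine Finset.sum_congr rfl fun i _ => ?_
  rw [hf i a b, smul_add, smul_comm, smul_comm (x i) (ε b)]

/-- **A rational pair.** -/
theorem exists_rational {n : ℕ} (c : Matrix (Fin n) (Fin n) A) (d v : A →ₗ[k] L) (hd : IsTanAt ε d)
    (hv : IsTanAt ε v) (h : ∀ N : ℕ, ((adM (c.map d)) ^ N) (c.map v) ≠ 0) :
    ∃ d₀ v₀ : A →ₗ[k] k, IsTanAt ε d₀ ∧ IsTanAt ε v₀ ∧ ∀ N : ℕ, ((adM (c.map d₀)) ^ N) (c.map v₀) ≠ 0 := by
  classical
  let B := Module.Basis.ofVectorSpace k L
  obtain ⟨s, hs⟩ : ∃ s : Finset (Module.Basis.ofVectorSpaceIndex k L),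
      ∀ p q, (B.repr (d (c p q))).support ⊆ s ∧ (B.repr (v (c p q))).support ⊆ s :=
    ⟨Finset.univ.biUnion fun p : Fin n × Fin n => (B.repr (d (c p.1 p.2))).support ∪ (B.repr (v (c p.1 p.2))).support,
      fun p q => ⟨fun x hx => Finset.mem_biUnion.2 ⟨(p, q), Finset.mem_univ _, Finset.mem_union_left _ hx⟩,
        fun x hx => Finset.mem_biUnion.2 ⟨(p, q), Finset.mem_univ _, Finset.mem_union_right _ hx⟩⟩⟩
  let dc : s → A →ₗ[k] k := fun b => (B.coord b.1).comp d
  let vc : s → A →ₗ[k] k := fun b => (B.coord b.1).comp v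
  have hdc : ∀ b : s, IsTanAt ε (dc b) := fun b x y => by simp [dc, hd x y]
  have hvc : ∀ b : s, IsTanAt ε (vc b) := fun b x y => by simp [vc, hv x y]
  let σ := s ⊕ s
  let DX : Matrix (Fin n) (Fin n) (MvPolynomial σ k) :=
    ∑ b : s, (MvPolynomial.X (Sum.inl b) : MvPolynomial σ k) • (c.map (dc b)).map (MvPolynomial.C : k →+* MvPolynomial σ k)
  let VX : Matrix (Fin n) (Fin n) (MvPolynomial σ k) :=
    ∑ b : s, (MvPolynomial.X (Sum.inr b) : MvPolynomial σ k) • (c.map (vc b)).map (MvPolynomial.C : k →+* MvPolynomial σ k)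
  let P := (fun W : Matrix (Fin n) (Fin n) (MvPolynomial σ k) => DX * W - W * DX)^[n * n] VX
  by_contra hcon
  push Not at hcon
  have hP : P = 0 := by
    ext1 i j
    rw [Matrix.zero_apply]
    refine MvPolynomial.funext fun x => ?_
    rw [map_zero]
    let d₀ : A →ₗ[k] k := ∑ b : s, x (Sum.inl b) • dc b
    let v₀ : A →ₗ[k] k := ∑ b : s, x (Sum.inr b) • vc b
    have hd₀ : IsTanAt ε d₀ := IsTanAt.sum ε _ _ _ hdc
    have hv₀ : IsTanAt ε v₀ := IsTanAt.sum ε _ _ _ hvc
    obtain ⟨N, hN⟩ := hcon d₀ v₀ hd₀ hv₀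
    have h0 := adM_pow_eq_zero hN
    rw [adM_pow_apply] at h0
    have eD : DX.map (MvPolynomial.eval x) = c.map d₀ := Matrix.ext fun p q => by
      simp [DX, d₀, Matrix.sum_apply, map_sum]
    have eV : VX.map (MvPolynomial.eval x) = c.map v₀ := Matrix.ext fun p q => by
      simp [VX, v₀, Matrix.sum_apply, map_sum]
    have := congrFun (congrFun ((map_adM_pow (MvPolynomial.eval x) DX VX (n * n)).trans (by rw [eD, eV, h0])) i) j
    simpa [P] using this
  let val : σ → L := Sum.elim (fun b => B b.1) (fun b => B b.1)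
  let φ : MvPolynomial σ k →ₐ[k] L := MvPolynomial.aeval val
  have hsum : ∀ y : L, (B.repr y).support ⊆ s → ∑ b : s, B.coord b.1 y • B b.1 = y := by
    intro y hy
    rw [Finset.sum_coe_sort s (fun b => B.coord b y • B b)]
    conv_rhs => rw [← B.linearCombination_repr y, Finsupp.linearCombination_apply, Finsupp.sum]
    exact (Finset.sum_subset hy (fun b _ hb => by simp [Finsupp.notMem_support_iff.1 hb])).symm
  have eD : DX.map φ = c.map d := Matrix.ext fun p q => by
    have h2 := hsum (d (c p q)) (hs p q).1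
    rw [Matrix.map_apply, Matrix.map_apply]
    refine Eq.trans ?_ h2
    simp only [DX, Matrix.sum_apply, map_sum, Matrix.smul_apply, Matrix.map_apply, smul_eq_mul, map_mul]
    refine Finset.sum_congr rfl fun x _ => ?_
    simp [φ, val, dc, Algebra.smul_def, mul_comm]
  have eV : VX.map φ = c.map v := Matrix.ext fun p q => by
    have h2 := hsum (v (c p q)) (hs p q).2
    rw [Matrix.map_apply, Matrix.map_apply]
    refine Eq.trans ?_ h2
    simp only [VX, Matrix.sum_apply, map_sum, Matrix.smul_apply, Matrix.map_apply, smul_eq_mul, map_mul]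
    refine Finset.sum_congr rfl fun x _ => ?_
    simp [φ, val, vc, Algebra.smul_def, mul_comm]
  have h2 := map_adM_pow (φ : MvPolynomial σ k →+* L) DX VX (n * n)
  refine h (n * n) ?_
  rw [adM_pow_apply, ← eD, ← eV]
  refine h2.symm.trans ?_
  show P.map φ = 0
  rw [hP]
  simp

end Groth.Agent.GrMax
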