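import Groth.Agent.GrMax.Lie
import Groth.Agent.GrMax.PointGrp
import Groth.Agent.GrMax.Rational
import Groth.Agent.CompTors.Main
import Groth.Agent.MTImage.CartanGeom
import Groth.Agent.Chev.BcKernel
import Groth.Agent.Chev.MaxTorusBC
import Groth.Agent.AutFinOrd.Setting
import Groth.Agent.SmNeutral.Core
import Groth.Agent.SemiCont.Main
import Groth.Agent.DimAffMap.Basic
import Groth.Agent.FreeJ.Grothendieck
import Groth.Agent.S8398

/-!
# The inductive step for maximal tori over an infinite field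
-/

set_option autoImplicit false
set_option linter.unusedSectionVars false
set_option linter.style.haveILetI false
set_option backward.isDefEq.respectTransparency false
set_option maxHeartbeats 1000000
set_option synthInstance.maxHeartbeats 400000

universe u

open CategoryTheory CategoryTheory.Limits MonoidalCategory CartesianMonoidalCategory MonObj GrpObj AlgebraicGeometry
open TensorProduct WithConv Polynomial
open scoped Groth.Agent.Takeuchi
open Groth.Agent.GrassClosed (SpA over_hom_ext)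
open Groth.Agent.Takeuchi (Pt push)
open Groth.Agent.MTBridge (specGrp)

noncomputable section

namespace Groth.Agent.GrMax

open Chev.Borel (ptsR)

variable {k : Type u} [Field k]

instance surjective_fieldMap (L : Type u) [Field L] [Algebra k L] : Surjective (fieldMap (k := k) L) :=
  ⟨fun _ => ⟨IsLocalRing.closedPoint L, Subsingleton.elim (α := PrimeSpectrum k) _ _⟩⟩

/-- A connected group maps into an open subgroup. -/
theorem exists_factor_connected {R C C₀ : Over (Spec (CommRingCat.of k))} [GrpObj R] [GrpObj C]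
    [GrpObj C₀] [LocallyOfFiniteType C.hom] [ConnectedSpace R.left] (r : R ⟶ C) [IsMonHom r] (c₀ : C₀ ⟶ C) [IsMonHom c₀]
    [IsOpenImmersion c₀.left] : ∃ r₀ : R ⟶ C₀, r₀ ≫ c₀ = r := by
  have hsub := GrpField.isSubgroupSet_range c₀
  have hclopen : IsClopen (Set.range c₀.left) :=
    ⟨hsub.isClosed_of_isOpen c₀.left.isOpenEmbedding.isOpen_range, c₀.left.isOpenEmbedding.isOpen_range⟩
  have hr : Set.range r.left ⊆ Set.range c₀.left := by
    refine (isPreconnected_range r.left.continuous).subset_isClopen hclopen ?_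
    refine ⟨η[C].left (IsLocalRing.closedPoint k), ?_, ?_⟩
    · refine ⟨η[R].left (IsLocalRing.closedPoint k), ?_⟩
      rw [← IsMonHom.one_hom (f := r)]
      rfl
    · refine ⟨η[C₀].left (IsLocalRing.closedPoint k), ?_⟩
      rw [← IsMonHom.one_hom (f := c₀)]
      rfl
  exact ⟨Over.homMk (IsOpenImmersion.lift c₀.left r.left hr) (by
    show _ ≫ C₀.hom = _
    rw [← Over.w c₀, IsOpenImmersion.lift_fac_assoc, Over.w]),
    Over.OverMorphism.ext (IsOpenImmersion.lift_fac _ _ _)⟩

/-- The neutral component over a field. -/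
theorem exists_neutral (G : Over (Spec (CommRingCat.of k))) [GrpObj G] [Smooth G.hom] :
    ∃ (C₀ : Over (Spec (CommRingCat.of k))) (_ : GrpObj C₀) (c : C₀ ⟶ G), IsMonHom c ∧ IsOpenImmersion c.left ∧
      IsClosedImmersion c.left ∧ Smooth C₀.hom ∧ QuasiCompact C₀.hom ∧ ConnectedSpace C₀.left := by
  obtain ⟨-, C₀, hC₀, c, hcm, hco, hr, hsm, hqc⟩ := SmNeutral.exists_neutralComponent G
  rw [CompTors.neutralSet_eq] at hr
  haveI := hco
  refine ⟨C₀, hC₀, c, hcm, hco, IsClosedImmersion.of_isPreimmersion _ (hr ▸ isClosed_connectedComponent), hsm, hqc, ?_⟩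
  have h : _root_.IsConnected (c.left.base '' Set.univ) := by
    rw [Set.image_univ]
    exact hr ▸ isConnected_connectedComponent
  haveI : Nonempty C₀.left := by
    obtain ⟨x, y, -, -⟩ := h.nonempty
    exact ⟨y⟩
  refine connectedSpace_iff_univ.2 ⟨Set.univ_nonempty, ?_⟩
  exact c.left.isOpenEmbedding.isInducing.isPreconnected_image.1 h.isPreconnected

/-- Maximal tori of an open subgroup are maximal tori. -/
theorem isMaximalTorus_comp_open {C₀ G T : Over (Spec (CommRingCat.of k))} [GrpObj C₀] [GrpObj G] [GrpObj T]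
    [LocallyOfFiniteType G.hom] [QuasiCompact G.hom] [LocallyOfFiniteType C₀.hom] [QuasiCompact C₀.hom]
    (c : C₀ ⟶ G) [IsMonHom c] [IsOpenImmersion c.left] (t : T ⟶ C₀) (ht : Red.IsMaximalTorus t) :
    Red.IsMaximalTorus (t ≫ c) := by
  let L := AlgebraicClosure k
  let F := Over.pullback (fieldMap (k := k) L)
  haveI := ht.1; haveI := ht.2.1
  haveI : Mono c := by
    haveI : Mono c.left := inferInstance
    exact Over.mono_of_mono_left c
  haveI : PreservesLimitsOfShape WalkingCospan F :=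
    (Adjunction.rightAdjoint_preservesLimits (Over.mapPullbackAdj _)).preservesLimitsOfShape
  haveI : LocallyOfFiniteType (F.obj G).hom := inferInstanceAs (LocallyOfFiniteType (pullback.snd G.hom _))
  haveI : IsOpenImmersion (F.map c).left := MorphismProperty.baseChange_map (P := @IsOpenImmersion) _ c ‹_›
  refine Chev.MaxTorusBC.isMaximalTorus_descend (fieldMap (k := k) L) _ ht.2.2.1
    (Chev.Borel.isMaximalTorus_of_isMaxTorus _ ?_)
  obtain ⟨-, -, hTL, hmax⟩ := Chev.Borel.isMaxTorus_of_isMaximalTorus _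
    (Chev.MaxTorusBC.isMaximalTorus_bc t ht (fieldMap (k := k) L))
  refine ⟨inferInstance, inferInstance, hTL, fun T' _ j _ _ f hT' hf => ?_⟩
  obtain ⟨r, hr⟩ := MTImage.exists_factor_open hT' j (F.map c)
  haveI : IsMonHom r := MTSplit.isMonHom_of_comp_mono r (F.map c) j hr
  haveI : Mono (r ≫ F.map c) := by rw [hr]; infer_instance
  haveI : Mono r := mono_of_mono r (F.map c)
  exact hmax T' r f hT' (by rw [← cancel_mono (F.map c), Category.assoc, hr, hf, ← Functor.map_comp])

/-- Without tori over the algebraic closure the trivial torus is maximal. -/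
theorem exists_maxTorus_of_noSubtorus (G : Over (Spec (CommRingCat.of k))) [GrpObj G] [LocallyOfFiniteType G.hom]
    [QuasiCompact G.hom] (h : Red.HasNoSubtorus (AlgebraicClosure k) (Red.bc (fieldMap (AlgebraicClosure k)) G)) :
    ∃ (T : Over (Spec (CommRingCat.of k))) (_ : GrpObj T) (i : T ⟶ G), Red.IsMaximalTorus i := by
  let L := AlgebraicClosure k
  let F := Over.pullback (fieldMap (k := k) L)
  obtain ⟨T, hT, i, him, himono, hsplit⟩ := MTSplit.exists_trivial_torus (Fin 0 → ℤ) (fun m => Subsingleton.elim m 0) G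
  have hTt : Red.IsTorus T := MTSplit.isTorus_of_locSplit (MTSplit.locSplitRank_of_split hsplit).locSplit
  haveI : PreservesLimitsOfShape WalkingCospan F :=
    (Adjunction.rightAdjoint_preservesLimits (Over.mapPullbackAdj _)).preservesLimitsOfShape
  haveI := him; haveI := himono
  refine ⟨T, hT, i, Chev.MaxTorusBC.isMaximalTorus_descend (fieldMap (k := k) L) i hTt
    (Chev.Borel.isMaximalTorus_of_isMaxTorus _ ⟨inferInstance, inferInstance, Chev.Borel.isTorus_bc_scheme T _ hTt,
      fun T' _ j _ _ f hT' hf => ?_⟩)⟩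
  haveI : IsIso T'.hom := h T' j hT'
  haveI : IsIso (F.obj T).hom := h (F.obj T) (F.map i) (Chev.Borel.isTorus_bc_scheme T _ hTt)
  haveI : IsIso (f.left ≫ T'.hom) := by rw [Over.w f]; infer_instance
  haveI : IsIso f.left := IsIso.of_isIso_comp_right f.left T'.hom
  haveI : IsIso ((Over.forget _).map f) := ‹IsIso f.left›
  exact isIso_of_reflects_iso f (Over.forget _)

/-- **The step.** -/
theorem exists_maxTorus_quotient [Infinite k] (d : ℕ)
    (IH : ∀ (G : Over (Spec (CommRingCat.of k))) [GrpObj G] [IsAffine G.left] [Smooth G.hom] [ConnectedSpace G.left],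
      topologicalKrullDim G.left < (d : ℕ) → ∃ (T : Over (Spec (CommRingCat.of k))) (_ : GrpObj T) (i : T ⟶ G),
        Red.IsMaximalTorus i)
    {Z G Q : Over (Spec (CommRingCat.of k))} [GrpObj Z] [GrpObj G] [GrpObj Q] [IsAffine G.left] [Smooth G.hom]
    [ConnectedSpace G.left] [IsAffine Q.left] [Smooth Q.hom] [ConnectedSpace Q.left] (i : Z ⟶ G) (q : G ⟶ Q)
    [IsMonHom q] [Surjective q.left] (hk : AlgGrp.IsKernel i q) (hc : Red.IsCentralizerOf (𝟙 G) i)
    (hdim : topologicalKrullDim G.left < (d + 1 : ℕ)) :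
    ∃ (T : Over (Spec (CommRingCat.of k))) (_ : GrpObj T) (t : T ⟶ Q), Red.IsMaximalTorus t := by
  classical
  haveI : IsAffineHom G.hom := isAffineHom_of_isAffine _
  haveI : IsAffineHom Q.hom := isAffineHom_of_isAffine _
  let L := AlgebraicClosure k
  let f := fieldMap (k := k) L
  let F := Over.pullback f
  by_cases hQ : Red.HasNoSubtorus L (Red.bc f Q)
  · exact exists_maxTorus_of_noSubtorus Q hQ
  haveI : PreservesLimitsOfShape WalkingCospan F :=
    (Adjunction.rightAdjoint_preservesLimits (Over.mapPullbackAdj _)).preservesLimitsOfShape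
  haveI : IsMonHom i := hc.1
  haveI : Mono i := hc.2.1
  -- the groups over the closure
  haveI : IsAffine (Red.bc f G).left := by
    haveI : IsAffineHom (Red.bc f G).hom := inferInstanceAs (IsAffineHom (pullback.snd G.hom f))
    exact isAffine_of_isAffineHom (Red.bc f G).hom
  haveI : IsAffineHom (Red.bc f Q).hom := inferInstanceAs (IsAffineHom (pullback.snd Q.hom f))
  haveI : IsAffine (Red.bc f Q).left := isAffine_of_isAffineHom (Red.bc f Q).hom
  haveI : Smooth (Red.bc f G).hom := inferInstanceAs (Smooth (pullback.snd G.hom f))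
  haveI : Smooth (Red.bc f Q).hom := inferInstanceAs (Smooth (pullback.snd Q.hom f))
  haveI : ConnectedSpace (Red.bc f G).left := AutFinOrd.connectedSpace_bc f G
  haveI : ConnectedSpace (Red.bc f Q).left := AutFinOrd.connectedSpace_bc f Q
  haveI : IsMonHom (F.map q) := inferInstance
  haveI : Surjective (F.map q).left := MorphismProperty.baseChange_map (P := @Surjective) f q ‹_›
  have hcL : Red.IsCentralizerOf (𝟙 (Red.bc f G)) (F.map i) := by
    have h := Chev.CentBC.isCentralizerOf_bc f (𝟙 G) i hc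
    rwa [CategoryTheory.Functor.map_id] at h
  -- coordinates
  obtain ⟨B, _, e, he⟩ := FinHopf.exists_hopf (R := CommRingCat.of k) Q
  haveI := he
  haveI : Algebra.FiniteType k B := by
    have h0 : LocallyOfFiniteType (e.hom.left ≫ Q.hom) := by
      haveI : IsIso e.hom.left := inferInstanceAs (IsIso ((Over.forget _).map e.hom))
      infer_instance
    rw [Over.w e.hom] at h0
    exact RingHom.finiteType_algebraMap.1 ((HasRingHomProperty.Spec_iff (P := @LocallyOfFiniteType)).1 h0)
  obtain ⟨n, ⟨C⟩⟩ := exists_matGen (k := k) (A := B)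
  obtain ⟨a, ham, ha⟩ := exists_bcIso L e
  haveI := ham
  obtain ⟨dL, vL, hdL, hvL, hne⟩ :=
    exists_tangents (F.map i) (F.map q) (Chev.isKernel_bc f i q hk) hcL hQ a (C.bc L)
  let dR : B →ₗ[k] L := (dL.restrictScalars k) ∘ₗ (Algebra.TensorProduct.includeRight : B →ₐ[k] L ⊗[k] B).toLinearMap
  let vR : B →ₗ[k] L := (vL.restrictScalars k) ∘ₗ (Algebra.TensorProduct.includeRight : B →ₐ[k] L ⊗[k] B).toLinearMap
  obtain ⟨d₀, v₀, hd₀', hv₀', hne₀⟩ :=
    exists_rational (Bialgebra.counitAlgHom k B) C.c dR vR (isTanAt_restrict L hdL) (isTanAt_restrict L hvL) hne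
  have hd₀ : IsTan d₀ := fun x y => by rw [hd₀' x y, smul_eq_mul, smul_eq_mul]; ring
  have hv₀ : IsTan v₀ := fun x y => by rw [hv₀' x y, smul_eq_mul, smul_eq_mul]; ring
  obtain ⟨P⟩ := exists_ssPoly L (C.c.map d₀)
  set e₀ := aeval (C.c.map d₀) P.q with he₀
  obtain ⟨Z', _, z, hzm, hzc, hza, hz⟩ := exists_matrixCentralizer e C e₀
  haveI := hzm; haveI := hzc; haveI := hza
  haveI : Mono z := GrpField.SchImg.mono_of_isClosedImmersion z
  obtain ⟨H, _, u, hum, hHmt, hHconn, hHaff, hmem⟩ := exists_pointSubgroup a C hd₀ P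
  haveI := hum; haveI := hHconn
  have hcent : ∀ (X : Over (Spec (CommRingCat.of L))) (g : X ⟶ Red.bc f Q), (∃ w, w ≫ F.map z = g) ↔
      ∀ (X' : Over (Spec (CommRingCat.of L))) (x : X' ⟶ X) (h : X' ⟶ H),
        (x ≫ g) * (h ≫ u) = (h ≫ u) * (x ≫ g) := fun X g =>
    (bc_matrixCentralizer_mem e a ha C e₀ z hz X g).trans (hmem X g)
  haveI : IsMonHom (F.map z) := inferInstance
  haveI : Mono (F.map z) := inferInstance
  -- smoothness
  haveI : Smooth Z'.hom := by
    obtain ⟨Z₁, _, j₁, hj₁, -, hZ₁⟩ := Groth.Agent.S5247.result H (Red.bc f Q) hHmt inferInstance inferInstance u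
    haveI := hj₁.2.1
    obtain ⟨w₁, hw₁⟩ := (hj₁.2.2 _ (F.map z)).2 fun X' x h => ((hcent _ _).1 ⟨𝟙 _, Category.id_comp _⟩) X' x h
    obtain ⟨w₂, hw₂⟩ := (hcent _ j₁).2 fun X' x h => ((hj₁.2.2 _ j₁).1 ⟨𝟙 _, Category.id_comp _⟩) X' x h
    haveI : IsIso w₁ := ⟨w₂, (cancel_mono (F.map z)).1 (by rw [Category.assoc, hw₂, hw₁, Category.id_comp]),
      (cancel_mono j₁).1 (by rw [Category.assoc, hw₁, hw₂, Category.id_comp])⟩
    haveI : IsIso w₁.left := inferInstanceAs (IsIso ((Over.forget _).map w₁))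
    haveI : Smooth (F.obj Z').hom := by rw [← Over.w w₁]; infer_instance
    refine MorphismProperty.of_pullback_snd_of_descendsAlong (P := @Smooth)
      (Q := @Surjective ⊓ @Flat ⊓ @QuasiCompact) (f := Z'.hom) (g := f) ?_ ‹Smooth (F.obj Z').hom›
    exact ⟨⟨inferInstance, inferInstance⟩, inferInstance⟩
  obtain ⟨C₀, _, c, hcm, hco, hcc, hC₀s, -, hC₀c⟩ := exists_neutral Z'
  haveI := hcm; haveI := hco; haveI := hcc; haveI := hC₀s; haveI := hC₀c
  haveI : IsAffine C₀.left := isAffine_of_isAffineHom c.left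
  haveI : IsAffineHom C₀.hom := isAffineHom_of_isAffine _
  haveI : Mono c := GrpField.SchImg.mono_of_isClosedImmersion c
  -- the subgroup is proper
  haveI : IrreducibleSpace Q.left := SemiCont.irreducibleSpace_of_smooth Q
  have hproper : Set.range (c ≫ z).left ≠ Set.univ := by
    intro huniv
    haveI : Surjective z.left := ⟨fun y => by
      obtain ⟨x, hx⟩ := huniv.ge (Set.mem_univ y)
      exact ⟨c.left x, hx⟩⟩
    haveI : IsReduced Q.left := SmoothRed.isReduced_of_smooth_scheme Q.hom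
    haveI : IsIso z.left := isIso_of_isClosedImmersion_of_surjective z.left
    haveI : IsIso ((Over.forget _).map z) := ‹IsIso z.left›
    haveI : IsIso z := isIso_of_reflects_iso z (Over.forget _)
    let R := CommAlgCat.of k (DualNumber k)
    let g : SpA R ⟶ Q := (ptsR e R).symm (tanPt hv₀)
    have h := (hz _ g).1 ⟨g ≫ inv z, by rw [Category.assoc, IsIso.inv_hom_id, Category.comp_id]⟩ R (𝟙 _)
    rw [Category.id_comp, MulEquiv.apply_symm_apply] at h
    have h' : C.mat (tanPt hv₀) * e₀.map (algebraMap k (DualNumber k)) =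
        e₀.map (algebraMap k (DualNumber k)) * C.mat (tanPt hv₀) := h
    have h0 : adM e₀ (C.c.map v₀) = 0 := by
      ext r s
      have h2 := congrArg (fun W : Matrix (Fin n) (Fin n) (DualNumber k) => TrivSqZeroExt.snd (W r s)) h'
      simp only [Matrix.mul_apply, TrivSqZeroExt.snd_sum] at h2
      have e1 : ∀ r s, C.mat (tanPt hv₀) r s = TrivSqZeroExt.inl ((1 : Matrix (Fin n) (Fin n) k) r s) + TrivSqZeroExt.inr (v₀ (C.c r s)) := by
        intro r s
        show TrivSqZeroExt.inl (Bialgebra.counitAlgHom k B (C.c r s)) + TrivSqZeroExt.inr (v₀ (C.c r s)) = _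
        rw [Bialgebra.counitAlgHom_apply, C.counit_c]
      simp only [e1, Matrix.map_apply, TrivSqZeroExt.algebraMap_eq_inl] at h2
      simp at h2
      rw [adM_apply, Matrix.sub_apply, Matrix.mul_apply, Matrix.mul_apply, Matrix.zero_apply, sub_eq_zero]
      simp only [Matrix.map_apply]
      exact h2.symm
    obtain ⟨N, hN⟩ := P.ad_zero _ h0
    exact hne₀ N hN
  have hdimQ : topologicalKrullDim Q.left < (d + 1 : ℕ) :=
    lt_of_le_of_lt (DimAffMap.dim_le_of_surjective G.hom Q.hom q.left (Over.w q) q.left.surjective) hdim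
  have hdim₀ : topologicalKrullDim C₀.left < (d : ℕ) := by
    haveI : IsClosedImmersion (c ≫ z).left := inferInstanceAs (IsClosedImmersion (c.left ≫ z.left))
    have h := FreeJ.dim_lt_of_proper hdimQ _ (c ≫ z).left.isClosedEmbedding.isClosed_range hproper
    refine lt_of_le_of_lt (le_of_eq ?_) h
    exact IsHomeomorph.topologicalKrullDim_eq _ (c ≫ z).left.isClosedEmbedding.isEmbedding.toHomeomorph.isHomeomorph
  obtain ⟨T, _, t, ht⟩ := IH C₀ hdim₀
  haveI := ht.1; haveI := ht.2.1
  refine ⟨T, inferInstance, t ≫ c ≫ z, Chev.MaxTorusBC.isMaximalTorus_descend f _ ht.2.2.1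
    (Chev.Borel.isMaximalTorus_of_isMaxTorus _ ?_)⟩
  -- maximality over the closure
  have htL := Chev.MaxTorusBC.isMaximalTorus_bc t ht f
  obtain ⟨-, -, hTL, hmax⟩ := Chev.Borel.isMaxTorus_of_isMaximalTorus _ htL
  haveI : IsOpenImmersion (F.map c).left := MorphismProperty.baseChange_map (P := @IsOpenImmersion) f c ‹_›
  haveI : LocallyOfFiniteType (F.obj Z').hom := inferInstanceAs (LocallyOfFiniteType (pullback.snd Z'.hom f))
  have hHloc : TwC.Locally (Spec (CommRingCat.of L)) TwC.Topology.fpqc (fun S' g => ∃ (M : Type) (_ : AddCommGroup M),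
      Nonempty (Grp.mk (Red.bc g H) ≅ Grp.mk (Red.DS S' M))) := by
    obtain ⟨S', g, hf, hs, hl, hloc⟩ := hHmt
    exact ⟨S', g, hf, hs, hl, fun s => by obtain ⟨U, hU, M, hM, -, e⟩ := hloc s; exact ⟨U, hU, M, hM, e⟩⟩
  obtain ⟨w, hw⟩ := (hcent _ u).2 fun X' x h => by
    rw [← MonObj.mul_comp, ← MonObj.mul_comp, MTBridge.comm_points_scheme H hHloc]
  haveI : IsMonHom w := MTSplit.isMonHom_of_comp_mono w (F.map z) u hw
  obtain ⟨w₀, hw₀⟩ := exists_factor_connected w (F.map c)
  haveI : IsMonHom w₀ := MTSplit.isMonHom_of_comp_mono w₀ (F.map c) w hw₀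
  have hw₀c : ∀ (X : Over (Spec (CommRingCat.of L))) (x : X ⟶ H) (g : X ⟶ F.obj C₀),
      (x ≫ w₀) * g = g * (x ≫ w₀) := by
    intro X x g
    have h := ((hcent X (g ≫ F.map c ≫ F.map z)).1 ⟨g ≫ F.map c, Category.assoc _ _ _⟩) X (𝟙 X) x
    rw [← cancel_mono (F.map c ≫ F.map z), MonObj.mul_comp, MonObj.mul_comp, Category.assoc x w₀,
      reassoc_of% hw₀, hw]
    rw [Category.id_comp] at h
    exact h.symm
  haveI : Smooth (F.obj C₀).hom := inferInstanceAs (Smooth (pullback.snd C₀.hom f))
  haveI : IsAffineHom (F.obj C₀).hom := inferInstanceAs (IsAffineHom (pullback.snd C₀.hom f))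
  haveI : ConnectedSpace (F.obj C₀).left := AutFinOrd.connectedSpace_bc f C₀
  obtain ⟨wT, hwT⟩ := Groth.Agent.S8398.result _ (F.obj C₀) (fun s => by
      rw [show (F.obj C₀).hom.base ⁻¹' {s} = Set.univ from
        Set.eq_univ_of_forall fun y => Subsingleton.elim (α := PrimeSpectrum L) _ _]
      exact isConnected_univ)
    _ ((Over.pullback f).map t) htL H hHmt w₀ hw₀c
  haveI : IsMonHom (F.map (t ≫ c ≫ z)) := inferInstance
  haveI : Mono (t ≫ c ≫ z) := inferInstance
  refine ⟨inferInstance, inferInstance, hTL, fun T' _ j _ _ g hT' hg => ?_⟩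
  have hju : (wT ≫ g) ≫ j = u := by
    rw [Category.assoc, hg, Functor.map_comp, Functor.map_comp, ← Category.assoc, hwT, reassoc_of% hw₀, hw]
  obtain ⟨r, hr⟩ := (hcent _ j).2 fun X' x h => by
    rw [← hju, ← Category.assoc h, ← MonObj.mul_comp, ← MonObj.mul_comp,
      MTBridge.comm_points_scheme T' (by
        obtain ⟨S', g', hf, hs, hl, hloc⟩ := MTBridge.isMultTypeFT_of_isTorus T' hT'
        exact ⟨S', g', hf, hs, hl, fun s => by obtain ⟨U, hU, M, hM, -, e⟩ := hloc s; exact ⟨U, hU, M, hM, e⟩⟩)]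
  haveI : IsMonHom r := MTSplit.isMonHom_of_comp_mono r (F.map z) j hr
  obtain ⟨r₀, hr₀⟩ := MTImage.exists_factor_open hT' r (F.map c)
  haveI : IsMonHom r₀ := MTSplit.isMonHom_of_comp_mono r₀ (F.map c) r hr₀
  haveI : Mono (r₀ ≫ F.map c ≫ F.map z) := by rw [reassoc_of% hr₀, hr]; infer_instance
  haveI : Mono r₀ := mono_of_mono r₀ (F.map c ≫ F.map z)
  refine hmax T' r₀ g hT' ?_
  rw [← cancel_mono (F.map c ≫ F.map z), Category.assoc, reassoc_of% hr₀, hr, hg, Functor.map_comp, Functor.map_comp]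

end Groth.Agent.GrMax
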