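import Groth.Agent.GrMax.TorusPair
import Groth.Agent.Chev.CartanNorm
import Groth.Agent.MTImage.RankSemicont
import Groth.Agent.S8429

/-!
# A non-nilpotent commutator in the Lie algebra of a quotient by the centre that has a torus
-/

set_option autoImplicit false
set_option linter.unusedSectionVars false
set_option linter.style.haveILetI false
set_option backward.isDefEq.respectTransparency false
set_option maxHeartbeats 1000000
set_option synthInstance.maxHeartbeats 400000

universe u

open CategoryTheory CategoryTheory.Limits MonoidalCategory CartesianMonoidalCategory MonObj GrpObj AlgebraicGeometry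
open TensorProduct WithConv
open scoped Groth.Agent.Takeuchi
open Groth.Agent.GrassClosed (SpA over_hom_ext)
open Groth.Agent.Takeuchi (Pt push)
open Groth.Agent.MTBridge (specGrp)
open Groth.Agent.Chev.PtsAction (sp)

noncomputable section

namespace Groth.Agent.GrMax

open Chev.Borel (ptsR ptsR_sp ptsR_comp isDomain_of_smooth_connected exists_hopf_torus exists_lattice)

variable {L : Type u} [Field L]

theorem exists_factor_range {M : Type u} [CommGroup M] {B : Type u} [CommRing B] [HopfAlgebra L B]
    (f : B →ₐc[L] MonoidAlgebra L M) :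
    ∃ (M' : Subgroup M) (t' : B →ₐc[L] MonoidAlgebra L M'),
      (∀ b, f b = MonoidAlgebra.mapDomainAlgHom L L M'.subtype (t' b)) ∧ Function.Surjective t' := by
  classical
  let C := (f : B →ₐ[L] MonoidAlgebra L M).range
  have hsingle : ∀ x ∈ C, ∀ m ∈ x.coeff.support, (MonoidAlgebra.single m 1 : MonoidAlgebra L M) ∈ C := by
    rintro x ⟨b, rfl⟩ m hm
    let φ : MonoidAlgebra L M ⊗[L] MonoidAlgebra L M →ₗ[L] MonoidAlgebra L M :=
      (TensorProduct.rid L _).toLinearMap ∘ₗ ((MonoidAlgebra.basis M L).coord m).lTensor _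
    have hmem : φ (Coalgebra.comul (R := L) (f b)) ∈ C := by
      rw [← CoalgHomClass.map_comp_comul_apply f b]
      generalize Coalgebra.comul (R := L) b = z
      induction z using TensorProduct.induction_on with
      | zero => simp
      | tmul x y =>
        simp only [φ, TensorProduct.map_tmul, LinearMap.comp_apply, LinearMap.lTensor_tmul,
          LinearEquiv.coe_toLinearMap, TensorProduct.rid_tmul]
        exact C.smul_mem ⟨x, rfl⟩ _
      | add x y hx hy => simp only [map_add]; exact add_mem hx hy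
    have hφ : ∀ y : MonoidAlgebra L M, φ (Coalgebra.comul (R := L) y) = MonoidAlgebra.single m (y.coeff m) := by
      intro y
      induction y using MonoidAlgebra.induction_linear with
      | zero => simp
      | add a b ha hb => simp only [map_add, ha, hb, MonoidAlgebra.coeff_add, Finsupp.coe_add, Pi.add_apply,
          MonoidAlgebra.single_add]
      | single a r =>
        by_cases h : a = m
        · subst h; simp [φ, MonoidAlgebra.basis]
        · simp [φ, MonoidAlgebra.basis, h, Ne.symm h]
    rw [hφ] at hmem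
    have h2 := C.smul_mem hmem ((f b).coeff m)⁻¹
    have h0 : (f b).coeff m ≠ 0 := Finsupp.mem_support_iff.1 hm
    rwa [MonoidAlgebra.smul_single, smul_eq_mul, inv_mul_cancel₀ h0] at h2
  let inv' : MonoidAlgebra L M →ₐ[L] MonoidAlgebra L M :=
    MonoidAlgebra.mapDomainAlgHom L L (MulEquiv.inv M).toMonoidHom
  have hinv : ∀ x ∈ C, inv' x ∈ C := by
    rintro x ⟨b, rfl⟩
    let X : Pt L (MonoidAlgebra L M) (MonoidAlgebra L M) := toConv (AlgHom.id L _)
    have hX : X * toConv inv' = 1 := by
      refine WithConv.ext (MonoidAlgebra.algHom_ext (fun m => ?_) (Subsingleton.elim _ _))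
      show (X * toConv inv') (MonoidAlgebra.single m 1) = _
      rw [Takeuchi.mul_apply, AlgHom.convOne_apply]
      simp [X, inv', MonoidAlgebra.single_mul_single, ← MonoidAlgebra.one_def]
    have h1 : (compHom f (MonoidAlgebra L M) X)⁻¹ = compHom f (MonoidAlgebra L M) (toConv inv') := by
      rw [← map_inv]
      exact congrArg _ (eq_inv_of_mul_eq_one_right hX).symm
    exact ⟨HopfAlgebra.antipode L b, DFunLike.congr_fun (congrArg WithConv.ofConv h1) b⟩
  let M' : Subgroup M :=
    { carrier := {m | (MonoidAlgebra.single m 1 : MonoidAlgebra L M) ∈ C}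
      one_mem' := by show MonoidAlgebra.single 1 1 ∈ C; rw [← MonoidAlgebra.one_def]; exact one_mem _
      mul_mem' := fun {a b} ha hb => by
        show MonoidAlgebra.single (a * b) 1 ∈ C
        have := C.mul_mem (show MonoidAlgebra.single a 1 ∈ C from ha) (show MonoidAlgebra.single b 1 ∈ C from hb)
        rwa [MonoidAlgebra.single_mul_single, _root_.mul_one] at this
      inv_mem' := fun {a} ha => by
        have := hinv _ ha
        simpa [inv'] using this }
  let ι' := MonoidAlgebra.mapDomainBialgHom L M'.subtype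
  have hι : Function.Injective ι' := MonoidAlgebra.mapDomain_injective Subtype.val_injective
  have hrange : ∀ b, ∃ y, ι' y = f b := by
    intro b
    refine ⟨∑ m ∈ (f b).coeff.support.attach,
      MonoidAlgebra.single (⟨m.1, hsingle _ ⟨b, rfl⟩ _ m.2⟩ : M') ((f b).coeff m.1), ?_⟩
    rw [map_sum]
    refine Eq.trans ?_ (MonoidAlgebra.sum_coeff_single (f b))
    rw [Finsupp.sum, ← Finset.sum_attach (f b).coeff.support]
    exact Finset.sum_congr rfl fun m _ => by simp [ι']
  choose s hs using hrange
  let a : B →ₐ[L] MonoidAlgebra L M' :=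
    { toFun := s
      map_one' := hι (by rw [hs, map_one, map_one])
      map_mul' := fun x y => hι (by rw [hs, map_mul, map_mul, hs, hs])
      map_zero' := hι (by rw [hs, map_zero, map_zero])
      map_add' := fun x y => hι (by rw [hs, map_add, map_add, hs, hs])
      commutes' := fun r => hι (by rw [hs, AlgHomClass.commutes, AlgHomClass.commutes]) }
  have hcomp : (ι' : MonoidAlgebra L M' →ₐ[L] MonoidAlgebra L M).comp a = (f : B →ₐ[L] MonoidAlgebra L M) :=
    AlgHom.ext hs
  let t' : B →ₐc[L] MonoidAlgebra L M' := BialgHom.ofAlgHom a (AlgHom.ext fun b => by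
      show Coalgebra.counit (R := L) (s b) = _
      rw [← CoalgHomClass.counit_comp_apply ι' (s b), hs, CoalgHomClass.counit_comp_apply]
      rfl)
    (AlgHom.ext fun b => by
      have hinj : Function.Injective (TensorProduct.map (ι' : MonoidAlgebra L M' →ₗ[L] MonoidAlgebra L M)
          (ι' : MonoidAlgebra L M' →ₗ[L] MonoidAlgebra L M)) := by
        rw [← LinearMap.rTensor_comp_lTensor, LinearMap.coe_comp]
        exact (Module.Flat.rTensor_preserves_injective_linearMap _ hι).comp
          (Module.Flat.lTensor_preserves_injective_linearMap _ hι)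
      refine hinj ?_
      show TensorProduct.map _ _ (Algebra.TensorProduct.map a a (Coalgebra.comul (R := L) b)) =
        TensorProduct.map _ _ (Coalgebra.comul (R := L) (s b))
      refine Eq.trans ?_ ((CoalgHomClass.map_comp_comul_apply ι' (s b)).trans (by rw [hs])).symm
      refine Eq.trans ?_ (CoalgHomClass.map_comp_comul_apply f b)
      generalize Coalgebra.comul (R := L) b = z
      induction z using TensorProduct.induction_on with
      | zero => simp
      | tmul x y => simp [a, hs]
      | add x y hx hy => simp only [map_add, hx, hy])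
  refine ⟨M', t', fun b => (hs b).symm, fun z => ?_⟩
  induction z using MonoidAlgebra.induction_linear with
  | zero => exact ⟨0, map_zero t'⟩
  | add x y hx hy => obtain ⟨a, rfl⟩ := hx; obtain ⟨b, rfl⟩ := hy; exact ⟨a + b, map_add t' a b⟩
  | single m r =>
    obtain ⟨b, hb⟩ := m.2
    refine ⟨r • b, hι ?_⟩
    show ι' (s (r • b)) = _
    rw [hs, map_smul, show f b = MonoidAlgebra.single m.1 1 from hb]
    simp [ι']

theorem exists_additive {M : Type u} [CommGroup M] {r : ℕ} (e : M ≃* Multiplicative (Fin r → ℤ)) (M' : Subgroup M)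
    (h : M' ≠ ⊥) : ∃ ν : M' → L, (∀ a b, ν (a * b) = ν a + ν b) ∧ ∃ m, ν m ≠ 0 := by
  let N : Submodule ℤ (Fin r → ℤ) := AddSubgroup.toIntSubmodule (Subgroup.toAddSubgroup' (M'.map e.toMonoidHom))
  have hmem : ∀ m : M', Multiplicative.toAdd (e m.1) ∈ N := fun m => ⟨m.1, m.2, rfl⟩
  obtain ⟨n, b⟩ := Submodule.basisOfPid (Pi.basisFun ℤ (Fin r)) N
  have hn : n ≠ 0 := by
    rintro rfl
    refine h ((Subgroup.eq_bot_iff_forall _).2 fun m hm => ?_)
    have h0 : (⟨_, hmem ⟨m, hm⟩⟩ : N) = 0 := b.ext_elem fun i => i.elim0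
    exact e.injective ((Multiplicative.toAdd.injective ((congrArg Subtype.val h0).trans rfl)).trans (map_one e).symm)
  let i₀ : Fin n := ⟨0, Nat.pos_of_ne_zero hn⟩
  refine ⟨fun m => ((b.repr ⟨_, hmem m⟩ i₀ : ℤ) : L), fun x y => ?_, ?_⟩
  · rw [← Int.cast_add, ← Finsupp.add_apply, ← map_add]
    refine congrArg (fun z : N => (((b.repr z) i₀ : ℤ) : L)) ?_
    refine Subtype.ext ?_
    exact congrArg Multiplicative.toAdd (map_mul e x.1 y.1)
  · obtain ⟨m, hm, hme⟩ := (b i₀).2
    refine ⟨⟨m, hm⟩, ?_⟩
    have : (⟨_, hmem ⟨m, hm⟩⟩ : N) = b i₀ := Subtype.ext (congrArg Multiplicative.toAdd hme)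
    simp [this]

variable [IsAlgClosed L] {Z G Q : Over (Spec (CommRingCat.of L))} [GrpObj Z] [GrpObj G] [GrpObj Q]

/-- **Tangent vectors with a non-nilpotent commutator.** -/
theorem exists_tangents [IsAffine G.left] [Smooth G.hom] [ConnectedSpace G.left] [IsAffine Q.left] [Smooth Q.hom]
    [ConnectedSpace Q.left] (i : Z ⟶ G) (q : G ⟶ Q) [IsMonHom q] [Surjective q.left]
    (hk : AlgGrp.IsKernel i q) (hc : Red.IsCentralizerOf (𝟙 G) i) (hQ : ¬ Red.HasNoSubtorus L Q)
    {B : Type u} [CommRing B] [HopfAlgebra L B] (e : (specGrp L B).X ≅ Q) [IsMonHom e.hom] {n : ℕ}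
    (C : MatGen L B n) :
    ∃ d v : B →ₗ[L] L, IsTan d ∧ IsTan v ∧ ∀ N : ℕ, ((adM (C.c.map d)) ^ N) (C.c.map v) ≠ 0 := by
  classical
  haveI : IsAffineHom G.hom := isAffineHom_of_isAffine _
  haveI : IsAffineHom Q.hom := isAffineHom_of_isAffine _
  haveI : IsMonHom i := hc.1
  haveI : Mono i := hc.2.1
  have hker : ∀ (X : Over (Spec (CommRingCat.of L))) (z : X ⟶ G), z ≫ q = 1 →
      ∀ (X' : Over (Spec (CommRingCat.of L))) (x : X' ⟶ X) (g : X' ⟶ G), (x ≫ z) * g = g * (x ≫ z) := by
    intro X z hz X' x g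
    obtain ⟨w, hw, -⟩ := hk.exists_lift z (toUnit _) hz
    simpa using (hc.2.2 X z).1 ⟨w, hw⟩ X' x g
  -- the tori
  obtain ⟨R, _, j, hjm, hjmono, hR, hRnt⟩ :
      ∃ (R : Over (Spec (CommRingCat.of L))) (_ : GrpObj R) (j : R ⟶ Q),
        IsMonHom j ∧ Mono j ∧ Red.IsTorus R ∧ ¬ Red.IsTrivialGrp R := by
    by_contra hcon
    push Not at hcon
    exact hQ fun T _ j hm hmono hT => hcon T _ j hm hmono hT
  obtain ⟨T', _, i', f, hi', hf⟩ := MTImage.exists_maxTorus_containing j hR
  haveI := hi'.1; haveI := hi'.2.1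
  have hG : SGA3x.HasMaxTorusFpqcLocally G := by
    obtain ⟨T, hT, i₀, hi₀⟩ := MTImage.exists_maxTorus_general G
    refine ⟨_, 𝟙 _, inferInstance, inferInstance, fun V hV => ⟨V, hV.isCompact, by simp⟩, _, inferInstance,
      (Over.pullback (𝟙 _)).map i₀, Chev.MaxTorusBC.isMaximalTorus_bc i₀ hi₀ _⟩
  have hu : ∀ s : (Spec (CommRingCat.of L) : Scheme.{u}), Surjective ((Over.pullback (Red.geomPt s)).map q).left :=
    fun s => MorphismProperty.baseChange_map (P := @Surjective) (Red.geomPt s) q inferInstance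
  obtain ⟨T, _, iT, v, hT, hvm, hv, hvs, hvf⟩ :=
    (Groth.Agent.S8429.result _ G Q hG q hu hker).1 T' i' (Chev.Borel.isMaximalTorus_of_isMaxTorus i' hi')
  haveI := hT.1; haveI := hvm; haveI := hvs; haveI := hvf
  -- coordinates
  obtain ⟨A, _, eA, heA⟩ := FinHopf.exists_hopf (R := CommRingCat.of L) G
  haveI := heA
  haveI : Algebra.FiniteType L A := by
    have h0 : LocallyOfFiniteType (eA.hom.left ≫ G.hom) := by
      haveI : IsIso eA.hom.left := inferInstanceAs (IsIso ((Over.forget _).map eA.hom))
      infer_instance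
    rw [Over.w eA.hom] at h0
    exact RingHom.finiteType_algebraMap.1 ((HasRingHomProperty.Spec_iff (P := @LocallyOfFiniteType)).1 h0)
  haveI : IsNoetherianRing A := Algebra.FiniteType.isNoetherianRing L A
  haveI : IsDomain A := isDomain_of_smooth_connected eA
  obtain ⟨AT, _, _, eT, heT, hATft, hATdom, ⟨M, _, ⟨E⟩⟩⟩ := exists_hopf_torus hT.2.2.1
  haveI := heT
  obtain ⟨r, ⟨eM⟩⟩ := exists_lattice E
  haveI : IsMonHom eA.inv := inferInstance
  haveI : IsMonHom e.inv := inferInstance
  have hv₀ : IsMonHom (eT.hom ≫ iT ≫ eA.inv) := inferInstance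
  obtain ⟨t₀, ht₀⟩ := MTBridge.exists_bialgHom (R := L) (A := AT) (B := A) (eT.hom ≫ iT ≫ eA.inv)
  obtain ⟨p, hp⟩ := MTBridge.exists_bialgHom (R := L) (A := A) (B := B) (eA.hom ≫ q ≫ e.inv)
  let t : A →ₐc[L] MonoidAlgebra L M := (E : AT →ₐc[L] MonoidAlgebra L M).comp t₀
  have hpq : eA.hom.left ≫ q.left = Spec.map (CommRingCat.ofHom (p : B →ₐ[L] A).toRingHom) ≫ e.hom.left := by
    rw [← hp, ← Over.comp_left, ← Over.comp_left]
    simp
  have hti : eT.hom.left ≫ iT.left = Spec.map (CommRingCat.ofHom (t₀ : A →ₐ[L] AT).toRingHom) ≫ eA.hom.left := by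
    rw [← ht₀, ← Over.comp_left, ← Over.comp_left]
    simp
  have hq' : ∀ (S : CommAlgCat.{u} L) (x : SpA S ⟶ G), ptsR e S (x ≫ q) = compHom p S (ptsR eA S x) := fun S x =>
    ptsR_comp e eA q (p : B →ₐ[L] A) hpq S x
  obtain ⟨M', t', ht', hts⟩ := exists_factor_range (t.comp p)
  have hM' : M' ≠ ⊥ := by
    intro hbot
    have htriv : iT ≫ q = 1 := by
      refine over_hom_ext _ _ fun S x => (ptsR e S).injective ?_
      rw [← Category.assoc, hq', MonObj.comp_one, map_one, ptsR_comp eA eT iT (t₀ : A →ₐ[L] AT) hti]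
      refine WithConv.ext (AlgHom.ext fun b => ?_)
      show (ptsR eT S x).ofConv (t₀ (p b)) = _
      rw [AlgHom.convOne_apply]
      have hm : ∀ m : M', m = 1 := fun m => Subtype.ext ((Subgroup.eq_bot_iff_forall _).1 hbot m.1 m.2)
      have hy : ∀ y : MonoidAlgebra L M', MonoidAlgebra.mapDomainAlgHom L L M'.subtype y =
          algebraMap L (MonoidAlgebra L M) (Coalgebra.counit (R := L) y) := fun y => by
        induction y using MonoidAlgebra.induction_linear with
        | zero => simp
        | add a c ha hc => simp only [map_add, ha, hc]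
        | single a c => simp [hm a]
      have h3 : t₀ (p b) = algebraMap L AT (Coalgebra.counit (R := L) b) := EquivLike.injective E (by
        show (t.comp p) b = _
        rw [ht', hy, CoalgHomClass.counit_comp_apply, AlgHomClass.commutes])
      rw [h3, AlgHom.commutes]
    have hv1 : v = toUnit T ≫ η[T'] := by
      rw [← Hom.one_def, ← cancel_mono i', hv, htriv, MonObj.one_comp]
    haveI : QuasiCompact v.left := by
      haveI : IsAffine T.left := Chev.isAffine_of_isTorus hT.2.2.1
      haveI : IsAffine T'.left := Chev.isAffine_of_isTorus hi'.2.2.1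
      infer_instance
    haveI : EffectiveEpi v.left := inferInstance
    haveI : Epi v := (Over.forget _).epi_of_epi_map (inferInstanceAs (Epi v.left))
    have hid : toUnit T' ≫ η[T'] = 𝟙 T' := by
      rw [← cancel_epi v, ← Category.assoc, toUnit_unique (v ≫ toUnit T') (toUnit T), ← hv1, Category.comp_id]
    haveI : IsIso T'.hom := ⟨⟨(η[T'] : 𝟙_ _ ⟶ T').left, congrArg CommaMorphism.left hid,
      Over.w (η[T'] : 𝟙_ _ ⟶ T')⟩⟩
    refine hRnt ?_
    haveI : Mono (f ≫ i') := by rw [hf]; infer_instance
    haveI : Mono f := mono_of_mono f i'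
    haveI : IsSplitEpi f := ⟨⟨toUnit T' ≫ η[R], by
      have : IsMonHom f := MTSplit.isMonHom_of_comp_mono f i' j hf
      rw [Category.assoc, IsMonHom.one_hom]
      exact hid⟩⟩
    haveI : IsIso f := isIso_of_mono_of_isSplitEpi f
    haveI : IsIso f.left := inferInstanceAs (IsIso ((Over.forget _).map f))
    show IsIso R.hom
    rw [← Over.w f]
    infer_instance
  obtain ⟨ν, hν, hν0⟩ := exists_additive (L := L) eM M' hM'
  refine exists_adM_ne_zero p t t' M'.subtype Subtype.val_injective ht' hts (fun S _ _ g hg => ?_)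
    (fun S _ _ g hg => ?_) ν hν hν0 C
  · intro S' _ _ φ y
    let x : SpA (CommAlgCat.of L S) ⟶ G := (ptsR eA (CommAlgCat.of L S)).symm g
    have hx : ptsR eA (CommAlgCat.of L S) x = g := MulEquiv.apply_symm_apply _ _
    have hxq : x ≫ q = 1 := (ptsR e (CommAlgCat.of L S)).injective (by
      rw [hq', hx, map_one]; exact hg)
    have h := congrArg (ptsR eA (CommAlgCat.of L S'))
      (hker _ x hxq _ (sp (A := CommAlgCat.of L S) (B := CommAlgCat.of L S') φ)
        ((ptsR eA (CommAlgCat.of L S')).symm y))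
    rwa [map_mul, map_mul, MulEquiv.apply_symm_apply, ptsR_sp, hx] at h
  · let x : SpA (CommAlgCat.of L S) ⟶ G := (ptsR eA (CommAlgCat.of L S)).symm g
    have hx : ptsR eA (CommAlgCat.of L S) x = g := MulEquiv.apply_symm_apply _ _
    obtain ⟨z, hz⟩ : ∃ z, z ≫ i = x := (hc.2.2 _ x).2 fun X' w h => by
      refine over_hom_ext _ _ fun S' w' => (ptsR eA S').injective ?_
      rw [MonObj.comp_mul, MonObj.comp_mul, Category.comp_id, ← Category.assoc w', map_mul, map_mul]
      obtain ⟨φ, hφ⟩ : ∃ φ : S →ₐ[L] S', (sp (A := CommAlgCat.of L S) (B := S') φ) = w' ≫ w :=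
        ⟨{ toRingHom := (Spec.preimage (w' ≫ w).left).hom
           commutes' := fun c => by
            have e0 : CommRingCat.ofHom (algebraMap L S) ≫ Spec.preimage (w' ≫ w).left =
                CommRingCat.ofHom (algebraMap L S') := by
              apply Spec.map_injective
              rw [Spec.map_comp, Spec.map_preimage]
              exact Over.w (w' ≫ w)
            exact congr($(e0) c) }, Over.OverMorphism.ext (Spec.map_preimage _)⟩
      rw [← hφ, ptsR_sp, hx]
      exact hg S' φ _
    rw [← hx]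
    show compHom p ↑(CommAlgCat.of L S) _ = 1
    rw [← hq', ← hz, Category.assoc, hk.w, ← Category.assoc, toUnit_unique (z ≫ toUnit Z) (toUnit _),
      ← Hom.one_def, map_one]

end Groth.Agent.GrMax
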