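import Groth.Agent.GrMax.Containing
import Groth.Agent.TorScheme.Lift
import Groth.Agent.SubLocus.TorusCentralizer
import Groth.Agent.ThickSys.Desc
import Groth.Agent.WittUnip.Cover
import Groth.Agent.Chev.TorusCommMax
import Groth.Agent.MTBridge.Centralizer

/-!
# Maximal tori over artinian local rings
-/

set_option autoImplicit false
set_option linter.unusedSectionVars false
set_option linter.style.haveILetI false
set_option backward.isDefEq.respectTransparency false
set_option maxHeartbeats 2000000
set_option synthInstance.maxHeartbeats 400000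

universe u

open CategoryTheory CategoryTheory.Limits MonoidalCategory CartesianMonoidalCategory MonObj GrpObj AlgebraicGeometry

noncomputable section

namespace Groth.Agent.GrMax

open Groth.Agent.MTBridge Groth.Agent.GrpSubRep

variable {A : Type u} [CommRing A] [IsArtinianRing A] [IsLocalRing A]

theorem isNilpotent_max : IsNilpotent (IsLocalRing.maximalIdeal A) := by
  rw [← IsLocalRing.jacobson_eq_maximalIdeal (⊥ : Ideal A) bot_ne_top]
  exact IsArtinianRing.isNilpotent_jacobson_bot

instance surjective_qJ_max : Surjective (qJ (IsLocalRing.maximalIdeal A)) :=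
  ⟨fun x => by
    obtain ⟨z, hz⟩ := TorScheme.exists_factor_qJ isNilpotent_max _ (Red.geomPt x)
    exact ⟨z (IsLocalRing.closedPoint _), by rw [← Scheme.Hom.comp_apply, hz]; exact geomPt_closedPoint x⟩⟩

/-- The residue field as a quotient. -/
local notation "κA" => A ⧸ IsLocalRing.maximalIdeal A

variable (G : Over (Spec (CommRingCat.of A))) [GrpObj G] [Smooth G.hom] [QuasiCompact G.hom]

theorem isSeparated_artin : IsSeparated G.hom := by
  let i := qJ (IsLocalRing.maximalIdeal A)
  haveI : IsClosedImmersion i :=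
    IsClosedImmersion.spec_of_surjective (CommRingCat.ofHom (Ideal.Quotient.mk _)) Ideal.Quotient.mk_surjective
  letI : Field κA := Ideal.Quotient.field _
  haveI : IsSeparated (pullback.snd G.hom i) := by
    haveI : LocallyOfFiniteType (Red.bc i G).hom := inferInstanceAs (LocallyOfFiniteType (pullback.snd G.hom i))
    exact GrpField.isSeparated_hom (k := κA) (Red.bc i G)
  exact ThickSys.isSeparated_of_thickening (IsPullback.of_hasPullback G.hom i)

/-- A monomorphism from a torus is a closed immersion. -/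
theorem isClosedImmersion_torus_artin {R : Over (Spec (CommRingCat.of A))} [GrpObj R] (j : R ⟶ G) [IsMonHom j] [Mono j]
    (hR : Red.IsTorus R) : IsClosedImmersion j.left := by
  haveI := isSeparated_artin G
  haveI : IsAffineHom R.hom := MTBridge.isAffineHom R (MTBridge.isMultTypeFT_of_isTorus R hR)
  haveI : LocallyOfFiniteType R.hom := by
    haveI := MTBridge.locallyOfFinitePresentation_of_isMultTypeFT R (MTBridge.isMultTypeFT_of_isTorus R hR)
    infer_instance
  haveI : QuasiCompact (j.left ≫ G.hom) := by rw [Over.w j]; infer_instance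
  haveI : QuasiCompact j.left := QuasiCompact.of_comp j.left G.hom
  haveI := GrpField.subsingleton_spec_local_artin A
  haveI : Nonempty (Spec (CommRingCat.of A)) := inferInstanceAs (Nonempty (PrimeSpectrum A))
  exact GrpField.isClosedImmersion_of_mono j

/-- **Existence of maximal tori.** -/
theorem exists_maxTorus_artin : ∃ (T : Over (Spec (CommRingCat.of A))) (_ : GrpObj T) (i : T ⟶ G),
    Red.IsMaximalTorus i := by
  let I := IsLocalRing.maximalIdeal A
  letI : Field κA := Ideal.Quotient.field _
  haveI : Smooth (Red.bc (qJ I) G).hom := inferInstanceAs (Smooth (pullback.snd G.hom (qJ I)))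
  haveI : QuasiCompact (Red.bc (qJ I) G).hom := inferInstanceAs (QuasiCompact (pullback.snd G.hom (qJ I)))
  obtain ⟨T₀, _, i₀, h₀⟩ := exists_maxTorus (k := κA) (Red.bc (qJ I) G)
  haveI := h₀.1; haveI := h₀.2.1
  haveI : IsClosedImmersion i₀.left := by
    haveI := Chev.locallyOfFiniteType_of_isTorus (k := κA) h₀.2.2.1
    haveI := Chev.isAffine_of_isTorus (k := κA) h₀.2.2.1
    haveI : IsAffineHom T₀.hom := isAffineHom_of_isAffine _
    haveI : QuasiCompact i₀.left := by
      haveI : IsSeparated (Red.bc (qJ I) G).hom := GrpField.isSeparated_hom (k := κA) (Red.bc (qJ I) G)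
      haveI : QuasiCompact (i₀.left ≫ (Red.bc (qJ I) G).hom) := by rw [Over.w i₀]; infer_instance
      exact QuasiCompact.of_comp i₀.left (Red.bc (qJ I) G).hom
    haveI : IsSeparated (Red.bc (qJ I) G).hom := GrpField.isSeparated_hom (k := κA) (Red.bc (qJ I) G)
    exact GrpField.isClosedImmersion_of_mono i₀
  obtain ⟨A', _, _, hA', hft, f, hf, hfi, φ, hφ, hφb⟩ := exists_subgroup_lift I isNilpotent_max G inferInstance T₀
    (locally_of_isMultTypeFT' T₀ (isMultTypeFT_of_isTorus T₀ h₀.2.2.1)) i₀
  haveI := hf; haveI := hfi; haveI := hφ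
  haveI : Mono f.left := inferInstance
  haveI : Mono f := Over.mono_of_mono_left f
  have hφT : Red.IsTorus (Red.bc (qJ I) (specGrp A A').X) := TorScheme.isTorus_congr φ h₀.2.2.1
  have hHt : Red.IsTorus (specGrp A A').X :=
    TorScheme.isTorus_of_points (qJ I) (TorScheme.exists_factor_qJ isNilpotent_max) _ (locally_specGrp hA') hφT
  refine ⟨_, inferInstance, f, Chev.MaxTorusBC.isMaximalTorus_descend (qJ I) f hHt ?_⟩
  rw [← hφb]
  exact S8433.isMaximalTorus_of_iso_left φ i₀ hφT h₀

/-- **Every torus lies in a maximal one.** -/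
theorem exists_maxTorus_containing_artin {R : Over (Spec (CommRingCat.of A))} [GrpObj R] (j : R ⟶ G) [IsMonHom j]
    [Mono j] (hR : Red.IsTorus R) :
    ∃ (T : Over (Spec (CommRingCat.of A))) (_ : GrpObj T) (i : T ⟶ G) (f : R ⟶ T),
      Red.IsMaximalTorus i ∧ f ≫ i = j := by
  haveI := isSeparated_artin G
  haveI := isClosedImmersion_torus_artin G j hR
  obtain ⟨⟨Z, z, hzc, hzs, hz⟩, -⟩ :=
    SubLocus.exists_centralizer_normalizer_multType G R j (MTBridge.isMultTypeFT_of_isTorus R hR)
  haveI := hzc; haveI := hzs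
  haveI : Mono z.left := inferInstance
  haveI : Mono z := Over.mono_of_mono_left z
  have hzZ := (hz Z z).1 ⟨𝟙 Z, Category.id_comp z⟩
  obtain ⟨gZ, hzm⟩ := MTBridge.exists_grpObj_of_div z
    ((hz _ η[G]).2 fun X' x h => by
      rw [show x ≫ η[G] = 1 by rw [Hom.one_def, toUnit_unique (toUnit X') x], _root_.one_mul, _root_.mul_one])
    (fun T k₁ k₂ => (hz _ _).2 fun X' x h => by
      rw [MonObj.comp_mul, GrpObj.comp_inv, ← Category.assoc x k₁ z, ← Category.assoc x k₂ z]
      have c₁ : Commute ((x ≫ k₁) ≫ z) (h ≫ j) := hzZ X' (x ≫ k₁) h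
      have c₂ : Commute ((x ≫ k₂) ≫ z) (h ≫ j) := hzZ X' (x ≫ k₂) h
      exact c₁.inv_left.mul_left c₂)
  haveI := hzm
  haveI : QuasiCompact Z.hom := by rw [← Over.w z]; infer_instance
  obtain ⟨j', hj'⟩ := (hz R j).2 fun X' x h => by
    rw [← MonObj.mul_comp, ← MonObj.mul_comp, comm_points_torus R hR]
  haveI : IsMonHom j' := MTSplit.isMonHom_of_comp_mono j' z j hj'
  obtain ⟨T, _, t, ht⟩ := exists_maxTorus_artin Z
  haveI := ht.1; haveI := ht.2.1
  obtain ⟨y, hy⟩ := MTTorus.exists_factor_maximalTorus t ht hR j' fun X a x => by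
    rw [← cancel_mono z, MonObj.mul_comp, MonObj.mul_comp, Category.assoc x j' z, hj']
    have := hzZ X (a ≫ t) x
    simpa only [Category.assoc] using this
  refine ⟨T, inferInstance, t ≫ z, y, ?_, by rw [reassoc_of% hy, hj']⟩
  refine ⟨inferInstance, inferInstance, ht.2.2.1, fun s T' _ b _ _ g hT' hg => ?_⟩
  let F := Over.pullback (Red.geomPt s)
  haveI : PreservesLimitsOfShape WalkingCospan F :=
    (Adjunction.rightAdjoint_preservesLimits (Over.mapPullbackAdj _)).preservesLimitsOfShape
  have hju : (F.map y ≫ g) ≫ b = F.map j := by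
    rw [Category.assoc, hg, ← Functor.map_comp, reassoc_of% hy, hj']
  have hc : Red.IsCentralizerOf j z := ⟨inferInstance, inferInstance, hz⟩
  obtain ⟨b', hb'⟩ := ((Chev.CentBC.isCentralizerOf_bc (Red.geomPt s) j z hc).2.2 _ b).2 fun X' x h => by
    rw [← hju, ← Category.assoc h, ← MonObj.mul_comp, ← MonObj.mul_comp, comm_points_torus T' hT']
  haveI : IsMonHom b' := MTSplit.isMonHom_of_comp_mono b' (F.map z) b hb'
  haveI : Mono (b' ≫ F.map z) := by rw [hb']; infer_instance
  haveI : Mono b' := mono_of_mono b' (F.map z)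
  refine ht.2.2.2 s T' b' g hT' ?_
  rw [← cancel_mono (F.map z), Category.assoc, hb', hg, ← Functor.map_comp]

end Groth.Agent.GrMax
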