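import Groth.Agent.GrMax.CentSub
import Groth.Agent.GrMax.Weights
import Groth.Agent.MTBridge.Basic
import Groth.Agent.Chev.CentBC

/-!
# Matrix coefficients and centralizers of matrices after base change
-/

set_option autoImplicit false
set_option linter.unusedSectionVars false
set_option linter.style.haveILetI false
set_option backward.isDefEq.respectTransparency false
set_option maxHeartbeats 1000000
set_option synthInstance.maxHeartbeats 400000

universe u

open CategoryTheory CategoryTheory.Limits MonoidalCategory CartesianMonoidalCategory MonObj GrpObj AlgebraicGeometry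
open TensorProduct WithConv
open scoped Groth.Agent.Takeuchi
open Groth.Agent.GrassClosed (SpA over_hom_ext)
open Groth.Agent.Takeuchi (Pt push)
open Groth.Agent.MTBridge (specGrp)

noncomputable section

namespace Groth.Agent.GrMax

open Chev.Borel (ptsR)

variable {k : Type u} [Field k] (L : Type u) [Field L] [Algebra k L] {A : Type u} [CommRing A] [HopfAlgebra k A] {n : ℕ}

theorem adjoin_one_tmul (C : MatGen k A n) :
    Algebra.adjoin L (Set.range fun p : Fin n × Fin n => (1 : L) ⊗ₜ[k] C.c p.1 p.2) = ⊤ := by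
  rw [eq_top_iff]
  intro z hz
  clear hz
  induction z using TensorProduct.induction_on with
  | zero => exact zero_mem _
  | add x y hx hy => exact add_mem hx hy
  | tmul l a =>
    rw [show l ⊗ₜ[k] a = l • ((1 : L) ⊗ₜ[k] a) by rw [TensorProduct.smul_tmul', smul_eq_mul, _root_.mul_one]]
    refine Subalgebra.smul_mem _ ?_ _
    have ha : a ∈ Algebra.adjoin k (Set.range fun p : Fin n × Fin n => C.c p.1 p.2) := C.gen ▸ Algebra.mem_top
    induction ha using Algebra.adjoin_induction with
    | mem z hz => obtain ⟨p, rfl⟩ := hz; exact Algebra.subset_adjoin ⟨p, rfl⟩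
    | algebraMap r =>
      rw [show (1 : L) ⊗ₜ[k] algebraMap k A r = algebraMap L (L ⊗[k] A) (algebraMap k L r) by
        rw [Algebra.TensorProduct.algebraMap_apply, Algebra.algebraMap_eq_smul_one, ← TensorProduct.smul_tmul,
          ← Algebra.algebraMap_eq_smul_one]; rfl]
      exact Subalgebra.algebraMap_mem _ _
    | add a b _ _ ha hb => rw [TensorProduct.tmul_add]; exact add_mem ha hb
    | mul a b _ _ ha hb =>
      have := mul_mem ha hb
      rwa [Algebra.TensorProduct.tmul_mul_tmul, _root_.mul_one] at this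

/-- The generating matrix after base change. -/
def MatGen.bc (C : MatGen k A n) : MatGen L (L ⊗[k] A) n where
  c := C.c.map fun a => (1 : L) ⊗ₜ[k] a
  comul_c i j := by
    simp only [Matrix.map_apply, TensorProduct.comul_tmul, C.comul_c, TensorProduct.tmul_sum, map_sum]
    refine Finset.sum_congr rfl fun l _ => ?_
    simp
  counit_c i j := by
    simp [Matrix.map_apply, C.counit_c, Matrix.one_apply]
  gen := adjoin_one_tmul L C

/-- The underlying point of a point after base change. -/
def restrPt {R : Type u} [CommRing R] [Algebra k R] [Algebra L R] [IsScalarTower k L R] (x : Pt L (L ⊗[k] A) R) :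
    Pt k A R :=
  toConv ((x.ofConv.restrictScalars k).comp Algebra.TensorProduct.includeRight)

theorem mat_bc (C : MatGen k A n) {R : Type u} [CommRing R] [Algebra k R] [Algebra L R] [IsScalarTower k L R]
    (x : Pt L (L ⊗[k] A) R) : (C.bc L).mat x = C.mat (restrPt L x) :=
  Matrix.ext fun _ _ => rfl

/-- The tangent vectors over the extension, restricted. -/
theorem isTanAt_restrict {d : L ⊗[k] A →ₗ[L] L} (hd : IsTan d) :
    ∀ a b : A, d ((1 : L) ⊗ₜ[k] (a * b)) =
      Bialgebra.counitAlgHom k A a • d ((1 : L) ⊗ₜ[k] b) + Bialgebra.counitAlgHom k A b • d ((1 : L) ⊗ₜ[k] a) := by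
  intro a b
  have h := hd ((1 : L) ⊗ₜ[k] a) ((1 : L) ⊗ₜ[k] b)
  rw [Algebra.TensorProduct.tmul_mul_tmul, _root_.mul_one] at h
  rw [h]
  simp [Algebra.smul_def, mul_comm]

section Scheme

variable {G : Over (Spec (CommRingCat.of k))} [GrpObj G]
  (e : (Spec (CommRingCat.of A)).asOver (Spec (CommRingCat.of k)) ≅ G) [IsMonHom e.hom]

/-- The base-change morphism of the field extension. -/
abbrev fieldMap : Spec (CommRingCat.of L) ⟶ Spec (CommRingCat.of k) :=
  Spec.map (CommRingCat.ofHom (algebraMap k L))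

/-- The coordinates of a base-changed group. -/
theorem exists_bcIso : ∃ a : (specGrp L (L ⊗[k] A)).X ≅ Red.bc (fieldMap L) G, IsMonHom a.hom ∧
    a.hom.left ≫ pullback.fst G.hom (fieldMap L) =
      Spec.map (CommRingCat.ofHom (Algebra.TensorProduct.includeRight : A →ₐ[k] L ⊗[k] A).toRingHom) ≫ e.hom.left := by
  let ee := pullbackSymmetry (Spec (CommRingCat.of A) ↘ Spec (CommRingCat.of k)) (Spec (CommRingCat.of L) ↘ Spec (CommRingCat.of k)) ≪≫
    pullbackSpecIso' k L A
  let φ := ee.hom.asOver (Spec (CommRingCat.of L))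
  haveI hφ : IsMonHom φ := inferInstance
  haveI : IsIso φ := by
    haveI : IsIso ((Over.forget _).map φ) := inferInstanceAs (IsIso ee.hom)
    exact isIso_of_reflects_iso φ (Over.forget _)
  haveI : IsMonHom (asIso φ).hom := hφ
  let eL := (Over.pullback (fieldMap (k := k) L)).mapIso e
  haveI : IsMonHom eL.hom := inferInstanceAs (IsMonHom ((Over.pullback (fieldMap (k := k) L)).map e.hom))
  haveI : IsMonHom (asIso φ).symm.hom := inferInstanceAs (IsMonHom (asIso φ).inv)
  let a : (specGrp L (L ⊗[k] A)).X ≅ Red.bc (fieldMap L) G := (asIso φ).symm ≪≫ eL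
  refine ⟨a, inferInstanceAs (IsMonHom ((asIso φ).symm.hom ≫ eL.hom)), ?_⟩
  have h1 : a.hom.left = ee.inv ≫ ((Over.pullback (fieldMap (k := k) L)).map e.hom).left := by
    have h2 : (inv φ).left = ee.inv := by
      rw [← cancel_epi ee.hom, Iso.hom_inv_id]
      exact congrArg CommaMorphism.left (IsIso.hom_inv_id φ)
    show (inv φ).left ≫ _ = _
    rw [h2]
    rfl
  rw [h1, Category.assoc]
  have h3 : ((Over.pullback (fieldMap (k := k) L)).map e.hom).left ≫ pullback.fst G.hom (fieldMap L) =
      pullback.fst _ (fieldMap L) ≫ e.hom.left := pullback.lift_fst _ _ _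
  rw [h3, ← Category.assoc]
  congr 1
  simp only [ee, Iso.trans_inv, Category.assoc]
  erw [pullbackSymmetry_inv_comp_fst]
  exact pullbackSpecIso_inv_snd k L A

variable {L} (a : (specGrp L (L ⊗[k] A)).X ≅ Red.bc (fieldMap L) G) [IsMonHom a.hom]
  (ha : a.hom.left ≫ pullback.fst G.hom (fieldMap L) =
    Spec.map (CommRingCat.ofHom (Algebra.TensorProduct.includeRight : A →ₐ[k] L ⊗[k] A).toRingHom) ≫ e.hom.left)

/-- The underlying point over the ground field. -/
def kpt {X : Over (Spec (CommRingCat.of k))} {R : Type u} [CommRing R] [Algebra k R] [Algebra L R] [IsScalarTower k L R]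
    (y : SpA (CommAlgCat.of L R) ⟶ Red.bc (fieldMap L) X) : SpA (CommAlgCat.of k R) ⟶ X :=
  Over.homMk (y.left ≫ pullback.fst X.hom (fieldMap L)) (by
    rw [Category.assoc, pullback.condition]
    show y.left ≫ (Red.bc (fieldMap L) X).hom ≫ fieldMap L = Spec.map (CommRingCat.ofHom (algebraMap k R))
    rw [reassoc_of% (Over.w y)]
    show Spec.map (CommRingCat.ofHom (algebraMap L R)) ≫ Spec.map _ = _
    rw [← Spec.map_comp, ← CommRingCat.ofHom_comp, ← IsScalarTower.algebraMap_eq])

include ha in
theorem ptsR_kpt {R : Type u} [CommRing R] [Algebra k R] [Algebra L R] [IsScalarTower k L R]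
    (y : SpA (CommAlgCat.of L R) ⟶ Red.bc (fieldMap L) G) :
    ptsR e (CommAlgCat.of k R) (kpt y) = restrPt L (ptsR a (CommAlgCat.of L R) y) := by
  set ψ := ptsR a (CommAlgCat.of L R) y with hψ
  apply (ptsR e (CommAlgCat.of k R)).symm.injective
  rw [MulEquiv.symm_apply_apply]
  refine Over.OverMorphism.ext ?_
  show y.left ≫ _ = Spec.map (CommRingCat.ofHom (restrPt L ψ).ofConv.toRingHom) ≫ e.hom.left
  have hy : y.left = Spec.map (CommRingCat.ofHom ψ.ofConv.toRingHom) ≫ a.hom.left :=
    congrArg CommaMorphism.left ((ptsR a (CommAlgCat.of L R)).symm_apply_apply y).symm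
  rw [hy, Category.assoc, ha, ← Spec.map_comp_assoc]
  rfl

include ha in
theorem mat_kpt (C : MatGen k A n) {R : Type u} [CommRing R] [Algebra k R] [Algebra L R] [IsScalarTower k L R]
    (y : SpA (CommAlgCat.of L R) ⟶ Red.bc (fieldMap L) G) :
    (C.bc L).mat (ptsR a (CommAlgCat.of L R) y) = C.mat (ptsR e (CommAlgCat.of k R) (kpt y)) := by
  rw [mat_bc, ptsR_kpt e a ha]

include ha in
/-- Points of the base change of a centralizer of a matrix. -/
theorem bc_matrixCentralizer_mem (C : MatGen k A n) (e₀ : Matrix (Fin n) (Fin n) k)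
    {Z : Over (Spec (CommRingCat.of k))} (z : Z ⟶ G)
    (hz : ∀ (X : Over (Spec (CommRingCat.of k))) (g : X ⟶ G), (∃ w, w ≫ z = g) ↔
      ∀ (R : CommAlgCat.{u} k) (p : SpA R ⟶ X),
        C.mat (ptsR e R (p ≫ g)) * e₀.map (algebraMap k R) = e₀.map (algebraMap k R) * C.mat (ptsR e R (p ≫ g)))
    (X : Over (Spec (CommRingCat.of L))) (g : X ⟶ Red.bc (fieldMap L) G) :
    (∃ w, w ≫ (Over.pullback (fieldMap (k := k) L)).map z = g) ↔
      ∀ (R : CommAlgCat.{u} L) (p : SpA R ⟶ X),
        (C.bc L).mat (ptsR a R (p ≫ g)) * (e₀.map (algebraMap k L)).map (algebraMap L R) =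
          (e₀.map (algebraMap k L)).map (algebraMap L R) * (C.bc L).mat (ptsR a R (p ≫ g)) := by
  have hε : ∀ (R : Type u) [CommRing R] [Algebra k R] [Algebra L R] [IsScalarTower k L R],
      (e₀.map (algebraMap k L)).map (algebraMap L R) = e₀.map (algebraMap k R) := fun R _ _ _ _ =>
    Matrix.ext fun i j => (IsScalarTower.algebraMap_apply k L R (e₀ i j)).symm
  constructor
  · rintro ⟨w, rfl⟩ R p
    letI : Algebra k R := Algebra.compHom R (algebraMap k L)
    haveI : IsScalarTower k L R := .of_algebraMap_eq fun _ => rfl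
    have h0 := mat_kpt e a ha C (R := R) (p ≫ w ≫ (Over.pullback (fieldMap (k := k) L)).map z)
    show (C.bc L).mat (ptsR a (CommAlgCat.of L R) _) * _ = _ * (C.bc L).mat (ptsR a (CommAlgCat.of L R) _)
    rw [h0, hε R]
    have h := (hz Z z).1 ⟨𝟙 Z, Category.id_comp z⟩ (CommAlgCat.of k R) (kpt (p ≫ w))
    rwa [show kpt (p ≫ w) ≫ z = kpt (p ≫ w ≫ (Over.pullback (fieldMap (k := k) L)).map z) from
      Over.OverMorphism.ext (by
        show ((p ≫ w).left ≫ pullback.fst _ _) ≫ z.left = _
        simp [kpt, pullback.lift_fst])] at h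
  · intro hg
    let g₀ : (Over.map (fieldMap L)).obj X ⟶ G := ((Over.mapPullbackAdj (fieldMap L)).homEquiv X G).symm g
    have hg₀ : g₀.left = g.left ≫ pullback.fst G.hom (fieldMap L) := by
      simp [g₀, Over.mapPullbackAdj]
    obtain ⟨w₀, hw₀⟩ := (hz _ g₀).2 fun R p₀ => by
      let ρ := Spec.preimage (p₀.left ≫ X.hom)
      letI : Algebra L R := ρ.hom.toAlgebra
      haveI : IsScalarTower k L R := .of_algebraMap_eq fun x => by
        have e0 : CommRingCat.ofHom (algebraMap k L) ≫ ρ = CommRingCat.ofHom (algebraMap k R) := by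
          apply Spec.map_injective
          rw [Spec.map_comp, Spec.map_preimage, Category.assoc]
          exact Over.w p₀
        exact congr($(e0.symm) x)
      let p : SpA (CommAlgCat.of L R) ⟶ X := Over.homMk p₀.left (Spec.map_preimage (p₀.left ≫ X.hom)).symm
      have h := hg (CommAlgCat.of L R) p
      rw [mat_kpt e a ha C, hε R] at h
      rwa [show kpt (p ≫ g) = p₀ ≫ g₀ from Over.OverMorphism.ext (by
        show (p₀.left ≫ g.left) ≫ _ = p₀.left ≫ g₀.left
        rw [hg₀, Category.assoc])] at h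
    refine ⟨(Over.mapPullbackAdj (fieldMap L)).homEquiv X Z w₀, ?_⟩
    rw [← Adjunction.homEquiv_naturality_right, hw₀]
    exact Equiv.apply_symm_apply _ _

end Scheme

end Groth.Agent.GrMax
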