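import Groth.Agent.GrMax.MatCoeff
import Groth.Agent.Chev.CentScheme
import Groth.Agent.GrpField.SchImg

/-!
# The centralizer of a matrix in an affine group is a closed subgroup
-/

set_option autoImplicit false
set_option linter.unusedSectionVars false
set_option linter.style.haveILetI false
set_option backward.isDefEq.respectTransparency false
set_option maxHeartbeats 1000000

universe u

open CategoryTheory CategoryTheory.Limits MonoidalCategory CartesianMonoidalCategory MonObj GrpObj AlgebraicGeometry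
open TensorProduct WithConv
open scoped Groth.Agent.Takeuchi
open Groth.Agent.GrassClosed (SpA over_hom_ext exists_hom_of_points)
open Groth.Agent.Takeuchi (Pt push push_mul push_inv)

noncomputable section

namespace Groth.Agent.GrMax

open Chev.Borel (ptsR ptsR_sp sp_ptsR_symm)

variable {k : Type u} [Field k] {A : Type u} [CommRing A] [HopfAlgebra k A] {G : Over (Spec (CommRingCat.of k))} [GrpObj G]
  (e : (Spec (CommRingCat.of A)).asOver (Spec (CommRingCat.of k)) ≅ G) [IsMonHom e.hom] {n : ℕ}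

theorem exists_matrixCentralizer (C : MatGen k A n) (e₀ : Matrix (Fin n) (Fin n) k) :
    ∃ (Z : Over (Spec (CommRingCat.of k))) (_ : GrpObj Z) (z : Z ⟶ G), IsMonHom z ∧ IsClosedImmersion z.left ∧
      IsAffine Z.left ∧ ∀ (X : Over (Spec (CommRingCat.of k))) (g : X ⟶ G), (∃ w, w ≫ z = g) ↔
        ∀ (R : CommAlgCat.{u} k) (p : SpA R ⟶ X),
          C.mat (ptsR e R (p ≫ g)) * e₀.map (algebraMap k R) = e₀.map (algebraMap k R) * C.mat (ptsR e R (p ≫ g)) := by
  let F : Matrix (Fin n) (Fin n) A := C.c * e₀.map (algebraMap k A) - e₀.map (algebraMap k A) * C.c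
  let J : Ideal A := Ideal.span (Set.range fun p : Fin n × Fin n => F p.1 p.2)
  let Comm : ∀ (R : Type u) [CommRing R] [Algebra k R], Pt k A R → Prop := fun R _ _ g =>
    C.mat g * e₀.map (algebraMap k R) = e₀.map (algebraMap k R) * C.mat g
  have hF : ∀ (R : Type u) [CommRing R] [Algebra k R] (g : Pt k A R), (∀ a ∈ J, g.ofConv a = 0) ↔ Comm R g := by
    intro R _ _ g
    have hm : F.map g.ofConv = C.mat g * e₀.map (algebraMap k R) - e₀.map (algebraMap k R) * C.mat g := by
      simp only [F]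
      rw [Matrix.map_sub g.ofConv (map_sub g.ofConv), Matrix.map_mul, Matrix.map_mul]
      have h2 : (e₀.map (algebraMap k A)).map g.ofConv = e₀.map (algebraMap k R) :=
        Matrix.ext fun i j => g.ofConv.commutes _
      rw [h2]
      rfl
    constructor
    · intro h
      refine sub_eq_zero.1 (hm.symm.trans (Matrix.ext fun i j => ?_))
      exact h _ (Ideal.subset_span ⟨(i, j), rfl⟩)
    · intro h a ha
      induction ha using Submodule.span_induction with
      | mem x hx =>
        obtain ⟨⟨i, j⟩, rfl⟩ := hx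
        show (F.map g.ofConv) i j = 0
        rw [hm, sub_eq_zero.2 h]
        rfl
      | zero => exact map_zero _
      | add x y _ _ hx hy => rw [map_add, hx, hy, add_zero]
      | smul r x _ hx => rw [smul_eq_mul, map_mul, hx, mul_zero]
  let Z := (Spec (CommRingCat.of (A ⧸ J))).asOver (Spec (CommRingCat.of k))
  let gZ : Z ⟶ G := (ptsR e (CommAlgCat.of k (A ⧸ J))).symm (toConv (Ideal.Quotient.mkₐ k J))
  haveI : IsIso e.hom.left := inferInstanceAs (IsIso ((Over.forget _).map e.hom))
  haveI : IsClosedImmersion (Spec.map (CommRingCat.ofHom (Ideal.Quotient.mkₐ k J).toRingHom)) :=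
    IsClosedImmersion.spec_of_surjective _ Ideal.Quotient.mk_surjective
  haveI : IsClosedImmersion gZ.left :=
    inferInstanceAs (IsClosedImmersion (Spec.map (CommRingCat.ofHom (Ideal.Quotient.mkₐ k J).toRingHom) ≫ e.hom.left))
  haveI : Mono gZ := GrpField.SchImg.mono_of_isClosedImmersion gZ
  have hZpt : ∀ (R : CommAlgCat.{u} k) (q : SpA R ⟶ Z), Comm R (ptsR e R (q ≫ gZ)) := by
    intro R q
    let φ : (A ⧸ J) →ₐ[k] R :=
      { toRingHom := (Spec.preimage q.left).hom
        commutes' := fun x => by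
          have e0 : CommRingCat.ofHom (algebraMap k (A ⧸ J)) ≫ Spec.preimage q.left = CommRingCat.ofHom (algebraMap k R) := by
            apply Spec.map_injective
            rw [Spec.map_comp, Spec.map_preimage]
            exact Over.w q
          exact congr($(e0) x) }
    have hq : (Chev.PtsAction.sp (A := CommAlgCat.of k (A ⧸ J)) (B := R) φ : SpA R ⟶ Z) = q :=
      Over.OverMorphism.ext (Spec.map_preimage q.left)
    rw [← hq, ptsR_sp,
      show ptsR e (CommAlgCat.of k (A ⧸ J)) gZ = toConv (Ideal.Quotient.mkₐ k J) from MulEquiv.apply_symm_apply _ _]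
    refine (hF R _).1 fun a ha => ?_
    show φ (Ideal.Quotient.mk J a) = 0
    rw [Ideal.Quotient.eq_zero_iff_mem.2 ha, map_zero]
  have hmem : ∀ (X : Over (Spec (CommRingCat.of k))) (g : X ⟶ G), (∃ w, w ≫ gZ = g) ↔
      ∀ (R : CommAlgCat.{u} k) (p : SpA R ⟶ X), Comm R (ptsR e R (p ≫ g)) := by
    intro X g
    constructor
    · rintro ⟨w, rfl⟩ R p
      rw [← Category.assoc]
      exact hZpt R _
    · intro hg
      choose z hz using fun (R : CommAlgCat.{u} k) (p : SpA R ⟶ X) =>
        (⟨Chev.PtsAction.sp (A := CommAlgCat.of k (A ⧸ J)) (B := R)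
          (Ideal.Quotient.liftₐ J (ptsR e R (p ≫ g)).ofConv ((hF R _).2 (hg R p))), rfl⟩ : ∃ z : SpA R ⟶ Z, z = _)
      have hzg : ∀ (R : CommAlgCat.{u} k) (p : SpA R ⟶ X), z R p ≫ gZ = p ≫ g := by
        intro R p
        rw [hz]
        apply (ptsR e R).injective
        have := ptsR_sp e (R := CommAlgCat.of k (A ⧸ J)) (R' := R)
          (Ideal.Quotient.liftₐ J (ptsR e R (p ≫ g)).ofConv ((hF R _).2 (hg R p))) gZ
        rw [show ptsR e (CommAlgCat.of k (A ⧸ J)) gZ = toConv (Ideal.Quotient.mkₐ k J) from MulEquiv.apply_symm_apply _ _] at this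
        exact this.trans (WithConv.ext (AlgHom.ext fun a => rfl))
      obtain ⟨zz, hzz⟩ := exists_hom_of_points (Y := X) (X := Z) z (fun R R' φ p p' hp => by
        have e0 : p' = Chev.PtsAction.sp φ.hom ≫ p := Over.OverMorphism.ext hp
        have e1 : z R' p' = Chev.PtsAction.sp φ.hom ≫ z R p := by
          rw [← cancel_mono gZ, Category.assoc, hzg, hzg, e0, Category.assoc]
        rw [e1]
        rfl)
      exact ⟨zz, over_hom_ext _ _ fun R p => by rw [← Category.assoc, hzz, hzg]⟩
  have he' : ∃ u : 𝟙_ (Over (Spec (CommRingCat.of k))) ⟶ Z, u ≫ gZ = η[G] := (hmem _ _).2 fun R p => by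
    show C.mat _ * _ = _ * C.mat _
    rw [show p ≫ η[G] = 1 by rw [Hom.one_def, toUnit_unique (toUnit _) p], map_one, C.mat_one]
    simp
  have hdiv : ∀ (T : Over (Spec (CommRingCat.of k))) (k₁ k₂ : T ⟶ Z),
      ∃ k₃ : T ⟶ Z, k₃ ≫ gZ = (k₁ ≫ gZ)⁻¹ * (k₂ ≫ gZ) := by
    intro T k₁ k₂
    refine (hmem _ _).2 fun R p => ?_
    show C.mat _ * _ = _ * C.mat _
    rw [MonObj.comp_mul, GrpObj.comp_inv, map_mul, map_inv, C.mat_mul]
    have h1 : Comm R (ptsR e R (p ≫ k₁ ≫ gZ)) := by rw [← Category.assoc]; exact hZpt R _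
    have h2 : Comm R (ptsR e R (p ≫ k₂ ≫ gZ)) := by rw [← Category.assoc]; exact hZpt R _
    set a := ptsR e R (p ≫ k₁ ≫ gZ)
    set b := ptsR e R (p ≫ k₂ ≫ gZ)
    set ε := e₀.map (algebraMap k R)
    have h3 : C.mat a⁻¹ * ε = ε * C.mat a⁻¹ := by
      calc C.mat a⁻¹ * ε = C.mat a⁻¹ * (ε * C.mat a) * C.mat a⁻¹ := by
            rw [_root_.mul_assoc, _root_.mul_assoc, ← C.mat_mul, mul_inv_cancel, C.mat_one, _root_.mul_one]
        _ = C.mat a⁻¹ * (C.mat a * ε) * C.mat a⁻¹ := by rw [show C.mat a * ε = ε * C.mat a from h1]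
        _ = ε * C.mat a⁻¹ := by rw [← _root_.mul_assoc, ← C.mat_mul, inv_mul_cancel, C.mat_one, _root_.one_mul]
    rw [_root_.mul_assoc, show C.mat b * ε = ε * C.mat b from h2, ← _root_.mul_assoc, h3, _root_.mul_assoc]
  obtain ⟨gg, hm⟩ := GrpField.SchImg.exists_grpObj_of_div gZ he' hdiv
  exact ⟨Z, gg, gZ, hm, inferInstance, inferInstanceAs (IsAffine (Spec (CommRingCat.of (A ⧸ J)))), hmem⟩

end Groth.Agent.GrMax
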