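import Mathlib

/-!
# The multiplicative point of the semisimple part of a derivation

For a derivation `δ` of an algebra generated by the entries of a matrix `c` with `δ c = c D`, the
decomposition into generalised eigenspaces is a grading by the additive group of eigenvalues, hence
a point with values in its group algebra, given by the spectral projectors of `D`.
-/

set_option autoImplicit false
set_option linter.unusedSectionVars false

universe u v

open Polynomial

noncomputable section

namespace Groth.Agent.GrMax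

variable {L : Type u} [Field L] {n : ℕ}

open Classical in
/-- Spectral projectors from a polynomial in a matrix with semisimple value. -/
theorem exists_projectors (D : Matrix (Fin n) (Fin n) L) (Λ : Finset L) (σ : L → L) (hσ : Set.InjOn σ Λ)
    (q : L[X]) (hq : ∀ l ∈ Λ, q.eval l = σ l) {N : ℕ} (hD : aeval D (∏ l ∈ Λ, (X - C l) ^ N) = 0)
    (hss : aeval (aeval D q) (∏ l ∈ Λ, (X - C (σ l))) = 0) :
    ∃ E : L → Matrix (Fin n) (Fin n) L, (∑ l ∈ Λ, E l = 1) ∧ (∀ l ∈ Λ, (D - l • 1) ^ N * E l = 0) ∧
      (∀ l ∈ Λ, aeval D q * E l = σ l • E l) ∧ (∀ l, E l ∈ Algebra.adjoin L {aeval D q}) ∧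
      (∀ l ∈ Λ, ∀ m ∈ Λ, E l * E m = if l = m then E l else 0) ∧ aeval D q = ∑ l ∈ Λ, σ l • E l := by
  classical
  set e := aeval D q with he
  let E : L → Matrix (Fin n) (Fin n) L := fun l => aeval e (Lagrange.basis Λ σ l)
  have hsum : ∑ l ∈ Λ, E l = 1 := by
    rcases Λ.eq_empty_or_nonempty with rfl | hΛ
    · simp only [Finset.prod_empty, map_one] at hss
      simp only [Finset.sum_empty]
      exact hss.symm
    · show ∑ l ∈ Λ, aeval e (Lagrange.basis Λ σ l) = 1
      rw [← map_sum, Lagrange.sum_basis hσ hΛ, map_one]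
  have heE : ∀ l ∈ Λ, e * E l = σ l • E l := by
    intro l hl
    have h1 : (X - C (σ l)) * Lagrange.basis Λ σ l =
        C (Lagrange.nodalWeight Λ σ l) * ∏ m ∈ Λ, (X - C (σ m)) := by
      have h0 : Lagrange.basis Λ σ l = C (Lagrange.nodalWeight Λ σ l) * ∏ m ∈ Λ.erase l, (X - C (σ m)) := by
        rw [Lagrange.basis, Lagrange.nodalWeight, map_prod, ← Finset.prod_mul_distrib]
        rfl
      rw [h0, ← Finset.mul_prod_erase Λ _ hl]
      ring
    have := congrArg (aeval e) h1
    rw [map_mul (f := aeval e) (x := C _), hss, mul_zero, map_mul, map_sub, aeval_X, aeval_C, sub_mul, sub_eq_zero] at this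
    rwa [Algebra.smul_def]
  refine ⟨E, hsum, fun l hl => ?_, heE, fun l => ?_, fun l hl m hm => ?_, ?_⟩
  · let P' : L[X] := ∏ m ∈ Λ.erase l, (X - C m) ^ N
    have hcop : IsCoprime P' (q - C (σ l)) := by
      refine IsCoprime.prod_left fun m hm => IsCoprime.pow_left ?_
      refine (irreducible_X_sub_C m).coprime_iff_not_dvd.2 fun hdvd => ?_
      obtain ⟨hne, hm'⟩ := Finset.mem_erase.1 hm
      rw [dvd_iff_isRoot, IsRoot, eval_sub, eval_C, hq m hm', sub_eq_zero] at hdvd
      exact hne (hσ hm' hl hdvd)
    obtain ⟨a, b, hab⟩ := hcop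
    have h2 : (X - C l) ^ N = a * (∏ m ∈ Λ, (X - C m) ^ N) + b * (X - C l) ^ N * (q - C (σ l)) := by
      rw [← Finset.mul_prod_erase Λ _ hl]
      show _ = a * ((X - C l) ^ N * P') + _
      linear_combination (-((X - C l) ^ N)) * hab
    have h3 := congrArg (aeval D) h2
    simp only [map_pow, map_sub, aeval_X, aeval_C, map_add, map_mul, hD, mul_zero, zero_add, ← he,
      Algebra.algebraMap_eq_smul_one] at h3
    rw [h3, mul_assoc, sub_mul, smul_one_mul, heE l hl, sub_self, mul_zero]
  · exact Polynomial.aeval_mem_adjoin_singleton _ _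
  · have hpol : ∀ p : L[X], aeval e p * E m = p.eval (σ m) • E m := fun p => by
      induction p using Polynomial.induction_on' with
      | add p p' hp hp' => rw [map_add, add_mul, hp, hp', eval_add, add_smul]
      | monomial i a =>
        rw [aeval_monomial, eval_monomial, ← Algebra.smul_def, smul_mul_assoc, mul_smul]
        congr 1
        induction i with
        | zero => simp
        | succ i ih => rw [pow_succ, mul_assoc, heE m hm, mul_smul_comm, ih, smul_smul, pow_succ, mul_comm]
    show aeval e (Lagrange.basis Λ σ l) * E m = _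
    rw [hpol]
    split_ifs with h
    · subst h
      rw [Lagrange.eval_basis_self hσ hm, one_smul]
    · rw [Lagrange.eval_basis_of_ne h hm, zero_smul]
  · calc e = e * ∑ l ∈ Λ, E l := by rw [hsum, mul_one]
      _ = _ := by rw [Finset.mul_sum]; exact Finset.sum_congr rfl heE

variable {B : Type v} [CommRing B] [Algebra L B]

/-- Products of generalised eigenvectors of a derivation. -/
theorem mul_mem_maxGenEigenspace (δ : Derivation L B B) {a b : L} {x y : B}
    (hx : x ∈ Module.End.maxGenEigenspace δ.toLinearMap a) (hy : y ∈ Module.End.maxGenEigenspace δ.toLinearMap b) :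
    x * y ∈ Module.End.maxGenEigenspace δ.toLinearMap (a + b) := by
  obtain ⟨m, hm⟩ := (Module.End.mem_maxGenEigenspace _ _ _).1 hx
  obtain ⟨p, hp⟩ := (Module.End.mem_maxGenEigenspace _ _ _).1 hy
  refine (Module.End.mem_maxGenEigenspace _ _ _).2 ⟨m + p, ?_⟩
  suffices h : ∀ (s : ℕ) (m p : ℕ), m + p = s → ∀ x y : B, ((δ.toLinearMap - a • (1 : Module.End L B)) ^ m) x = 0 →
      ((δ.toLinearMap - b • (1 : Module.End L B)) ^ p) y = 0 →
      ((δ.toLinearMap - (a + b) • (1 : Module.End L B)) ^ s) (x * y) = 0 from h (m + p) m p rfl x y hm hp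
  intro s
  induction s with
  | zero =>
    intro m p hs x y hx' _
    obtain ⟨rfl, rfl⟩ : m = 0 ∧ p = 0 := by omega
    simp only [pow_zero, Module.End.one_apply] at hx' ⊢
    rw [hx', zero_mul]
  | succ s ih =>
    intro m p hs x y hx' hy'
    rcases m with _ | m
    · simp only [pow_zero, Module.End.one_apply] at hx'
      rw [hx', zero_mul, map_zero]
    rcases p with _ | p
    · simp only [pow_zero, Module.End.one_apply] at hy'
      rw [hy', mul_zero, map_zero]
    rw [pow_succ, Module.End.mul_apply] at hx' hy' ⊢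
    have e : (δ.toLinearMap - (a + b) • (1 : Module.End L B)) (x * y) =
        (δ.toLinearMap - a • (1 : Module.End L B)) x * y + x * (δ.toLinearMap - b • (1 : Module.End L B)) y := by
      simp only [LinearMap.sub_apply, LinearMap.smul_apply, Module.End.one_apply, Derivation.coeFn_coe,
        Derivation.leibniz, smul_eq_mul, add_smul, LinearMap.add_apply, sub_mul, mul_sub, smul_mul_assoc, mul_smul_comm]
      ring
    rw [e, map_add, ih m (p + 1) (by omega) _ _ hx' (by rw [pow_succ, Module.End.mul_apply]; exact hy'),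
      ih (m + 1) p (by omega) _ _ (by rw [pow_succ, Module.End.mul_apply]; exact hx') hy', add_zero]

/-- **The point of the semisimple part of a derivation.** -/
theorem exists_derivPoint (δ : Derivation L B B) (c : Matrix (Fin n) (Fin n) B)
    (hgen : Algebra.adjoin L (Set.range fun p : Fin n × Fin n => c p.1 p.2) = ⊤)
    (D : Matrix (Fin n) (Fin n) L) (hδ : c.map δ = c * D.map (algebraMap L B))
    (ε : B →ₐ[L] L) (hε : c.map ε = 1)
    {M : Type*} [CommGroup M] [DecidableEq M] (ι : M → L) (hι : Function.Injective ι) (hι1 : ι 1 = 0)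
    (hιmul : ∀ x y, ι (x * y) = ι x + ι y)
    (Λ : Finset L) (μ : L → M) (hμ : ∀ l ∈ Λ, ι (μ l) = l) (E : L → Matrix (Fin n) (Fin n) L)
    (hE : ∑ l ∈ Λ, E l = 1) {N : ℕ} (hDE : ∀ l ∈ Λ, (D - l • 1) ^ N * E l = 0) :
    ∃ ψ : B →ₐ[L] MonoidAlgebra L M, ∀ i j, ψ (c i j) = ∑ l ∈ Λ, MonoidAlgebra.single (μ l) (E l i j) := by
  classical
  let V : M → Submodule L B := fun m => Module.End.maxGenEigenspace δ.toLinearMap (ι m)
  let a := algebraMap L B
  have hone : (1 : B) ∈ V 1 := by
    refine (Module.End.mem_maxGenEigenspace _ _ _).2 ⟨1, ?_⟩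
    simp [hι1]
  have hmul : ∀ {x y : M} {b b' : B}, b ∈ V x → b' ∈ V y → b * b' ∈ V (x * y) := fun {x y b b'} hb hb' => by
    show b * b' ∈ Module.End.maxGenEigenspace δ.toLinearMap (ι (x * y))
    rw [hιmul]
    exact mul_mem_maxGenEigenspace δ hb hb'
  -- the eigenvectors `c E_l`
  have hstep : ∀ (l : L) (P : Matrix (Fin n) (Fin n) L) (i j : Fin n),
      (δ.toLinearMap - l • (1 : Module.End L B)) ((c * P.map a) i j) = (c * ((D - l • 1) * P).map a) i j := by
    intro l P i j
    have h1 : δ ((c * P.map a) i j) = (c.map δ * P.map a) i j := by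
      simp [Matrix.mul_apply, Derivation.leibniz, a, mul_comm]
    rw [LinearMap.sub_apply, LinearMap.smul_apply, Module.End.one_apply, Derivation.coeFn_coe, h1, hδ,
      Matrix.mul_assoc, ← Matrix.map_mul]
    have h2 : (D * P - l • P).map a = (D * P).map a - l • P.map a := Matrix.ext fun r s => by
      simp only [a, Matrix.map_apply, Matrix.sub_apply, Matrix.smul_apply, smul_eq_mul, map_sub, map_mul, Algebra.smul_def (A := B), Algebra.algebraMap_self_apply]
    rw [sub_mul, smul_one_mul, h2, Matrix.mul_sub, Matrix.mul_smul, Matrix.sub_apply, Matrix.smul_apply]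
  have hpow : ∀ (l : L) (m : ℕ) (P : Matrix (Fin n) (Fin n) L) (i j : Fin n),
      ((δ.toLinearMap - l • (1 : Module.End L B)) ^ m) ((c * P.map a) i j) = (c * ((D - l • 1) ^ m * P).map a) i j := by
    intro l m
    induction m with
    | zero => simp
    | succ m ih =>
      intro P i j
      rw [pow_succ', Module.End.mul_apply, ih, hstep, ← mul_assoc, ← pow_succ']
  have hvec : ∀ l ∈ Λ, ∀ i j, (c * (E l).map a) i j ∈ V (μ l) := by
    intro l hl i j
    refine (Module.End.mem_maxGenEigenspace _ _ _).2 ⟨N, ?_⟩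
    rw [hμ l hl, hpow, hDE l hl]
    simp
  have hcij : ∀ i j, c i j = ∑ l ∈ Λ, (c * (E l).map a) i j := by
    intro i j
    have : c = ∑ l ∈ Λ, c * (E l).map a := by
      rw [← Matrix.mul_sum]
      have hs : (∑ l ∈ Λ, (E l).map a) = (∑ l ∈ Λ, E l).map a :=
        Matrix.ext fun r s => by simp [Matrix.sum_apply]
      rw [hs, hE, Matrix.map_one a (map_zero a) (map_one a), Matrix.mul_one]
    conv_lhs => rw [this, Matrix.sum_apply]
  -- the grading
  have htop : iSup V = ⊤ := by
    let S : Subalgebra L B := (iSup V).toSubalgebra (Submodule.mem_iSup_of_mem 1 hone) (fun x y hx hy => by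
      induction hx using Submodule.iSup_induction' with
      | mem m x hx =>
        induction hy using Submodule.iSup_induction' with
        | mem m' y hy => exact Submodule.mem_iSup_of_mem (m * m') (hmul hx hy)
        | zero => rw [mul_zero]; exact zero_mem _
        | add y y' _ _ h h' => rw [mul_add]; exact add_mem h h'
      | zero => rw [zero_mul]; exact zero_mem _
      | add x x' _ _ h h' => rw [add_mul]; exact add_mem h h')
    have hS : S = ⊤ := top_le_iff.1 (hgen ▸ Algebra.adjoin_le (by
      rintro _ ⟨⟨i, j⟩, rfl⟩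
      show c i j ∈ iSup V
      rw [hcij i j]
      exact Submodule.sum_mem _ fun l hl => Submodule.mem_iSup_of_mem _ (hvec l hl i j)))
    exact top_le_iff.1 fun x _ => (hS ▸ Algebra.mem_top : x ∈ S)
  have hint : DirectSum.IsInternal V :=
    DirectSum.isInternal_submodule_of_iSupIndep_of_iSup_eq_top
      ((Module.End.independent_maxGenEigenspace δ.toLinearMap).comp hι) htop
  let dec := LinearEquiv.ofBijective (DirectSum.coeLinearMap V) hint
  let ψ₀ : B →ₗ[L] MonoidAlgebra L M := (DirectSum.toModule L M _ fun m =>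
    (MonoidAlgebra.lsingle m).comp (ε.toLinearMap.comp (V m).subtype)).comp dec.symm.toLinearMap
  have hψ : ∀ (m : M) (b : B), b ∈ V m → ψ₀ b = MonoidAlgebra.single m (ε b) := by
    intro m b hb
    have : dec.symm b = DirectSum.lof L M (fun m => V m) m ⟨b, hb⟩ := by
      rw [LinearEquiv.symm_apply_eq]
      show b = DirectSum.coeLinearMap V _
      rw [DirectSum.lof_eq_of, DirectSum.coeLinearMap_of]
    simp only [ψ₀, LinearMap.comp_apply, LinearEquiv.coe_coe, this, DirectSum.toModule_lof]
    rfl
  have hψmul : ∀ x y, ψ₀ (x * y) = ψ₀ x * ψ₀ y := by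
    intro x y
    have hx : x ∈ iSup V := htop ▸ Submodule.mem_top
    induction hx using Submodule.iSup_induction' with
    | mem m x hx =>
      have hy : y ∈ iSup V := htop ▸ Submodule.mem_top
      induction hy using Submodule.iSup_induction' with
      | mem m' y hy =>
        rw [hψ _ _ (hmul hx hy), hψ _ _ hx, hψ _ _ hy, MonoidAlgebra.single_mul_single, map_mul]
      | zero => simp
      | add y y' _ _ h h' => rw [mul_add, map_add, h, h', map_add, mul_add]
    | zero => simp
    | add x x' _ _ h h' => rw [add_mul, map_add, h, h', map_add, add_mul]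
  refine ⟨AlgHom.ofLinearMap ψ₀ ((hψ 1 1 hone).trans (by rw [map_one]; rfl)) hψmul, fun i j => ?_⟩
  show ψ₀ (c i j) = _
  rw [hcij i j, map_sum]
  refine Finset.sum_congr rfl fun l hl => ?_
  rw [hψ _ _ (hvec l hl i j)]
  congr 1
  have h2 : (c * (E l).map a).map ε = E l := by
    rw [Matrix.map_mul, hε, Matrix.map_map, Matrix.one_mul]
    exact Matrix.ext fun r s => by simp [a]
  exact congrFun (congrFun h2 i) j

end Groth.Agent.GrMax
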