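import Groth.Agent.GrMax.TorusPair
import Groth.Agent.Chev.CentScheme
import Groth.Prelude.Def_LieS

/-!
# The Lie algebra of an affine group as a Lie algebra of matrices
-/

set_option autoImplicit false
set_option linter.unusedSectionVars false
set_option backward.isDefEq.respectTransparency false
set_option maxHeartbeats 1000000

universe u

open CategoryTheory CategoryTheory.Limits MonoidalCategory CartesianMonoidalCategory MonObj GrpObj AlgebraicGeometry
open TensorProduct WithConv LieS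
open scoped Groth.Agent.Takeuchi
open Groth.Agent.GrassClosed (SpA over_hom_ext)
open Groth.Agent.Takeuchi (Pt push)
open Groth.Agent.Chev.PtsAction (sp)
open Groth.Agent.Chev.Borel (ptsR ptsR_sp)

noncomputable section

namespace Groth.Agent.GrMax

variable {k : Type u} [Field k]

/-- The structure morphism of the ground field. -/
abbrev fkk (k : Type u) [Field k] : Spec (CommRingCat.of k) ⟶ Spec (CommRingCat.of k) :=
  Spec.map (CommRingCat.ofHom (algebraMap k k))

theorem sp_comp : Spec.map (CommRingCat.ofHom (algebraMap k (DualNumber k))) ≫ fkk k =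
    Spec.map (CommRingCat.ofHom (algebraMap k (DualNumber k))) := by
  rw [fkk, Algebra.algebraMap_self, CommRingCat.ofHom_id]
  erw [Spec.map_id]
  exact Category.comp_id _

theorem toDpt_w : 𝟙 (Spec (CommRingCat.of (DualNumber k))) ≫ (dpt k (fkk k)).hom =
    (SpA (CommAlgCat.of k (DualNumber k))).hom :=
  (Category.id_comp _).trans sp_comp

theorem ofDpt_w : 𝟙 (Spec (CommRingCat.of (DualNumber k))) ≫ (SpA (CommAlgCat.of k (DualNumber k))).hom =
    (dpt k (fkk k)).hom :=
  (Category.id_comp _).trans sp_comp.symm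

/-- The dual point as an affine point. -/
def toDpt : SpA (CommAlgCat.of k (DualNumber k)) ⟶ dpt k (fkk k) :=
  Over.homMk (𝟙 (Spec (CommRingCat.of (DualNumber k)))) toDpt_w

/-- An affine point as a dual point. -/
def ofDpt : dpt k (fkk k) ⟶ SpA (CommAlgCat.of k (DualNumber k)) :=
  Over.homMk (𝟙 (Spec (CommRingCat.of (DualNumber k)))) ofDpt_w

theorem toDpt_ofDpt : toDpt (k := k) ≫ ofDpt = 𝟙 _ :=
  Over.OverMorphism.ext (Category.id_comp (𝟙 (Spec (CommRingCat.of (DualNumber k)))))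

theorem ofDpt_toDpt : ofDpt (k := k) ≫ toDpt = 𝟙 _ :=
  Over.OverMorphism.ext (Category.id_comp (𝟙 (Spec (CommRingCat.of (DualNumber k)))))

theorem toPt_w : 𝟙 (Spec (CommRingCat.of k)) ≫ (pt k (fkk k)).hom = (SpA (CommAlgCat.of k k)).hom :=
  Category.id_comp (fkk k)

theorem ofPt_w : 𝟙 (Spec (CommRingCat.of k)) ≫ (SpA (CommAlgCat.of k k)).hom = (pt k (fkk k)).hom :=
  Category.id_comp (fkk k)

/-- The ground point as an affine point. -/
def toPt : SpA (CommAlgCat.of k k) ⟶ pt k (fkk k) := Over.homMk (𝟙 (Spec (CommRingCat.of k))) toPt_w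

/-- An affine point as the ground point. -/
def ofPt : pt k (fkk k) ⟶ SpA (CommAlgCat.of k k) := Over.homMk (𝟙 (Spec (CommRingCat.of k))) ofPt_w

/-- The projection of the dual numbers. -/
abbrev fstA (k : Type u) [Field k] : DualNumber k →ₐ[k] k := TrivSqZeroExt.fstHom k k k

theorem sp_fstA_toDpt :
    sp (A := CommAlgCat.of k (DualNumber k)) (B := CommAlgCat.of k k) (fstA k) ≫ toDpt = toPt ≫ zeroSec k (fkk k) :=
  Over.OverMorphism.ext ((Category.comp_id (Spec.map (CommRingCat.ofHom (fstA k).toRingHom))).trans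
    (Category.id_comp (Spec.map (CommRingCat.ofHom (fstA k).toRingHom))).symm)

theorem zeroSec_ofDpt :
    zeroSec k (fkk k) ≫ ofDpt = ofPt ≫ sp (A := CommAlgCat.of k (DualNumber k)) (B := CommAlgCat.of k k) (fstA k) :=
  Over.OverMorphism.ext ((Category.comp_id (Spec.map (CommRingCat.ofHom (fstA k).toRingHom))).trans
    (Category.id_comp (Spec.map (CommRingCat.ofHom (fstA k).toRingHom))).symm)

theorem sp_scale_toDpt (b : k) (φ : DualNumber k →ₐ[k] DualNumber k) (hφ : φ.toRingHom = scaleHom b) :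
    toDpt ≫ scale k (fkk k) b = sp (A := CommAlgCat.of k (DualNumber k)) (B := CommAlgCat.of k (DualNumber k)) φ ≫ toDpt :=
  Over.OverMorphism.ext ((Category.id_comp (Spec.map (CommRingCat.ofHom (scaleHom b)))).trans
    (((Category.comp_id (Spec.map (CommRingCat.ofHom φ.toRingHom))).trans
      (congrArg (fun r => Spec.map (CommRingCat.ofHom r)) hφ)).symm))

/-- A morphism of spectra as a morphism over the ground field. -/
def toAny {R : Type u} [CommRing R] [Algebra k R] {Y : Over (Spec (CommRingCat.of k))}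
    (f : Spec (CommRingCat.of R) ⟶ Y.left) (h : f ≫ Y.hom = Spec.map (CommRingCat.ofHom (algebraMap k R))) :
    SpA (CommAlgCat.of k R) ⟶ Y :=
  Over.homMk f h

theorem toAny_comp {R R' : Type u} [CommRing R] [Algebra k R] [CommRing R'] [Algebra k R']
    {Y Y' : Over (Spec (CommRingCat.of k))}
    (f : Spec (CommRingCat.of R) ⟶ Y.left) (h : f ≫ Y.hom = Spec.map (CommRingCat.ofHom (algebraMap k R)))
    (f' : Spec (CommRingCat.of R') ⟶ Y'.left) (h' : f' ≫ Y'.hom = Spec.map (CommRingCat.ofHom (algebraMap k R')))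
    (g : Y ⟶ Y') (φ : R' →ₐ[k] R) (hg : f ≫ g.left = Spec.map (CommRingCat.ofHom φ.toRingHom) ≫ f') :
    toAny f h ≫ g = sp (A := CommAlgCat.of k R') (B := CommAlgCat.of k R) φ ≫ toAny f' h' :=
  Over.OverMorphism.ext hg

/-- The iterated dual numbers. -/
def W2 (k : Type u) [Field k] : Type u := DualNumber (DualNumber k)

instance : CommRing (W2 k) := inferInstanceAs (CommRing (DualNumber (DualNumber k)))

/-- The structure map of the iterated dual numbers. -/
def w2Alg (k : Type u) [Field k] : k →+* W2 k :=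
  (algebraMap (DualNumber k) (DualNumber (DualNumber k))).comp (algebraMap k (DualNumber k))

instance : Algebra k (W2 k) := (w2Alg k).toAlgebra

/-- The coefficient of no coordinate. -/
def c00 (z : W2 k) : k := TrivSqZeroExt.fst (TrivSqZeroExt.fst z)
/-- The coefficient of the inner coordinate. -/
def c10 (z : W2 k) : k := TrivSqZeroExt.snd (TrivSqZeroExt.fst z)
/-- The coefficient of the outer coordinate. -/
def c01 (z : W2 k) : k := TrivSqZeroExt.fst (TrivSqZeroExt.snd z)
/-- The coefficient of both coordinates. -/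
def c11 (z : W2 k) : k := TrivSqZeroExt.snd (TrivSqZeroExt.snd z)

theorem c00_mul (p r : W2 k) : c00 (p * r) = c00 p * c00 r := rfl

theorem c11_mul (p r : W2 k) : c11 (p * r) = c00 p * c11 r + c10 p * c01 r + (c01 p * c10 r + c11 p * c00 r) := by
  let p' : DualNumber (DualNumber k) := p
  let r' : DualNumber (DualNumber k) := r
  show TrivSqZeroExt.snd (TrivSqZeroExt.snd (p' * r')) = _
  rw [DualNumber.snd_mul, TrivSqZeroExt.snd_add, DualNumber.snd_mul, DualNumber.snd_mul]
  rfl

theorem c10_mul (p r : W2 k) : c10 (p * r) = c00 p * c10 r + c10 p * c00 r := by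
  let p' : DualNumber (DualNumber k) := p
  let r' : DualNumber (DualNumber k) := r
  show TrivSqZeroExt.snd (TrivSqZeroExt.fst (p' * r')) = _
  rw [TrivSqZeroExt.fst_mul, DualNumber.snd_mul]
  rfl

theorem c01_mul (p r : W2 k) : c01 (p * r) = c00 p * c01 r + c01 p * c00 r := by
  let p' : DualNumber (DualNumber k) := p
  let r' : DualNumber (DualNumber k) := r
  show TrivSqZeroExt.fst (TrivSqZeroExt.snd (p' * r')) = _
  rw [DualNumber.snd_mul, TrivSqZeroExt.fst_add, TrivSqZeroExt.fst_mul, TrivSqZeroExt.fst_mul]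
  rfl

theorem c11_zero : c11 (0 : W2 k) = 0 := rfl
theorem c00_zero : c00 (0 : W2 k) = 0 := rfl
theorem c10_zero : c10 (0 : W2 k) = 0 := rfl
theorem c01_zero : c01 (0 : W2 k) = 0 := rfl
theorem c11_add (p r : W2 k) : c11 (p + r) = c11 p + c11 r := rfl
theorem c00_add (p r : W2 k) : c00 (p + r) = c00 p + c00 r := rfl
theorem c10_add (p r : W2 k) : c10 (p + r) = c10 p + c10 r := rfl
theorem c01_add (p r : W2 k) : c01 (p + r) = c01 p + c01 r := rfl

theorem c_sum (c : W2 k → k) (h0 : c 0 = 0) (ha : ∀ p r, c (p + r) = c p + c r) {J : Type} (t : Finset J)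
    (f : J → W2 k) : c (∑ i ∈ t, f i) = ∑ i ∈ t, c (f i) :=
  map_sum ({ toFun := c, map_zero' := h0, map_add' := ha } : W2 k →+ k) f t

/-- The first coordinate. -/
def φA (k : Type u) [Field k] : DualNumber k →ₐ[k] W2 k where
  toRingHom := bcHom (algebraMap k (DualNumber k))
  commutes' c := RingHom.congr_fun (bcHom_comp_algebraMap (algebraMap k (DualNumber k))) c

/-- The second coordinate. -/
def φB (k : Type u) [Field k] : DualNumber k →ₐ[k] W2 k where
  toRingHom := algebraMap (DualNumber k) (DualNumber (DualNumber k))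
  commutes' _ := rfl

/-- The product of the coordinates. -/
def φC (k : Type u) [Field k] : DualNumber k →ₐ[k] W2 k where
  toRingHom := mulHom k
  commutes' c := RingHom.congr_fun (mulHom_comp_algebraMap k) c

theorem coef_φA (z : DualNumber k) :
    c00 (φA k z) = z.fst ∧ c10 (φA k z) = 0 ∧ c01 (φA k z) = z.snd ∧ c11 (φA k z) = 0 := by
  show TrivSqZeroExt.fst (TrivSqZeroExt.fst (bcHom (algebraMap k (DualNumber k)) z)) = _ ∧
    TrivSqZeroExt.snd (TrivSqZeroExt.fst (bcHom (algebraMap k (DualNumber k)) z)) = _ ∧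
    TrivSqZeroExt.fst (TrivSqZeroExt.snd (bcHom (algebraMap k (DualNumber k)) z)) = _ ∧
    TrivSqZeroExt.snd (TrivSqZeroExt.snd (bcHom (algebraMap k (DualNumber k)) z)) = _
  simp [bcHom, TrivSqZeroExt.algebraMap_eq_inl']

theorem coef_φB (z : DualNumber k) :
    c00 (φB k z) = z.fst ∧ c10 (φB k z) = z.snd ∧ c01 (φB k z) = 0 ∧ c11 (φB k z) = 0 :=
  ⟨rfl, rfl, rfl, rfl⟩

theorem coef_φC (z : DualNumber k) :
    c00 (φC k z) = z.fst ∧ c10 (φC k z) = 0 ∧ c01 (φC k z) = 0 ∧ c11 (φC k z) = z.snd := by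
  show TrivSqZeroExt.fst (TrivSqZeroExt.fst (mulHom k z)) = _ ∧
    TrivSqZeroExt.snd (TrivSqZeroExt.fst (mulHom k z)) = _ ∧
    TrivSqZeroExt.fst (TrivSqZeroExt.snd (mulHom k z)) = _ ∧
    TrivSqZeroExt.snd (TrivSqZeroExt.snd (mulHom k z)) = _
  simp [mulHom, LieS.toD2, TrivSqZeroExt.algebraMap_eq_inl']

variable (k) in
theorem d2_w : 𝟙 (Spec (CommRingCat.of (W2 k))) ≫ (d2pt k (fkk k)).hom =
    Spec.map (CommRingCat.ofHom (algebraMap k (W2 k))) := by
  refine (Category.id_comp (d2pt k (fkk k)).hom).trans ?_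
  show Spec.map (CommRingCat.ofHom (algebraMap (DualNumber k) (DualNumber (DualNumber k)))) ≫
    Spec.map (CommRingCat.ofHom (algebraMap k (DualNumber k))) ≫ fkk k = Spec.map (CommRingCat.ofHom (w2Alg k))
  rw [sp_comp, ← Spec.map_comp, ← CommRingCat.ofHom_comp]
  rfl

/-- The affine point of iterated dual numbers. -/
def toD2 (k : Type u) [Field k] : SpA (CommAlgCat.of k (W2 k)) ⟶ d2pt k (fkk k) :=
  toAny (R := W2 k) (𝟙 (Spec (CommRingCat.of (W2 k)))) (d2_w k)

theorem toD2_spec (g : d2pt k (fkk k) ⟶ dpt k (fkk k)) (φ : DualNumber k →ₐ[k] W2 k)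
    (hg : 𝟙 (Spec (CommRingCat.of (W2 k))) ≫ g.left = Spec.map (CommRingCat.ofHom φ.toRingHom) ≫ 𝟙 (Spec (CommRingCat.of (DualNumber k)))) :
    toD2 k ≫ g = sp (A := CommAlgCat.of k (DualNumber k)) (B := CommAlgCat.of k (W2 k)) φ ≫ toDpt :=
  Over.OverMorphism.ext hg

variable {G : Over (Spec (CommRingCat.of k))} [GrpObj G] {A : Type u} [CommRing A] [HopfAlgebra k A]
  (e : (Spec (CommRingCat.of A)).asOver (Spec (CommRingCat.of k)) ≅ G) [IsMonHom e.hom]

/-- The point of the coordinate ring of a dual point. -/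
def dPt (g : dpt k (fkk k) ⟶ G) : Pt k A (DualNumber k) :=
  ptsR e (CommAlgCat.of k (DualNumber k)) (toDpt ≫ g)

theorem dPt_mul (g h : dpt k (fkk k) ⟶ G) : dPt e (g * h) = dPt e g * dPt e h := by
  rw [dPt, MonObj.comp_mul, map_mul]; rfl

theorem dPt_injective : Function.Injective (dPt e) := fun g h hgh => by
  have := congrArg (ofDpt ≫ ·) ((ptsR e _).injective hgh)
  simpa only [← Category.assoc, ofDpt_toDpt, Category.id_comp] using this

/-- The linear form of a tangent vector. -/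
def lieVec (v : Lie G k (fkk k)) : A →ₗ[k] k :=
  (TrivSqZeroExt.sndHom k k) ∘ₗ (dPt e v.1).ofConv.toLinearMap

theorem dPt_fst (v : Lie G k (fkk k)) (a : A) :
    TrivSqZeroExt.fst ((dPt e v.1).ofConv a) = Bialgebra.counitAlgHom k A a := by
  have h : sp (A := CommAlgCat.of k (DualNumber k)) (B := CommAlgCat.of k k) (fstA k) ≫ toDpt ≫ v.1 = 1 := by
    rw [← Category.assoc, sp_fstA_toDpt, Category.assoc, (mem_Lie_iff G k (fkk k) v.1).1 v.2, MonObj.comp_one]
  have h2 := congrArg (ptsR e (CommAlgCat.of k k)) h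
  rw [ptsR_sp, map_one] at h2
  exact congrArg (fun z : Pt k A k => z.ofConv a) h2

theorem isTan_lieVec (v : Lie G k (fkk k)) : IsTan (lieVec e v) := fun a b => by
  show TrivSqZeroExt.snd ((dPt e v.1).ofConv (a * b)) = _
  rw [map_mul, TrivSqZeroExt.snd_mul, dPt_fst, dPt_fst]
  simp [lieVec]

theorem dPt_eq (v : Lie G k (fkk k)) : dPt e v.1 = tanPt (isTan_lieVec e v) :=
  WithConv.ext (AlgHom.ext fun a => TrivSqZeroExt.ext
    (by simp [tanPt, dPt_fst]) (by simp [tanPt, lieVec]))

theorem exists_lieVec {d : A →ₗ[k] k} (hd : IsTan d) : ∃ v : Lie G k (fkk k), lieVec e v = d := by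
  let g : dpt k (fkk k) ⟶ G := ofDpt ≫ (ptsR e (CommAlgCat.of k (DualNumber k))).symm (tanPt hd)
  have hg : dPt e g = tanPt hd := by
    rw [dPt, ← Category.assoc, toDpt_ofDpt, Category.id_comp, MulEquiv.apply_symm_apply]
  have hmem : g ∈ Lie G k (fkk k) := by
    rw [mem_Lie_iff]
    have h1 : sp (A := CommAlgCat.of k (DualNumber k)) (B := CommAlgCat.of k k) (fstA k) ≫
        (ptsR e (CommAlgCat.of k (DualNumber k))).symm (tanPt hd) = 1 := by
      apply (ptsR e (CommAlgCat.of k k)).injective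
      rw [ptsR_sp, MulEquiv.apply_symm_apply, map_one]
      refine WithConv.ext (AlgHom.ext fun a => ?_)
      rw [AlgHom.convOne_apply]
      show TrivSqZeroExt.fst (TrivSqZeroExt.inl (Bialgebra.counitAlgHom k A a) + TrivSqZeroExt.inr (d a)) = _
      simp
    show zeroSec k (fkk k) ≫ ofDpt ≫ _ = 1
    rw [← Category.assoc, zeroSec_ofDpt, Category.assoc, h1, MonObj.comp_one]
  refine ⟨⟨g, hmem⟩, LinearMap.ext fun a => ?_⟩
  show TrivSqZeroExt.snd ((dPt e g).ofConv a) = d a
  rw [hg]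
  simp [tanPt]

variable {n : ℕ} (C : MatGen k A n)

/-- The matrix of a tangent vector. -/
def lieMat (v : Lie G k (fkk k)) : Matrix (Fin n) (Fin n) k := C.c.map (lieVec e v)

theorem mat_dPt_fst (v : Lie G k (fkk k)) (i j : Fin n) :
    TrivSqZeroExt.fst (C.mat (dPt e v.1) i j) = (1 : Matrix (Fin n) (Fin n) k) i j := by
  show TrivSqZeroExt.fst ((dPt e v.1).ofConv (C.c i j)) = _
  rw [dPt_fst, Bialgebra.counitAlgHom_apply, C.counit_c]

theorem mat_dPt_snd (v : Lie G k (fkk k)) (i j : Fin n) :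
    TrivSqZeroExt.snd (C.mat (dPt e v.1) i j) = lieMat e C v i j := rfl

theorem lieMat_injective : Function.Injective (lieMat e C) := fun v w h =>
  Subtype.ext (dPt_injective e (C.mat_injective (Matrix.ext fun i j => TrivSqZeroExt.ext
    (by rw [mat_dPt_fst, mat_dPt_fst]) (by rw [mat_dPt_snd, mat_dPt_snd, h]))))

theorem lieMat_mul (v w : Lie G k (fkk k)) : lieMat e C (v * w) = lieMat e C v + lieMat e C w := by
  have h : C.mat (dPt e (v * w).1) = C.mat (dPt e v.1) * C.mat (dPt e w.1) := by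
    rw [← C.mat_mul, ← dPt_mul]; rfl
  ext i j
  rw [← mat_dPt_snd, h, Matrix.mul_apply, TrivSqZeroExt.snd_sum]
  simp only [DualNumber.snd_mul, mat_dPt_fst, mat_dPt_snd, Finset.sum_add_distrib]
  rw [Matrix.add_apply, ← Matrix.mul_apply, ← Matrix.mul_apply, Matrix.one_mul, Matrix.mul_one, add_comm]

theorem lieMat_smul (b : k) (v : Lie G k (fkk k)) : lieMat e C (b • v) = b • lieMat e C v := by
  let φ : DualNumber k →ₐ[k] DualNumber k :=
    { scaleHom b with
      commutes' := fun r => RingHom.congr_fun (scaleHom_comp_algebraMap b) r }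
  have e0 := sp_scale_toDpt b φ rfl
  have h : dPt e (b • v).1 = push φ (dPt e v.1) := by
    rw [dPt, LieS.smul_val, ← Category.assoc, e0, Category.assoc, ptsR_sp]; rfl
  ext i j
  show TrivSqZeroExt.snd ((dPt e (b • v).1).ofConv (C.c i j)) = b * TrivSqZeroExt.snd ((dPt e v.1).ofConv (C.c i j))
  rw [h]
  show TrivSqZeroExt.snd (scaleHom b ((dPt e v.1).ofConv (C.c i j))) = _
  simp [scaleHom, TrivSqZeroExt.algebraMap_eq_inl']
  ring

theorem ptsR_toD2 (g : d2pt k (fkk k) ⟶ dpt k (fkk k)) (φ : DualNumber k →ₐ[k] W2 k)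
    (hg : 𝟙 (Spec (CommRingCat.of (W2 k))) ≫ g.left = Spec.map (CommRingCat.ofHom φ.toRingHom) ≫ 𝟙 (Spec (CommRingCat.of (DualNumber k))))
    (v : dpt k (fkk k) ⟶ G) :
    ptsR e (CommAlgCat.of k (W2 k)) (toD2 k ≫ g ≫ v) = push φ (dPt e v) := by
  rw [← Category.assoc, toD2_spec g φ hg, Category.assoc, ptsR_sp]
  rfl

theorem hdptMap : 𝟙 (Spec (CommRingCat.of (W2 k))) ≫ (dptMap (fkk k) (algebraMap k (DualNumber k))).left =
    Spec.map (CommRingCat.ofHom (φA k).toRingHom) ≫ 𝟙 (Spec (CommRingCat.of (DualNumber k))) :=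
  (Category.id_comp (Spec.map (CommRingCat.ofHom (φA k).toRingHom))).trans
    (Category.comp_id (Spec.map (CommRingCat.ofHom (φA k).toRingHom))).symm

theorem hproj : 𝟙 (Spec (CommRingCat.of (W2 k))) ≫ (proj (DualNumber k) (dpt k (fkk k)).hom).left =
    Spec.map (CommRingCat.ofHom (φB k).toRingHom) ≫ 𝟙 (Spec (CommRingCat.of (DualNumber k))) :=
  (Category.id_comp (Spec.map (CommRingCat.ofHom (φB k).toRingHom))).trans
    (Category.comp_id (Spec.map (CommRingCat.ofHom (φB k).toRingHom))).symm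

theorem hmulMap : 𝟙 (Spec (CommRingCat.of (W2 k))) ≫ (mulMap k (fkk k)).left =
    Spec.map (CommRingCat.ofHom (φC k).toRingHom) ≫ 𝟙 (Spec (CommRingCat.of (DualNumber k))) :=
  (Category.id_comp (Spec.map (CommRingCat.ofHom (φC k).toRingHom))).trans
    (Category.comp_id (Spec.map (CommRingCat.ofHom (φC k).toRingHom))).symm

theorem bracket_pt {x y z : Lie G k (fkk k)} (h : IsBracket G k (fkk k) x y z) :
    push (φC k) (dPt e z.1) * (push (φB k) (dPt e y.1) * push (φA k) (dPt e x.1)) =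
      push (φA k) (dPt e x.1) * push (φB k) (dPt e y.1) := by
  have h' := congrArg (fun g => ptsR e (CommAlgCat.of k (W2 k)) (toD2 k ≫ g)) h
  simp only [MonObj.comp_mul, GrpObj.comp_inv, map_mul, map_inv] at h'
  rw [ptsR_toD2 e _ (φC k) hmulMap, ptsR_toD2 e _ (φA k) hdptMap, ptsR_toD2 e _ (φB k) hproj] at h'
  rw [h']
  group

/-- The matrix of a bracket. -/
theorem lieMat_bracket {x y z : Lie G k (fkk k)} (h : IsBracket G k (fkk k) x y z) :
    lieMat e C z = lieMat e C x * lieMat e C y - lieMat e C y * lieMat e C x := by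
  have h3 := congrArg C.mat (bracket_pt e h)
  rw [C.mat_mul, C.mat_mul, C.mat_mul, C.mat_push, C.mat_push, C.mat_push] at h3
  have f1 : ∀ (v : Lie G k (fkk k)) (i j : Fin n),
      c00 (φA k (C.mat (dPt e v.1) i j)) = (1 : Matrix (Fin n) (Fin n) k) i j ∧ c10 (φA k (C.mat (dPt e v.1) i j)) = 0 ∧
      c01 (φA k (C.mat (dPt e v.1) i j)) = lieMat e C v i j ∧ c11 (φA k (C.mat (dPt e v.1) i j)) = 0 := fun v i j => by
    rw [← mat_dPt_fst e C v i j, ← mat_dPt_snd e C v i j]
    exact coef_φA _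
  have f2 : ∀ (v : Lie G k (fkk k)) (i j : Fin n),
      c00 (φB k (C.mat (dPt e v.1) i j)) = (1 : Matrix (Fin n) (Fin n) k) i j ∧ c10 (φB k (C.mat (dPt e v.1) i j)) = lieMat e C v i j ∧
      c01 (φB k (C.mat (dPt e v.1) i j)) = 0 ∧ c11 (φB k (C.mat (dPt e v.1) i j)) = 0 := fun v i j => by
    rw [← mat_dPt_fst e C v i j, ← mat_dPt_snd e C v i j]
    exact coef_φB _
  have f3 : ∀ (v : Lie G k (fkk k)) (i j : Fin n),
      c00 (φC k (C.mat (dPt e v.1) i j)) = (1 : Matrix (Fin n) (Fin n) k) i j ∧ c10 (φC k (C.mat (dPt e v.1) i j)) = 0 ∧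
      c01 (φC k (C.mat (dPt e v.1) i j)) = 0 ∧ c11 (φC k (C.mat (dPt e v.1) i j)) = lieMat e C v i j := fun v i j => by
    rw [← mat_dPt_fst e C v i j, ← mat_dPt_snd e C v i j]
    exact coef_φC _
  ext a b
  have h4 := congrArg c11 (congrFun (congrFun h3 a) b)
  simp only [Matrix.mul_apply, Matrix.map_apply, c_sum c11 c11_zero c11_add, c_sum c00 c00_zero c00_add,
    c_sum c10 c10_zero c10_add, c_sum c01 c01_zero c01_add, c00_mul, c10_mul, c01_mul, c11_mul,
    fun v i j => (f1 v i j).1, fun v i j => (f1 v i j).2.1, fun v i j => (f1 v i j).2.2.1, fun v i j => (f1 v i j).2.2.2,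
    fun v i j => (f2 v i j).1, fun v i j => (f2 v i j).2.1, fun v i j => (f2 v i j).2.2.1, fun v i j => (f2 v i j).2.2.2,
    fun v i j => (f3 v i j).1, fun v i j => (f3 v i j).2.1, fun v i j => (f3 v i j).2.2.1, fun v i j => (f3 v i j).2.2.2,
    mul_zero, zero_mul, add_zero, zero_add] at h4
  simp [Matrix.one_apply, Finset.sum_add_distrib] at h4
  simp only [Matrix.sub_apply, Matrix.mul_apply]
  linear_combination h4

end Groth.Agent.GrMax
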