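import Groth.Agent.GrMax.PointGrp

/-!
# The torsion of the subgroup of a semisimple part
-/

set_option autoImplicit false
set_option linter.unusedSectionVars false
set_option linter.style.haveILetI false
set_option backward.isDefEq.respectTransparency false
set_option maxHeartbeats 1000000
set_option synthInstance.maxHeartbeats 400000

universe u

open CategoryTheory CategoryTheory.Limits MonoidalCategory CartesianMonoidalCategory MonObj GrpObj AlgebraicGeometry
open TensorProduct WithConv Polynomial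
open scoped Groth.Agent.Takeuchi
open Groth.Agent.GrassClosed (SpA over_hom_ext)
open Groth.Agent.Takeuchi (Pt push)
open Groth.Agent.MTBridge (specGrp)
open Groth.Agent.Chev.PtsAction (sp)

noncomputable section

namespace Groth.Agent.GrMax

open Chev.Borel (ptsR ptsR_sp)

variable {k : Type u} [Field k] {A : Type u} [CommRing A] [HopfAlgebra k A] {n : ℕ}
  {L : Type u} [Field L] [IsAlgClosed L] [Algebra k L]

variable {G : Over (Spec (CommRingCat.of k))} [GrpObj G]
  (e : (Spec (CommRingCat.of A)).asOver (Spec (CommRingCat.of k)) ≅ G) [IsMonHom e.hom]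
  {Gb : Over (Spec (CommRingCat.of L))} [GrpObj Gb]
  (a : (specGrp L (L ⊗[k] A)).X ≅ Gb) [IsMonHom a.hom]

/-- **The subgroup of a semisimple part**, with the torsion of its points recorded. -/
theorem exists_pointSubgroup_torsion (C : MatGen k A n) {d : A →ₗ[k] k} (hd : IsTan d) (P : SSPoly L (C.c.map d)) :
    ∃ (H : Over (Spec (CommRingCat.of L))) (_ : GrpObj H) (u : H ⟶ Gb),
      IsMonHom u ∧ (∀ p : ℕ, p.Prime → CharP L p → ∀ (X : Over (Spec (CommRingCat.of L))) (h : X ⟶ H), h ^ p = 1) ∧ SGA3x.IsMultTypeFT H ∧ ConnectedSpace H.left ∧ IsAffine H.left ∧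
      ∀ (X : Over (Spec (CommRingCat.of L))) (g : X ⟶ Gb),
        (∀ (R : CommAlgCat.{u} L) (p : SpA R ⟶ X),
          (C.bc L).mat (ptsR a R (p ≫ g)) * ((aeval (C.c.map d) P.q).map (algebraMap k L)).map (algebraMap L R) =
            ((aeval (C.c.map d) P.q).map (algebraMap k L)).map (algebraMap L R) * (C.bc L).mat (ptsR a R (p ≫ g))) ↔
        ∀ (X' : Over (Spec (CommRingCat.of L))) (x : X' ⟶ X) (h : X' ⟶ H),
          (x ≫ g) * (h ≫ u) = (h ≫ u) * (x ≫ g) := by
  obtain ⟨M, _, hfg, hMp, hM0, ψ, hmul, hone, hcomm⟩ := exists_ssPoint C L hd P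
  obtain ⟨ψL, hψL⟩ := exists_bialg C ψ hmul hone
  haveI : Algebra.FiniteType L (MonoidAlgebra L M) := MonoidAlgebra.finiteType_iff_group_fg.2 hfg
  let H := specGrp L (MonoidAlgebra L M)
  let rT : H.X ⟶ (specGrp L (L ⊗[k] A)).X :=
    Spec.mapMulEquiv (toConv (ψL : L ⊗[k] A →ₐ[L] MonoidAlgebra L M))
  haveI : IsMonHom rT := ((hopfSpec (CommRingCat.of L)).map
    (CommHopfAlgCat.ofHom (X := L ⊗[k] A) (Y := MonoidAlgebra L M) ψL).op).hom.isMonHom_hom
  let u : H.X ⟶ Gb := rT ≫ a.hom
  set ε := (aeval (C.c.map d) P.q).map (algebraMap k L) with hεdef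
  -- the values of `u` on affine points
  have hu : ∀ (R : CommAlgCat.{u} L) (φ : MonoidAlgebra L M →ₐ[L] R),
      ptsR a R (sp (A := CommAlgCat.of L (MonoidAlgebra L M)) (B := R) φ ≫ u) =
        toConv (φ.comp (ψL : L ⊗[k] A →ₐ[L] MonoidAlgebra L M)) := fun R φ => by
    rw [ptsR_sp]
    rw [show ptsR a (CommAlgCat.of L (MonoidAlgebra L M)) u = toConv (ψL : L ⊗[k] A →ₐ[L] MonoidAlgebra L M) from
      (ptsR a (CommAlgCat.of L (MonoidAlgebra L M))).apply_symm_apply _]
  have hiff : ∀ (R : Type u) [CommRing R] [Algebra L R] (g : Pt L (L ⊗[k] A) R),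
      ((C.bc L).mat g * ε.map (algebraMap L R) = ε.map (algebraMap L R) * (C.bc L).mat g) ↔
      ∀ (S : Type u) [CommRing S] [Algebra L S] (φ : R →ₐ[L] S) (χ : MonoidAlgebra L M →ₐ[L] S),
        push φ g * toConv (χ.comp (ψL : L ⊗[k] A →ₐ[L] MonoidAlgebra L M)) =
          toConv (χ.comp (ψL : L ⊗[k] A →ₐ[L] MonoidAlgebra L M)) * push φ g := by
    intro R _ _ g
    letI : Algebra k R := Algebra.compHom R (algebraMap k L)
    haveI : IsScalarTower k L R := .of_algebraMap_eq fun _ => rfl
    rw [mat_bc, show ε.map (algebraMap L R) = (aeval (C.c.map d) P.q).map (algebraMap k R) from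
      Matrix.ext fun i j => (IsScalarTower.algebraMap_apply k L R _).symm, hcomm R (restrPt L g)]
    have key : ∀ (S : Type u) [CommRing S] [Algebra k S] [Algebra L S] [IsScalarTower k L S] (φ : R →ₐ[L] S)
        (χ : MonoidAlgebra L M →ₐ[L] S),
        (push φ g * toConv (χ.comp (ψL : L ⊗[k] A →ₐ[L] MonoidAlgebra L M)) =
          toConv (χ.comp (ψL : L ⊗[k] A →ₐ[L] MonoidAlgebra L M)) * push φ g) ↔
        push (φ.restrictScalars k) (restrPt L g) * toConv ((χ.restrictScalars k).comp ψ) =
          toConv ((χ.restrictScalars k).comp ψ) * push (φ.restrictScalars k) (restrPt L g) := by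
      intro S _ _ _ _ φ χ
      rw [(C.bc L).commute_iff, C.commute_iff, mat_bc, mat_bc,
        show restrPt L (toConv (χ.comp (ψL : L ⊗[k] A →ₐ[L] MonoidAlgebra L M))) =
          toConv ((χ.restrictScalars k).comp ψ) from WithConv.ext (AlgHom.ext fun b => congrArg χ (hψL b))]
      rfl
    constructor
    · intro h S _ _ φ χ
      letI : Algebra k S := Algebra.compHom S (algebraMap k L)
      haveI : IsScalarTower k L S := .of_algebraMap_eq fun _ => rfl
      refine (key S φ χ).2 ?_
      have := h S φ ((MonoidAlgebra.lift L S M).symm χ)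
      rwa [Equiv.apply_symm_apply] at this
    · intro h S _ _ _ _ φ χ
      exact (key S φ (MonoidAlgebra.lift L S M χ)).1 (h S φ (MonoidAlgebra.lift L S M χ))
  have halg : ∀ {R : CommAlgCat.{u} L} {B : CommAlgCat.{u} L} (w : SpA R ⟶ SpA B),
      ∃ φ : B →ₐ[L] R, sp (A := B) (B := R) φ = w := fun {R B} w =>
    ⟨{ toRingHom := (Spec.preimage w.left).hom
       commutes' := fun c => by
        have e0 : CommRingCat.ofHom (algebraMap L B) ≫ Spec.preimage w.left = CommRingCat.ofHom (algebraMap L R) := by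
          apply Spec.map_injective
          rw [Spec.map_comp, Spec.map_preimage]
          exact Over.w w
        exact congr($(e0) c) }, Over.OverMorphism.ext (Spec.map_preimage _)⟩
  refine ⟨H.X, inferInstance, u, inferInstance, fun q hq hcq X h => ?_,
    MTBridge.isMultTypeFT_specGrp (TorusLift.isMultType_monoidAlgebra L), connectedSpace_spec_groupAlgebra hfg hMp hM0,
    inferInstanceAs (IsAffine (Spec (CommRingCat.of (MonoidAlgebra L M)))), fun X g => ⟨fun hg X' x h => ?_, fun hg R p => ?_⟩⟩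
  · let eI : (Spec (CommRingCat.of (MonoidAlgebra L M))).asOver (Spec (CommRingCat.of L)) ≅ H.X := Iso.refl _
    haveI : IsMonHom eI.hom := inferInstanceAs (IsMonHom (𝟙 H.X))
    refine over_hom_ext _ _ fun R p => (ptsR eI R).injective ?_
    rw [MonObj.comp_pow, map_pow, MonObj.comp_one, map_one]
    obtain ⟨χ, hχ⟩ : ∃ χ : M →* R, toConv (MonoidAlgebra.lift L R M χ) = ptsR eI R (p ≫ h) :=
      ⟨(MonoidAlgebra.lift L R M).symm (ptsR eI R (p ≫ h)).ofConv, by
        rw [Equiv.apply_symm_apply]⟩
    have hpow : ∀ j : ℕ, (toConv (MonoidAlgebra.lift L R M χ) : Pt L (MonoidAlgebra L M) R) ^ j =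
        toConv (MonoidAlgebra.lift L R M (χ ^ j)) := by
      intro j
      induction j with
      | zero =>
        refine WithConv.ext (MonoidAlgebra.algHom_ext' (MonoidHom.ext fun m => ?_) (by ext))
        simp [pow_zero, AlgHom.convOne_apply, MonoidAlgebra.of_apply]
      | succ j ih =>
        rw [pow_succ, ih]
        refine WithConv.ext (MonoidAlgebra.algHom_ext' (MonoidHom.ext fun m => ?_) (by ext))
        show (toConv _ * toConv _ : Pt L _ R) (MonoidAlgebra.of L M m) = _
        rw [AlgHom.convMul_apply]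
        simp [MonoidAlgebra.of_apply, MonoidAlgebra.comul_single, pow_succ]
    have hq1 : χ ^ q = 1 := MonoidHom.ext fun m => by
      rw [MonoidHom.pow_apply, ← map_pow, hMp q hq hcq m, map_one, MonoidHom.one_apply]
    rw [← hχ, hpow, hq1]
    refine WithConv.ext (MonoidAlgebra.algHom_ext' (MonoidHom.ext fun m => ?_) (by ext))
    simp [AlgHom.convOne_apply, MonoidAlgebra.of_apply]
  · refine over_hom_ext _ _ fun R p => (ptsR a R).injective ?_
    obtain ⟨χ, hχ⟩ := halg (B := CommAlgCat.of L (MonoidAlgebra L M)) (p ≫ h)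
    rw [MonObj.comp_mul, MonObj.comp_mul, map_mul, map_mul, ← Category.assoc p h u, ← hχ, hu, ← Category.assoc p x g]
    have := (hiff R (ptsR a R ((p ≫ x) ≫ g))).1 (hg R (p ≫ x)) R (AlgHom.id L R) χ
    simpa [push] using this
  · refine (hiff R _).2 fun S _ _ φ χ => ?_
    have h := congrArg (ptsR a (CommAlgCat.of L S))
      (hg _ (sp (A := R) (B := CommAlgCat.of L S) φ ≫ p)
        (sp (A := CommAlgCat.of L (MonoidAlgebra L M)) (B := CommAlgCat.of L S) χ))
    rwa [map_mul, map_mul, hu, Category.assoc, ptsR_sp] at h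

end Groth.Agent.GrMax
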