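import Groth.Agent.GrMax.SemisimplePart
import Mathlib.RingTheory.MvPolynomial.Basic
import Mathlib.Algebra.MvPolynomial.Funext
import Mathlib.LinearAlgebra.Matrix.ToLinearEquiv

/-!
# Rational elements with a small generalised centralizer in a space of matrices
-/

set_option autoImplicit false
set_option linter.unusedSectionVars false
set_option maxHeartbeats 1000000

universe u

noncomputable section

namespace Groth.Agent.GrMax

variable {k : Type u} [Field k] {K : Type u} [Field K] [Algebra k K] {n : ℕ}

theorem adM_pow_map {R S : Type u} [CommRing R] [CommRing S] (φ : R →+* S) (D V : Matrix (Fin n) (Fin n) R) (N : ℕ) :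
    ((fun W : Matrix (Fin n) (Fin n) R => D * W - W * D)^[N] V).map φ =
      (fun W : Matrix (Fin n) (Fin n) S => D.map φ * W - W * D.map φ)^[N] (V.map φ) := by
  induction N with
  | zero => rfl
  | succ N ih =>
    rw [Function.iterate_succ_apply', Function.iterate_succ_apply', ← ih, ← Matrix.map_mul, ← Matrix.map_mul]
    exact Matrix.map_sub φ (fun a b => map_sub φ a b) _ _

theorem adM_pow_iterate {F : Type u} [Field F] (D V : Matrix (Fin n) (Fin n) F) (N : ℕ) :
    ((adM D) ^ N) V = (fun W : Matrix (Fin n) (Fin n) F => D * W - W * D)^[N] V := by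
  rw [Module.End.pow_apply]
  rfl

/-- **Descent of a bound on a generalised centralizer.** -/
theorem exists_rational_centralizer [Infinite k] {ι : Type} [Fintype ι] {m : ℕ} (D : ι → Matrix (Fin n) (Fin n) k)
    (v : Fin m → Matrix (Fin n) (Fin n) k) (N : ℕ) {σ : Type} [Fintype σ] [DecidableEq σ] (f : σ → Fin m) (x₀ : ι → K)
    (h : LinearIndependent K fun i =>
      ((adM (∑ j, x₀ j • (D j).map (algebraMap k K))) ^ N) ((v (f i)).map (algebraMap k K))) :
    ∃ c : ι → k, LinearIndependent k fun i => ((adM (∑ j, c j • D j)) ^ N) (v (f i)) := by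
  classical
  let P := Fin n × Fin n
  let g : σ → P → K := fun i pq => ((adM (∑ j, x₀ j • (D j).map (algebraMap k K))) ^ N) ((v (f i)).map (algebraMap k K)) pq.1 pq.2
  have hg : LinearIndependent K g := by
    let e : Matrix (Fin n) (Fin n) K →ₗ[K] (P → K) :=
      { toFun := fun M pq => M pq.1 pq.2, map_add' := fun _ _ => rfl, map_smul' := fun _ _ => rfl }
    exact h.map' e (LinearMap.ker_eq_bot.2 fun a b hab => Matrix.ext fun i j => congrFun hab (i, j))
  obtain ⟨q, hq⟩ := (Fintype.linearCombination K g).exists_leftInverse_of_injective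
    (LinearMap.ker_eq_bot.2 (linearIndependent_iff_injective_fintypeLinearCombination.1 hg))
  let y₀ : σ × P → K := fun a => q (Pi.single a.2 1) a.1
  let R := MvPolynomial (ι ⊕ (σ × P)) k
  let DX : Matrix (Fin n) (Fin n) R :=
    ∑ j, (MvPolynomial.X (Sum.inl j) : R) • (D j).map (MvPolynomial.C : k →+* R)
  let Φ : σ → Matrix (Fin n) (Fin n) R := fun i =>
    (fun W : Matrix (Fin n) (Fin n) R => DX * W - W * DX)^[N] ((v (f i)).map (MvPolynomial.C : k →+* R))
  let G : Matrix σ σ R := fun a i => ∑ pq : P, MvPolynomial.X (Sum.inr (a, pq)) * Φ i pq.1 pq.2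
  -- specialisation
  have key : ∀ {F : Type u} [Field F] [Algebra k F] (x : ι → F) (y : σ × P → F) (a i : σ),
      MvPolynomial.aeval (Sum.elim x y) (G a i) = ∑ pq : P, y (a, pq) *
        ((adM (∑ j, x j • (D j).map (algebraMap k F))) ^ N) ((v (f i)).map (algebraMap k F)) pq.1 pq.2 := by
    intro F _ _ x y a i
    let φ : R →+* F := (MvPolynomial.aeval (Sum.elim x y) : R →ₐ[k] F)
    have hφX : ∀ b, φ (MvPolynomial.X b) = Sum.elim x y b := fun b => MvPolynomial.aeval_X _ b
    have hφC : ∀ c, φ (MvPolynomial.C c) = algebraMap k F c := fun c => MvPolynomial.aeval_C _ c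
    have hΦ : (Φ i).map φ =
        ((adM (∑ j, x j • (D j).map (algebraMap k F))) ^ N) ((v (f i)).map (algebraMap k F)) := by
      rw [adM_pow_map φ, adM_pow_iterate]
      have e1 : DX.map φ = ∑ j, x j • (D j).map (algebraMap k F) :=
        Matrix.ext fun p r => by simp [DX, Matrix.sum_apply, map_sum, hφX, hφC]
      have e2 : ((v (f i)).map (MvPolynomial.C : k →+* R)).map φ = (v (f i)).map (algebraMap k F) :=
        Matrix.ext fun p r => by simp [hφC]
      rw [e1, e2]
    show φ (G a i) = _
    simp only [G, map_sum, map_mul]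
    refine Finset.sum_congr rfl fun pq _ => ?_
    rw [← hΦ, Matrix.map_apply, show φ (MvPolynomial.X (Sum.inr (a, pq))) = y (a, pq) from MvPolynomial.aeval_X _ _]
  have hdet : G.det ≠ 0 := by
    intro h0
    have h1 := congrArg (MvPolynomial.aeval (R := k) (Sum.elim x₀ y₀)) h0
    rw [map_zero, AlgHom.map_det] at h1
    have e : (MvPolynomial.aeval (R := k) (Sum.elim x₀ y₀)).mapMatrix G = 1 := by
      ext a i
      rw [AlgHom.mapMatrix_apply, Matrix.map_apply, key]
      have h2 := LinearMap.congr_fun hq (Pi.single i 1)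
      rw [LinearMap.comp_apply, Fintype.linearCombination_apply_single, one_smul, LinearMap.id_apply] at h2
      have h3 : g i = ∑ pq : P, g i pq • (Pi.single pq 1 : P → K) := by
        exact pi_eq_sum_univ' (g i)
      rw [h3, map_sum] at h2
      have h4 := congrFun h2 a
      simp only [Finset.sum_apply, map_smul, Pi.smul_apply, smul_eq_mul] at h4
      rw [Matrix.one_apply]
      refine Eq.trans ?_ (h4.trans (Pi.single_apply i 1 a))
      exact Finset.sum_congr rfl fun pq _ => mul_comm _ _
    rw [e, Matrix.det_one] at h1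
    exact one_ne_zero h1
  obtain ⟨z, hz⟩ : ∃ z, MvPolynomial.eval z G.det ≠ 0 := by
    by_contra! hcon
    exact hdet (MvPolynomial.funext fun z => by rw [hcon z, map_zero])
  refine ⟨fun j => z (Sum.inl j), Fintype.linearIndependent_iff.2 fun c hc i => ?_⟩
  let Gz : Matrix σ σ k := fun a i => MvPolynomial.eval z (G a i)
  have hGz : Gz.det ≠ 0 := by
    rw [show Gz = (MvPolynomial.eval z).mapMatrix G from rfl, ← RingHom.map_det]
    exact hz
  have hmul : Gz.mulVec c = 0 := by
    funext a
    have hk : ∀ i, Gz a i = ∑ pq : P, z (Sum.inr (a, pq)) *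
        ((adM (∑ j, z (Sum.inl j) • D j)) ^ N) (v (f i)) pq.1 pq.2 := by
      intro i
      have hzz : Sum.elim (fun j => z (Sum.inl j)) (fun p => z (Sum.inr p)) = z := by ext (_ | _) <;> rfl
      have := key (F := k) (fun j => z (Sum.inl j)) (fun p => z (Sum.inr p)) a i
      rw [hzz] at this
      show MvPolynomial.eval z (G a i) = _
      rw [← MvPolynomial.coe_aeval_eq_eval]
      simpa using this
    show ∑ i, Gz a i * c i = 0
    simp only [hk, Finset.sum_mul]
    rw [Finset.sum_comm]
    refine Finset.sum_eq_zero fun pq _ => ?_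
    have h5 := congrFun (congrFun hc pq.1) pq.2
    simp only [Matrix.sum_apply, Matrix.smul_apply, smul_eq_mul, Matrix.zero_apply] at h5
    calc ∑ i, z (Sum.inr (a, pq)) * _ * c i
        = z (Sum.inr (a, pq)) * ∑ i, c i * ((adM (∑ j, z (Sum.inl j) • D j)) ^ N) (v (f i)) pq.1 pq.2 := by
          rw [Finset.mul_sum]; exact Finset.sum_congr rfl fun i _ => by ring
      _ = 0 := by rw [h5, mul_zero]
  exact congrFun (Matrix.eq_zero_of_mulVec_eq_zero hGz hmul) i

/-- Independent images bound the kernel. -/
theorem finrank_inf_ker_le {F : Type u} [Field F] {V : Type u} [AddCommGroup V] [Module F V] [FiniteDimensional F V]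
    (W : Submodule F V) (Φ : V →ₗ[F] V) {σ : Type} [Fintype σ] (v : σ → V) (hv : ∀ i, v i ∈ W)
    (h : LinearIndependent F fun i => Φ (v i)) :
    Module.finrank F ↥(W ⊓ LinearMap.ker Φ) + Fintype.card σ ≤ Module.finrank F W := by
  have h1 := LinearMap.finrank_range_add_finrank_ker (Φ.domRestrict W)
  have h2 : Fintype.card σ ≤ Module.finrank F (LinearMap.range (Φ.domRestrict W)) := by
    rw [LinearMap.range_domRestrict, ← finrank_span_eq_card h]
    refine Submodule.finrank_mono (Submodule.span_le.2 ?_)
    rintro _ ⟨i, rfl⟩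
    exact ⟨v i, hv i, rfl⟩
  have h3 : Module.finrank F ↥(W ⊓ LinearMap.ker Φ) = Module.finrank F (LinearMap.ker (Φ.domRestrict W)) := by
    rw [← Submodule.finrank_map_subtype_eq W (LinearMap.ker (Φ.domRestrict W))]
    congr 2 <;> (ext x; simp [Submodule.mem_map, LinearMap.mem_ker, and_comm])
  omega

/-- A small intersection with a kernel gives independent images. -/
theorem exists_indep_images {F : Type u} [Field F] {V : Type u} [AddCommGroup V] [Module F V] [FiniteDimensional F V]
    (Φ : V →ₗ[F] V) {m : ℕ} (v : Fin m → V) (hv : LinearIndependent F v) :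
    ∃ (l : ℕ) (f : Fin l → Fin m), (LinearIndependent F fun i => Φ (v (f i))) ∧
      m ≤ l + Module.finrank F ↥(Submodule.span F (Set.range v) ⊓ LinearMap.ker Φ) := by
  obtain ⟨κ, a, hinj, hsp, hli⟩ := exists_linearIndependent' F (fun i => Φ (v i))
  haveI : Finite κ := Finite.of_injective a hinj
  haveI := Fintype.ofFinite κ
  let e := Fintype.equivFin κ
  refine ⟨Fintype.card κ, fun i => a (e.symm i), hli.comp _ e.symm.injective, ?_⟩
  let W := Submodule.span F (Set.range v)
  have h1 := LinearMap.finrank_range_add_finrank_ker (Φ.domRestrict W)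
  have h2 : Module.finrank F W = m := by rw [finrank_span_eq_card hv, Fintype.card_fin]
  have h3 : LinearMap.range (Φ.domRestrict W) = Submodule.span F (Set.range ((fun i => Φ (v i)) ∘ a)) := by
    rw [LinearMap.range_domRestrict, Submodule.map_span, hsp, ← Set.range_comp]
    rfl
  rw [h3, finrank_span_eq_card hli, h2] at h1
  have h4 : Module.finrank F ↥(W ⊓ LinearMap.ker Φ) = Module.finrank F (LinearMap.ker (Φ.domRestrict W)) := by
    rw [← Submodule.finrank_map_subtype_eq W (LinearMap.ker (Φ.domRestrict W))]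
    congr 2 <;> (ext x; simp [Submodule.mem_map, LinearMap.mem_ker, and_comm])
  show m ≤ Fintype.card κ + Module.finrank F ↥(W ⊓ LinearMap.ker Φ)
  omega

end Groth.Agent.GrMax
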