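import Groth.Agent.GrMax.TorusPair
import Groth.Agent.GrMax.BaseChange

/-!
# Tangent matrices over an extension of the ground field
-/

set_option autoImplicit false
set_option linter.unusedSectionVars false
set_option maxHeartbeats 1000000

universe u

open TensorProduct WithConv
open scoped Groth.Agent.Takeuchi
open Groth.Agent.Takeuchi (Pt push)

noncomputable section

namespace Groth.Agent.GrMax

variable {k : Type u} [Field k] {K : Type u} [Field K] [Algebra k K] {A : Type u} [CommRing A] [HopfAlgebra k A]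
  {n : ℕ} (C : MatGen k A n)

local notation "εA" => Bialgebra.counitAlgHom k A

/-- The projection of the dual numbers of the extension. -/
abbrev fstK (k K : Type u) [Field k] [Field K] [Algebra k K] : DualNumber K →ₐ[k] K :=
  (TrivSqZeroExt.fstHom K K K).restrictScalars k

/-- The tangent matrices over the ground field. -/
def tanSpace : Submodule k (Matrix (Fin n) (Fin n) k) where
  carrier := {V | ∃ d : A →ₗ[k] k, IsTan d ∧ C.c.map d = V}
  add_mem' := by
    rintro _ _ ⟨d, hd, rfl⟩ ⟨d', hd', rfl⟩
    exact ⟨d + d', fun a b => by simp only [LinearMap.add_apply, hd a b, hd' a b]; ring,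
      Matrix.ext fun i j => rfl⟩
  zero_mem' := ⟨0, fun a b => by simp, Matrix.ext fun i j => rfl⟩
  smul_mem' := by
    rintro c _ ⟨d, hd, rfl⟩
    exact ⟨c • d, fun a b => by simp only [LinearMap.smul_apply, hd a b, smul_eq_mul]; ring,
      Matrix.ext fun i j => rfl⟩

/-- The tangent matrices over the extension. -/
def tanSpaceK (K : Type u) [Field K] [Algebra k K] : Submodule K (Matrix (Fin n) (Fin n) K) where
  carrier := {V | ∃ d : A →ₗ[k] K, IsTanAt εA d ∧ C.c.map d = V}
  add_mem' := by
    rintro _ _ ⟨d, hd, rfl⟩ ⟨d', hd', rfl⟩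
    exact ⟨d + d', fun a b => by simp only [LinearMap.add_apply, hd a b, hd' a b, smul_add]; abel,
      Matrix.ext fun i j => rfl⟩
  zero_mem' := ⟨0, fun a b => by simp, Matrix.ext fun i j => rfl⟩
  smul_mem' := by
    rintro c _ ⟨d, hd, rfl⟩
    exact ⟨c • d, fun a b => by simp only [LinearMap.smul_apply, hd a b, smul_add, smul_comm c],
      Matrix.ext fun i j => rfl⟩

/-- **Tangent vectors over an extension are combinations of rational ones.** -/
theorem exists_rational_decomp {B : Type u} [CommRing B] [Algebra k B] (ε : B →ₐ[k] k) {d : B →ₗ[k] K}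
    (hd : IsTanAt ε d) (c : Matrix (Fin n) (Fin n) B) :
    ∃ (l : ℕ) (x : Fin l → K) (δ : Fin l → B →ₗ[k] k), (∀ j, IsTanAt ε (δ j)) ∧
      c.map d = ∑ j, x j • (c.map (δ j)).map (algebraMap k K) := by
  classical
  let b := Module.Basis.ofVectorSpace k K
  let s : Finset _ := Finset.univ.biUnion fun p : Fin n × Fin n => (b.repr (d (c p.1 p.2))).support
  refine ⟨s.card, fun j => b (s.equivFin.symm j).1, fun j => (b.coord (s.equivFin.symm j).1).comp d,
    fun j x y => by simp [hd x y], Matrix.ext fun p q => ?_⟩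
  simp only [Matrix.sum_apply, Matrix.smul_apply, Matrix.map_apply, smul_eq_mul, LinearMap.comp_apply]
  rw [Fintype.sum_equiv s.equivFin.symm (fun j => b (s.equivFin.symm j).1 * algebraMap k K (b.coord (s.equivFin.symm j).1 (d (c p q))))
      (fun i : s => b i.1 * algebraMap k K (b.coord i.1 (d (c p q)))) (fun j => rfl),
    Finset.sum_coe_sort s (fun i => b i * algebraMap k K (b.coord i (d (c p q))))]
  conv_lhs => rw [← b.linearCombination_repr (d (c p q)), Finsupp.linearCombination_apply, Finsupp.sum]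
  rw [Finset.sum_subset (s₂ := s) (fun i hi => Finset.mem_biUnion.2 ⟨(p, q), Finset.mem_univ _, hi⟩)
    (fun i _ hi => by simp [Finsupp.notMem_support_iff.1 hi])]
  exact Finset.sum_congr rfl fun i _ => by simp [Algebra.smul_def, mul_comm]

theorem mem_tanSpaceK_iff {m : ℕ} (v : Fin m → Matrix (Fin n) (Fin n) k) (hv : Submodule.span k (Set.range v) = tanSpace C) :
    tanSpaceK C K = Submodule.span K (Set.range fun i => (v i).map (algebraMap k K)) := by
  refine le_antisymm ?_ (Submodule.span_le.2 ?_)
  · rintro _ ⟨d, hd, rfl⟩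
    obtain ⟨l, x, δ, hδ, he⟩ := exists_rational_decomp εA hd C.c
    rw [he]
    refine Submodule.sum_mem _ fun j _ => Submodule.smul_mem _ _ ?_
    have hmem : C.c.map (δ j) ∈ Submodule.span k (Set.range v) := hv ▸ ⟨δ j, fun a b => by
      rw [hδ j a b]; simp [mul_comm], rfl⟩
    generalize C.c.map (δ j) = z at hmem ⊢
    induction hmem using Submodule.span_induction with
    | mem z hz => obtain ⟨i, rfl⟩ := hz; exact Submodule.subset_span ⟨i, rfl⟩
    | zero => rw [Matrix.map_zero _ (map_zero _)]; exact zero_mem _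
    | add a b _ _ ha hb => rw [Matrix.map_add _ (map_add _)]; exact add_mem ha hb
    | smul r a _ ha =>
      rw [show (r • a).map (algebraMap k K) = algebraMap k K r • a.map (algebraMap k K) from
        Matrix.ext fun i j => by simp]
      exact Submodule.smul_mem _ _ ha
  · rintro _ ⟨i, rfl⟩
    obtain ⟨d, hd, he⟩ : v i ∈ tanSpace C := hv ▸ Submodule.subset_span ⟨i, rfl⟩
    exact ⟨(Algebra.linearMap k K).comp d, fun a b => by simp [hd a b, Algebra.smul_def, mul_comm],
      by show _ = (v i).map (algebraMap k K); rw [← he]; exact Matrix.ext fun _ _ => rfl⟩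

/-- A tangent vector as a point with values in dual numbers. -/
def tanPtK {d : A →ₗ[k] K} (hd : IsTanAt εA d) : Pt k A (DualNumber K) :=
  toConv
    { toFun := fun a => TrivSqZeroExt.inl (algebraMap k K (εA a)) + TrivSqZeroExt.inr (d a)
      map_one' := by
        have h : d 1 = 0 := by simpa using hd 1 1
        rw [h, _root_.map_one, _root_.map_one]; simp
      map_mul' := fun a b => by
        refine TrivSqZeroExt.ext ?_ ?_
        · simp
        · rw [hd, map_mul]; simp [Algebra.smul_def, mul_comm, TrivSqZeroExt.algebraMap_eq_inl']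
      map_zero' := by simp
      map_add' := fun a b => by
        refine TrivSqZeroExt.ext ?_ ?_ <;> simp
      commutes' := fun r => by
        have h : d 1 = 0 := by simpa using hd 1 1
        rw [show d (algebraMap k A r) = 0 by rw [Algebra.algebraMap_eq_smul_one, map_smul, h, smul_zero],
          AlgHom.commutes]
        simp [TrivSqZeroExt.algebraMap_eq_inl'] }

theorem mat_tanPtK {d : A →ₗ[k] K} (hd : IsTanAt εA d) (i j : Fin n) :
    TrivSqZeroExt.fst (C.mat (tanPtK hd) i j) = (1 : Matrix (Fin n) (Fin n) K) i j ∧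
      TrivSqZeroExt.snd (C.mat (tanPtK hd) i j) = d (C.c i j) := by
  constructor
  · show TrivSqZeroExt.fst (TrivSqZeroExt.inl (algebraMap k K (εA (C.c i j))) + TrivSqZeroExt.inr (d (C.c i j))) = _
    rw [Bialgebra.counitAlgHom_apply, C.counit_c, Matrix.one_apply, Matrix.one_apply]
    split_ifs <;> simp
  · show TrivSqZeroExt.snd (TrivSqZeroExt.inl (algebraMap k K (εA (C.c i j))) + TrivSqZeroExt.inr (d (C.c i j))) = _
    simp

theorem exists_tan_of_point (p : Pt k A (DualNumber K)) (h : push (fstK k K) p = 1) :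
    (C.mat p).map TrivSqZeroExt.snd ∈ tanSpaceK C K := by
  have h0 : ∀ a, TrivSqZeroExt.fst (p.ofConv a) = algebraMap k K (εA a) := fun a => by
    have := congrArg (fun z : Pt k A K => z.ofConv a) h
    rwa [AlgHom.convOne_apply] at this
  refine ⟨((TrivSqZeroExt.sndHom K K).restrictScalars k) ∘ₗ p.ofConv.toLinearMap, fun a b => ?_, Matrix.ext fun i j => rfl⟩
  show TrivSqZeroExt.snd (p.ofConv (a * b)) = _
  rw [map_mul, DualNumber.snd_mul, h0, h0]
  simp [Algebra.smul_def, mul_comm]

theorem mat_map_fst (p : Pt k A (DualNumber K)) :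
    C.mat (push (fstK k K) p) = (C.mat p).map TrivSqZeroExt.fst := rfl

theorem mul_map_fst (X Y : Matrix (Fin n) (Fin n) (DualNumber K)) :
    (X * Y).map TrivSqZeroExt.fst = X.map TrivSqZeroExt.fst * Y.map TrivSqZeroExt.fst :=
  (RingHom.mapMatrix (TrivSqZeroExt.fstHom K K K).toRingHom).map_mul X Y

theorem mul_map_snd (X Y : Matrix (Fin n) (Fin n) (DualNumber K)) :
    (X * Y).map TrivSqZeroExt.snd =
      X.map TrivSqZeroExt.fst * Y.map TrivSqZeroExt.snd + X.map TrivSqZeroExt.snd * Y.map TrivSqZeroExt.fst := by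
  ext i j
  simp [Matrix.mul_apply, TrivSqZeroExt.snd_sum, DualNumber.snd_mul, Finset.sum_add_distrib]

/-- The value at the closed point of a point with values in dual numbers. -/
def basePt (g : Pt k A (DualNumber K)) : Matrix (Fin n) (Fin n) K := (C.mat g).map TrivSqZeroExt.fst

theorem basePt_mul_inv (g : Pt k A (DualNumber K)) : basePt C g * basePt C g⁻¹ = 1 ∧ basePt C g⁻¹ * basePt C g = 1 := by
  rw [basePt, basePt, ← mul_map_fst, ← mul_map_fst, ← C.mat_mul, ← C.mat_mul, mul_inv_cancel, inv_mul_cancel, C.mat_one]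
  exact ⟨Matrix.map_one _ (by simp) (by simp), Matrix.map_one _ (by simp) (by simp)⟩

/-- **Conjugation of a tangent point.** -/
theorem snd_conj (g p : Pt k A (DualNumber K)) (hp : (C.mat p).map TrivSqZeroExt.fst = 1) :
    (C.mat (g * p * g⁻¹)).map TrivSqZeroExt.snd = basePt C g * (C.mat p).map TrivSqZeroExt.snd * basePt C g⁻¹ ∧
      (C.mat (g * p * g⁻¹)).map TrivSqZeroExt.fst = 1 := by
  have h1 := congrArg (fun X : Matrix (Fin n) (Fin n) (DualNumber K) => X.map TrivSqZeroExt.snd)
    (congrArg C.mat (mul_inv_cancel g))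
  simp only [C.mat_mul, C.mat_one, mul_map_snd, Matrix.map_one _ TrivSqZeroExt.fst_zero TrivSqZeroExt.fst_one] at h1
  have h2 : ((1 : Matrix (Fin n) (Fin n) (DualNumber K))).map TrivSqZeroExt.snd = 0 :=
    Matrix.ext fun i j => by
      rw [Matrix.map_apply, Matrix.one_apply]
      split_ifs <;> simp
  rw [h2] at h1
  constructor
  · simp only [C.mat_mul, mul_map_snd, mul_map_fst, hp, mul_one, basePt, add_mul]
    conv_rhs => rw [← add_zero ((C.mat g).map TrivSqZeroExt.fst * _ * _)]
    rw [← h1]
    abel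
  · rw [C.mat_mul, C.mat_mul, mul_map_fst, mul_map_fst, hp, mul_one]
    exact (basePt_mul_inv C g).1

theorem conj_mem_tanSpaceK (g : Pt k A (DualNumber K)) {V : Matrix (Fin n) (Fin n) K} (hV : V ∈ tanSpaceK C K) :
    basePt C g * V * basePt C g⁻¹ ∈ tanSpaceK C K := by
  obtain ⟨d, hd, rfl⟩ := hV
  have hp : (C.mat (tanPtK hd)).map TrivSqZeroExt.fst = 1 := Matrix.ext fun i j => (mat_tanPtK C hd i j).1
  obtain ⟨hs, hf⟩ := snd_conj C g _ hp
  rw [show C.c.map d = (C.mat (tanPtK hd)).map TrivSqZeroExt.snd from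
    Matrix.ext fun i j => (mat_tanPtK C hd i j).2.symm, ← hs]
  exact exists_tan_of_point C _ (C.mat_injective (by rw [mat_map_fst, hf, C.mat_one]))

/-- A point over the ground field as a point over the extension. -/
def liftPt {R : Type u} [CommRing R] [Algebra k R] [Algebra K R] [IsScalarTower k K R] (p : Pt k A R) :
    Pt K (K ⊗[k] A) R :=
  toConv (Algebra.TensorProduct.lift (Algebra.ofId K R) p.ofConv fun _ _ => Commute.all _ _)

theorem restrPt_liftPt {R : Type u} [CommRing R] [Algebra k R] [Algebra K R] [IsScalarTower k K R] (p : Pt k A R) :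
    restrPt K (liftPt (K := K) p) = p :=
  WithConv.ext (AlgHom.ext fun a => by simp [restrPt, liftPt])

theorem mat_decomp (p : Pt k A (DualNumber K)) (hp : (C.mat p).map TrivSqZeroExt.fst = 1) :
    C.mat p = (1 : Matrix (Fin n) (Fin n) (DualNumber K)) +
      (DualNumber.eps : DualNumber K) • ((C.mat p).map TrivSqZeroExt.snd).map (algebraMap K (DualNumber K)) := by
  have hp' : ∀ i j, TrivSqZeroExt.fst (C.mat p i j) = (1 : Matrix (Fin n) (Fin n) K) i j := fun i j => congrFun (congrFun hp i) j
  refine Matrix.ext fun i j => TrivSqZeroExt.ext ?_ ?_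
  · rw [hp']
    simp [Matrix.one_apply, apply_ite TrivSqZeroExt.fst, TrivSqZeroExt.algebraMap_eq_inl']
  · simp [Matrix.one_apply, TrivSqZeroExt.algebraMap_eq_inl', apply_ite TrivSqZeroExt.snd]

end Groth.Agent.GrMax
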