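import Groth.Agent.GrMax.TorusPair
import Mathlib.Algebra.MvPolynomial.Funext

/-!
# The eigenspace decomposition of a torus inside a matrix group
-/

set_option autoImplicit false
set_option linter.unusedSectionVars false
set_option maxHeartbeats 1000000

universe u

open TensorProduct WithConv
open scoped Groth.Agent.Takeuchi
open Groth.Agent.Takeuchi (Pt push)

noncomputable section

namespace Groth.Agent.GrMax

variable {K : Type u} [Field K] {A : Type u} [CommRing A] [HopfAlgebra K A] {n : ℕ} (C : MatGen K A n)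
  {M : Type u} [CommGroup M] (t : A →ₐc[K] MonoidAlgebra K M)

/-- The projector of a weight. -/
def eig (m : M) : Matrix (Fin n) (Fin n) K := C.c.map fun a => (t a).coeff m

open scoped Classical in
/-- The weights. -/
def wts : Finset M := Finset.univ.biUnion fun p : Fin n × Fin n => (t (C.c p.1 p.2)).coeff.support

theorem eig_eq_zero {m : M} (hm : m ∉ wts C t) : eig C t m = 0 := by
  classical
  ext i j
  simp only [wts, Finset.mem_biUnion, Finset.mem_univ, true_and, not_exists] at hm
  exact Finsupp.notMem_support_iff.1 (hm (i, j))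

/-- The point of the torus attached to a character. -/
def torusPt {R : Type u} [CommRing R] [Algebra K R] (χ : M →* R) : Pt K A R :=
  toConv ((MonoidAlgebra.lift K R M χ).comp (t : A →ₐ[K] MonoidAlgebra K M))

theorem mat_torusPt {R : Type u} [CommRing R] [Algebra K R] (χ : M →* R) :
    C.mat (torusPt t χ) = ∑ m ∈ wts C t, χ m • (eig C t m).map (algebraMap K R) := by
  classical
  ext i j
  show MonoidAlgebra.lift K R M χ (t (C.c i j)) = _
  rw [MonoidAlgebra.lift_apply, Matrix.sum_apply]
  rw [Finsupp.sum_of_support_subset _ (s := wts C t) (fun m hm => Finset.mem_biUnion.2 ⟨(i, j), Finset.mem_univ _, hm⟩)]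
  · exact Finset.sum_congr rfl fun m _ => by
      rw [Matrix.smul_apply, Matrix.map_apply, smul_eq_mul, Algebra.smul_def, mul_comm]
      rfl
  · exact fun m _ => by simp

theorem sum_eig : ∑ m ∈ wts C t, eig C t m = 1 := by
  classical
  ext i j
  rw [Matrix.sum_apply, ← C.counit_c, ← CoalgHomClass.counit_comp_apply t (C.c i j)]
  show ∑ m ∈ wts C t, (t (C.c i j)).coeff m = _
  refine Eq.trans (Finset.sum_subset (fun m hm => Finset.mem_biUnion.2 ⟨(i, j), Finset.mem_univ _, hm⟩)
    (fun m _ hm => Finsupp.notMem_support_iff.1 hm)).symm ?_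
  conv_rhs => rw [← MonoidAlgebra.sum_coeff_single (t (C.c i j)), Finsupp.sum, map_sum]
  exact Finset.sum_congr rfl fun m _ => by simp

theorem torusPt_mul {R : Type u} [CommRing R] [Algebra K R] (χ χ' : M →* R) :
    torusPt t (χ * χ') = torusPt t χ * torusPt t χ' := by
  have h : (toConv (MonoidAlgebra.lift K R M (χ * χ')) : Pt K (MonoidAlgebra K M) R) =
      toConv (MonoidAlgebra.lift K R M χ) * toConv (MonoidAlgebra.lift K R M χ') := by
    refine WithConv.ext (MonoidAlgebra.algHom_ext' (MonoidHom.ext fun m => ?_) (by ext))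
    show MonoidAlgebra.lift K R M (χ * χ') (MonoidAlgebra.of K M m) = (toConv _ * toConv _ : Pt K _ R) (MonoidAlgebra.of K M m)
    rw [AlgHom.convMul_apply]
    simp [MonoidAlgebra.of_apply, MonoidAlgebra.comul_single]
  exact (congrArg (compHom t R) h).trans (map_mul (compHom t R) _ _)

theorem eig_mul [DecidableEq M] (m m' : M) :
    eig C t m * eig C t m' = if m = m' then eig C t m else 0 := by
  classical
  by_cases hm : m ∈ wts C t
  swap
  · rw [eig_eq_zero C t hm, zero_mul]; split_ifs <;> rfl
  by_cases hm' : m' ∈ wts C t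
  swap
  · rw [eig_eq_zero C t hm', mul_zero, if_neg (fun h : m = m' => hm' (h ▸ hm))]
  let χ : M →* (MonoidAlgebra K (M × M)) := (MonoidAlgebra.of K (M × M)).comp (MonoidHom.inl M M)
  let χ' : M →* (MonoidAlgebra K (M × M)) := (MonoidAlgebra.of K (M × M)).comp (MonoidHom.inr M M)
  have hχ : ∀ a : M, (χ * χ') a = MonoidAlgebra.single (a, a) (1 : K) := fun a => by
    show MonoidAlgebra.single (a, (1 : M)) (1 : K) * MonoidAlgebra.single ((1 : M), a) (1 : K) = _
    rw [MonoidAlgebra.single_mul_single]
    simp
  have h := congrArg C.mat (torusPt_mul t χ χ')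
  rw [C.mat_mul, mat_torusPt, mat_torusPt, mat_torusPt, Finset.sum_mul] at h
  replace h := h.trans (Finset.sum_congr rfl fun a _ => (Finset.mul_sum _ _ _).trans (Finset.sum_congr rfl fun b _ =>
    (smul_mul_smul_comm _ _ _ _).trans (congrArg (fun Z => (χ a * χ' b) • Z) (Matrix.map_mul (f := algebraMap K (MonoidAlgebra K (M × M)))).symm)))
  ext i j
  have h2 := congrArg (fun Z : Matrix (Fin n) (Fin n) (MonoidAlgebra K (M × M)) => (Z i j).coeff (m, m')) h
  simp only [Matrix.sum_apply, Matrix.smul_apply,
    Matrix.map_apply, smul_eq_mul, hχ, MonoidAlgebra.coeff_sum, Finsupp.finsetSum_apply] at h2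
  have e1 : ∀ (a b : M) (c : K),
      (χ a * χ' b * algebraMap K (MonoidAlgebra K (M × M)) c : (MonoidAlgebra K (M × M))).coeff (m, m') = if a = m ∧ b = m' then c else 0 := by
    intro a b c
    show ((MonoidAlgebra.single (a, (1 : M)) (1 : K) * MonoidAlgebra.single ((1 : M), b) (1 : K)) *
      MonoidAlgebra.single (1 : M × M) c).coeff _ = _
    simp [MonoidAlgebra.single_mul_single, Finsupp.single_apply, Prod.ext_iff]
  have e2 : ∀ (a : M) (c : K),
      (MonoidAlgebra.single (a, a) (1 : K) * algebraMap K (MonoidAlgebra K (M × M)) c : (MonoidAlgebra K (M × M))).coeff (m, m') = if a = m ∧ a = m' then c else 0 := by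
    intro a c
    show (MonoidAlgebra.single (a, a) (1 : K) * MonoidAlgebra.single (1 : M × M) c).coeff _ = _
    simp [MonoidAlgebra.single_mul_single, Finsupp.single_apply, Prod.ext_iff]
  simp only [e1, e2, Finset.sum_ite, Finset.sum_const_zero, add_zero] at h2
  have f1 : (Finset.filter (fun a => a = m ∧ a = m') (wts C t)) = if m = m' then {m} else ∅ := by
    ext a; split_ifs with hc <;> simp <;> aesop
  have f2 : ∀ a, (Finset.filter (fun b => a = m ∧ b = m') (wts C t)) = if a = m then {m'} else ∅ := by
    intro a; ext b; split_ifs with hc <;> simp <;> aesop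
  simp only [f1, f2] at h2
  rw [Finset.sum_eq_single_of_mem m hm (fun a _ ha => by rw [if_neg ha, Finset.sum_empty]), if_pos rfl,
    Finset.sum_singleton] at h2
  refine h2.symm.trans ?_
  split_ifs with hc
  · simp [hc]
  · simp

variable (ν : M → K)

/-- The tangent form of an additive functional. -/
def torusTan : A →ₗ[K] K :=
  ((Finsupp.linearCombination K ν) ∘ₗ (MonoidAlgebra.coeffLinearEquiv K).toLinearMap) ∘ₗ
    (t : A →ₐ[K] MonoidAlgebra K M).toLinearMap

theorem map_torusTan : C.c.map (torusTan t ν) = ∑ m ∈ wts C t, ν m • eig C t m := by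
  classical
  ext i j
  show Finsupp.linearCombination K ν (t (C.c i j)).coeff = _
  rw [Finsupp.linearCombination_apply, Matrix.sum_apply,
    Finsupp.sum_of_support_subset _ (s := wts C t) (fun m hm => Finset.mem_biUnion.2 ⟨(i, j), Finset.mem_univ _, hm⟩)]
  · exact Finset.sum_congr rfl fun m _ => by rw [Matrix.smul_apply, smul_eq_mul, smul_eq_mul, mul_comm]; rfl
  · exact fun m _ => zero_smul _ _

theorem isTan_torusTan (hν : ∀ a b, ν (a * b) = ν a + ν b) : IsTan (torusTan t ν) := by
  let Nν : MonoidAlgebra K M →ₗ[K] K :=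
    (Finsupp.linearCombination K ν) ∘ₗ (MonoidAlgebra.coeffLinearEquiv K).toLinearMap
  let aug := Bialgebra.counitAlgHom K (MonoidAlgebra K M)
  have hNs : ∀ a r, Nν (MonoidAlgebra.single a r) = r * ν a := fun a r => by simp [Nν]
  have hN : ∀ y z, Nν (y * z) = aug y * Nν z + Nν y * aug z := by
    intro y z
    induction y using MonoidAlgebra.induction_linear with
    | zero => simp
    | add a b ha hb => simp only [add_mul, map_add, ha, hb]; ring
    | single a r =>
      induction z using MonoidAlgebra.induction_linear with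
      | zero => simp
      | add a b ha hb => simp only [mul_add, map_add, ha, hb]; ring
      | single b s =>
        rw [MonoidAlgebra.single_mul_single, hNs, hNs, hNs, hν]
        simp [aug]
        ring
  intro a b
  show Nν (t (a * b)) = Bialgebra.counitAlgHom K A a * Nν (t b) + Nν (t a) * Bialgebra.counitAlgHom K A b
  rw [map_mul, hN]
  simp [aug, CoalgHomClass.counit_comp_apply]

/-- A matrix killed by a power of the commutator with a torus element has no mixed components. -/
theorem eig_mul_mul_eq_zero {V : Matrix (Fin n) (Fin n) K} {N : ℕ}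
    (h : ((adM (C.c.map (torusTan t ν))) ^ N) V = 0) {m m' : M} (hm : m ∈ wts C t) (hm' : m' ∈ wts C t)
    (hne : ν m ≠ ν m') : eig C t m * V * eig C t m' = 0 := by
  classical
  set D := C.c.map (torusTan t ν) with hD
  have hl : eig C t m * D = ν m • eig C t m := by
    rw [hD, map_torusTan, Finset.mul_sum, Finset.sum_eq_single_of_mem m hm (fun a _ ha => by
      rw [mul_smul_comm, eig_mul, if_neg (Ne.symm ha), smul_zero]), mul_smul_comm, eig_mul, if_pos rfl]
  have hr : D * eig C t m' = ν m' • eig C t m' := by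
    rw [hD, map_torusTan, Finset.sum_mul, Finset.sum_eq_single_of_mem m' hm' (fun a _ ha => by
      rw [smul_mul_assoc, eig_mul, if_neg ha, smul_zero]), smul_mul_assoc, eig_mul, if_pos rfl]
  have key : ∀ N, eig C t m * ((adM D) ^ N) V * eig C t m' = (ν m - ν m') ^ N • (eig C t m * V * eig C t m') := by
    intro N
    induction N with
    | zero => simp
    | succ N ih =>
      rw [pow_succ', Module.End.mul_apply, adM_apply, mul_sub, sub_mul, ← mul_assoc, hl, smul_mul_assoc,
        smul_mul_assoc, mul_assoc _ (_ * D), mul_assoc _ D, hr, mul_smul_comm, mul_smul_comm, ← mul_assoc, ih,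
        ← sub_smul, smul_smul, pow_succ']
  have h0 := key N
  rw [h, mul_zero, zero_mul] at h0
  exact (smul_eq_zero.1 h0.symm).resolve_left (pow_ne_zero _ (sub_ne_zero.2 hne))

/-- Such a matrix commutes with the torus points whose characters are coarser than the functional. -/
theorem commute_torusPt {V : Matrix (Fin n) (Fin n) K} {N : ℕ} (h : ((adM (C.c.map (torusTan t ν))) ^ N) V = 0)
    {R : Type u} [CommRing R] [Algebra K R] (χ : M →* R)
    (hχ : ∀ m ∈ wts C t, ∀ m' ∈ wts C t, ν m = ν m' → χ m = χ m') :
    V.map (algebraMap K R) * C.mat (torusPt t χ) = C.mat (torusPt t χ) * V.map (algebraMap K R) := by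
  classical
  have hV : V.map (algebraMap K R) = ∑ a ∈ wts C t, ∑ b ∈ wts C t, (eig C t a * V * eig C t b).map (algebraMap K R) := by
    have h1 : V = ∑ a ∈ wts C t, ∑ b ∈ wts C t, eig C t a * V * eig C t b := by
      simp only [← Finset.mul_sum, sum_eig, mul_one, ← Finset.sum_mul, one_mul]
    conv_lhs => rw [h1]
    rw [← RingHom.mapMatrix_apply, map_sum]
    exact Finset.sum_congr rfl fun a _ => map_sum _ _ _
  have hsum : ∀ (c : R) (Z : Matrix (Fin n) (Fin n) K) (P : Prop) [Decidable P],
      c • (if P then Z else 0).map (algebraMap K R) = if P then c • Z.map (algebraMap K R) else 0 := by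
    intro c Z P _
    split_ifs
    · rfl
    · rw [Matrix.map_zero _ (map_zero _), smul_zero]
  have hr : ∀ a, ∀ b ∈ wts C t, (eig C t a * V * eig C t b).map (algebraMap K R) * C.mat (torusPt t χ) =
      χ b • (eig C t a * V * eig C t b).map (algebraMap K R) := by
    intro a b hb
    rw [mat_torusPt, Finset.mul_sum, Finset.sum_eq_single_of_mem b hb]
    · rw [mul_smul_comm, ← Matrix.map_mul, mul_assoc _ (eig C t b), eig_mul, if_pos rfl]
    · intro c _ hc
      rw [mul_smul_comm, ← Matrix.map_mul, mul_assoc _ (eig C t b), eig_mul, if_neg (Ne.symm hc), mul_zero,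
        Matrix.map_zero _ (map_zero _), smul_zero]
  have hl : ∀ b, ∀ a ∈ wts C t, C.mat (torusPt t χ) * (eig C t a * V * eig C t b).map (algebraMap K R) =
      χ a • (eig C t a * V * eig C t b).map (algebraMap K R) := by
    intro b a ha
    rw [mat_torusPt, Finset.sum_mul, Finset.sum_eq_single_of_mem a ha]
    · rw [smul_mul_assoc, ← Matrix.map_mul, ← mul_assoc, ← mul_assoc, eig_mul, if_pos rfl]
    · intro c _ hc
      rw [smul_mul_assoc, ← Matrix.map_mul, ← mul_assoc, ← mul_assoc, eig_mul, if_neg hc, zero_mul, zero_mul,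
        Matrix.map_zero _ (map_zero _), smul_zero]
  rw [hV, Finset.sum_mul, Finset.mul_sum]
  simp only [Finset.sum_mul, Finset.mul_sum]
  rw [Finset.sum_congr rfl fun a _ => Finset.sum_congr rfl fun b hb => hr a b hb,
    Finset.sum_congr rfl fun a ha => Finset.sum_congr rfl fun b _ => hl b a ha]
  refine Finset.sum_congr rfl fun a ha => Finset.sum_congr rfl fun b hb => ?_
  by_cases hab : ν a = ν b
  · rw [hχ a ha b hb hab]
  · rw [eig_mul_mul_eq_zero C t ν h ha hb hab]
    simp

/-- **A functional separating finitely many weights.** -/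
theorem exists_separating_functional [Infinite K] {r : ℕ} (eM : M ≃* Multiplicative (Fin r → ℤ)) (S : Finset M) :
    ∃ ν : M → K, (∀ a b, ν (a * b) = ν a + ν b) ∧
      ∀ m ∈ S, ∀ m' ∈ S, ν m = ν m' → ∀ i, ((Multiplicative.toAdd (eM m) i : ℤ) : K) = (Multiplicative.toAdd (eM m') i : ℤ) := by
  classical
  let co : M → Fin r → K := fun m i => ((Multiplicative.toAdd (eM m) i : ℤ) : K)
  let P : MvPolynomial (Fin r) K := ∏ q ∈ (S ×ˢ S).filter (fun q => co q.1 ≠ co q.2),
    ∑ i, MvPolynomial.C (co q.1 i - co q.2 i) * MvPolynomial.X i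
  have hP : P ≠ 0 := by
    refine Finset.prod_ne_zero_iff.2 fun q hq h0 => ?_
    obtain ⟨i, hi⟩ := Function.ne_iff.1 (Finset.mem_filter.1 hq).2
    have h1 := congrArg (MvPolynomial.eval (Pi.single i (1 : K))) h0
    simp [Pi.single_apply, sub_eq_zero] at h1
    exact hi h1
  obtain ⟨x, hx⟩ : ∃ x, MvPolynomial.eval x P ≠ 0 := by
    by_contra! hcon
    exact hP (MvPolynomial.funext fun z => by rw [hcon z, map_zero])
  refine ⟨fun m => ∑ i, co m i * x i, fun a b => ?_, fun m hm m' hm' h i => ?_⟩
  · simp [co, ← Finset.sum_add_distrib, add_mul]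
  · by_contra hne
    refine hx ?_
    rw [map_prod]
    refine Finset.prod_eq_zero (i := (m, m')) (Finset.mem_filter.2 ⟨Finset.mem_product.2 ⟨hm, hm'⟩,
      fun he => hne (congrFun he i)⟩) ?_
    simp only [map_sum, map_mul, MvPolynomial.eval_C, MvPolynomial.eval_X, sub_mul, Finset.sum_sub_distrib]
    exact sub_eq_zero.2 h

end Groth.Agent.GrMax
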