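import Groth.Agent.GrMax.Step
import Groth.Agent.GrMax.Containing
import Groth.Agent.GrMax.LieMat
import Groth.Agent.GrMax.RegularLin
import Groth.Agent.GrMax.TorusEigen
import Groth.Agent.GrMax.TanSpace
import Groth.Agent.GrMax.PointTors
import Groth.Agent.MTImage.ToriConj

/-!
# A maximal torus contains tangent vectors with the smallest generalised centralizer
-/

set_option autoImplicit false
set_option linter.unusedSectionVars false
set_option linter.style.haveILetI false
set_option backward.isDefEq.respectTransparency false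
set_option maxHeartbeats 1000000
set_option synthInstance.maxHeartbeats 400000

universe u

open CategoryTheory CategoryTheory.Limits MonoidalCategory CartesianMonoidalCategory MonObj GrpObj AlgebraicGeometry
open TensorProduct WithConv Polynomial LieS
open scoped Groth.Agent.Takeuchi
open Groth.Agent.GrassClosed (SpA over_hom_ext)
open Groth.Agent.Takeuchi (Pt push)
open Groth.Agent.MTBridge (specGrp)
open Groth.Agent.Chev.PtsAction (sp)

noncomputable section

namespace Groth.Agent.GrMax

open Chev.Borel (ptsR ptsR_sp ptsR_comp exists_hopf_torus exists_lattice)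

variable {k : Type u} [Field k] {A : Type u} [CommRing A] [HopfAlgebra k A] {n : ℕ} (C : MatGen k A n)

/-- The tangent matrices killed by a commutator. -/
abbrev tanCent (e₀ : Matrix (Fin n) (Fin n) k) : Submodule k (Matrix (Fin n) (Fin n) k) :=
  tanSpace C ⊓ LinearMap.ker (adM e₀)

/-- Conjugation by invertible matrices is compatible with commutators. -/
theorem adM_conj {F : Type u} [Field F] (g gi D V : Matrix (Fin n) (Fin n) F) (h : gi * g = 1) (N : ℕ) :
    ((adM (g * D * gi)) ^ N) (g * V * gi) = g * ((adM D) ^ N) V * gi := by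
  induction N with
  | zero => simp
  | succ N ih =>
    rw [pow_succ', Module.End.mul_apply, ih, pow_succ', Module.End.mul_apply, adM_apply, adM_apply, mul_sub, sub_mul]
    congr 1
    · rw [show g * D * gi * (g * ((adM D) ^ N) V * gi) = g * D * (gi * g) * ((adM D) ^ N) V * gi by
        simp only [_root_.mul_assoc], h, _root_.mul_one, _root_.mul_assoc g D]
    · rw [show g * ((adM D) ^ N) V * gi * (g * D * gi) = g * ((adM D) ^ N) V * (gi * g) * D * gi by
        simp only [_root_.mul_assoc], h, _root_.mul_one, _root_.mul_assoc g _ D]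

/-- The kernel of a commutator over an extension is spanned by rational vectors. -/
theorem mem_span_tanCent {K : Type u} [Field K] [Algebra k K] (e₀ : Matrix (Fin n) (Fin n) k)
    {V : Matrix (Fin n) (Fin n) K} (hV : V ∈ tanSpaceK C K) (h : adM (e₀.map (algebraMap k K)) V = 0) :
    V ∈ Submodule.span K ((fun X : Matrix (Fin n) (Fin n) k => X.map (algebraMap k K)) '' (tanCent C e₀)) := by
  classical
  obtain ⟨d, hd, rfl⟩ := hV
  let b := Module.Basis.ofVectorSpace k K
  let s : Finset _ := Finset.univ.biUnion fun p : Fin n × Fin n => (b.repr (d (C.c p.1 p.2))).support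
  have hsum : C.c.map d = ∑ i ∈ s, b i • (C.c.map ((b.coord i).comp d)).map (algebraMap k K) := by
    ext p q
    simp only [Matrix.sum_apply, Matrix.smul_apply, Matrix.map_apply, smul_eq_mul, LinearMap.comp_apply]
    conv_lhs => rw [← b.linearCombination_repr (d (C.c p q)), Finsupp.linearCombination_apply, Finsupp.sum]
    rw [Finset.sum_subset (s₂ := s) (fun i hi => Finset.mem_biUnion.2 ⟨(p, q), Finset.mem_univ _, hi⟩)
      (fun i _ hi => by simp [Finsupp.notMem_support_iff.1 hi])]
    exact Finset.sum_congr rfl fun i _ => by simp [Algebra.smul_def, mul_comm]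
  rw [hsum]
  refine Submodule.sum_mem _ fun i _ => Submodule.smul_mem _ _ (Submodule.subset_span ⟨_, ⟨⟨_, fun x y => ?_, rfl⟩, ?_⟩, rfl⟩)
  · simp only [LinearMap.comp_apply, hd x y, map_add, map_smul, smul_eq_mul, Bialgebra.counitAlgHom_apply]
    ring
  · show adM e₀ (C.c.map ((b.coord i).comp d)) = 0
    ext p q
    have h2 := congrArg (b.coord i) (congrFun (congrFun h p) q)
    simp only [adM_apply, Matrix.sub_apply, Matrix.mul_apply, Matrix.map_apply, map_sub, map_sum, Matrix.zero_apply,
      map_zero] at h2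
    simp only [adM_apply, Matrix.sub_apply, Matrix.mul_apply, Matrix.map_apply, LinearMap.comp_apply, Matrix.zero_apply]
    refine Eq.trans ?_ h2
    have e1 : ∀ (r : k) (z : K), b.coord i (algebraMap k K r * z) = r * b.coord i z := fun r z => by
      rw [← Algebra.smul_def, map_smul, smul_eq_mul]
    congr 1
    · exact Finset.sum_congr rfl fun j _ => (e1 _ _).symm
    · exact Finset.sum_congr rfl fun j _ => by rw [mul_comm (d _) (algebraMap k K _), e1, mul_comm]

variable {G : Over (Spec (CommRingCat.of k))} [GrpObj G]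
  (e : (Spec (CommRingCat.of A)).asOver (Spec (CommRingCat.of k)) ≅ G) [IsMonHom e.hom]

/-- **Regular tangent vectors of a maximal torus.** -/
theorem exists_regular_element [Infinite k] [IsAffine G.left] [Smooth G.hom] [QuasiCompact G.hom]
    {T : Over (Spec (CommRingCat.of k))} [GrpObj T] (iT : T ⟶ G) [IsMonHom iT] (hT : Red.IsMaximalTorus iT)
    {d₀ : A →ₗ[k] k} (hd₀ : IsTan d₀) (P : SSPoly (AlgebraicClosure k) (C.c.map d₀)) :
    ∃ w : Lie T k (fkk k), Module.finrank k ↥(tanSpace C ⊓
        LinearMap.ker ((adM (lieMat e C (LieS.map k (fkk k) iT w))) ^ (n * n))) ≤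
      Module.finrank k (tanCent C (aeval (C.c.map d₀) P.q)) := by
  classical
  haveI : Mono iT := hT.2.1
  let K := AlgebraicClosure k
  let f := fieldMap (k := k) K
  let F := Over.pullback f
  set e₀ := aeval (C.c.map d₀) P.q with he₀
  haveI : IsAffineHom G.hom := isAffineHom_of_isAffine _
  haveI : IsAffineHom (Red.bc f G).hom := inferInstanceAs (IsAffineHom (pullback.snd G.hom f))
  haveI : IsAffine (Red.bc f G).left := isAffine_of_isAffineHom (Red.bc f G).hom
  haveI : Smooth (Red.bc f G).hom := inferInstanceAs (Smooth (pullback.snd G.hom f))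
  haveI : QuasiCompact (Red.bc f G).hom := inferInstanceAs (QuasiCompact (pullback.snd G.hom f))
  obtain ⟨a, ham, ha⟩ := exists_bcIso K e
  haveI := ham
  -- the subgroup of the semisimple part and a maximal torus containing it
  obtain ⟨H, _, u, hum, htors, hHmt, hHconn, hHaff, hmem⟩ := exists_pointSubgroup_torsion a C hd₀ P
  haveI := hum; haveI := hHconn
  have hHloc : TwC.Locally (Spec (CommRingCat.of K)) TwC.Topology.fpqc (fun S' g => ∃ (M : Type) (_ : AddCommGroup M),
      Nonempty (Grp.mk (Red.bc g H) ≅ Grp.mk (Red.DS S' M))) := by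
    obtain ⟨S', g, hf, hs, hl, hloc⟩ := hHmt
    exact ⟨S', g, hf, hs, hl, fun s => by obtain ⟨U, hU, M, hM, -, e'⟩ := hloc s; exact ⟨U, hU, M, hM, e'⟩⟩
  obtain ⟨Z₁, _, j₁, hj₁, hj₁c, hZ₁⟩ := Groth.Agent.S5247.result H (Red.bc f G) hHmt inferInstance inferInstance u
  haveI := hj₁.1; haveI := hj₁.2.1; haveI := hj₁c; haveI := hZ₁
  haveI : IsAffine Z₁.left := isAffine_of_isAffineHom j₁.left
  haveI : IsAffineHom Z₁.hom := isAffineHom_of_isAffine _
  obtain ⟨w, hw⟩ := (hj₁.2.2 _ u).2 fun X' x h => by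
    rw [← MonObj.mul_comp, ← MonObj.mul_comp, MTBridge.comm_points_scheme H hHloc]
  haveI : IsMonHom w := MTSplit.isMonHom_of_comp_mono w j₁ u hw
  obtain ⟨C₀, _, c, hcm, hco, hcc, hC₀s, hC₀q, hC₀c⟩ := exists_neutral Z₁
  haveI := hcm; haveI := hco; haveI := hcc; haveI := hC₀s; haveI := hC₀c
  haveI : IsAffine C₀.left := isAffine_of_isAffineHom c.left
  haveI : IsAffineHom C₀.hom := isAffineHom_of_isAffine _
  haveI : Mono c := GrpField.SchImg.mono_of_isClosedImmersion c
  obtain ⟨w₀, hw₀⟩ := exists_factor_connected w c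
  haveI : IsMonHom w₀ := MTSplit.isMonHom_of_comp_mono w₀ c w hw₀
  have hw₀c : ∀ (X : Over (Spec (CommRingCat.of K))) (x : X ⟶ H) (g : X ⟶ C₀), (x ≫ w₀) * g = g * (x ≫ w₀) := by
    intro X x g
    have h := (hj₁.2.2 X (g ≫ c ≫ j₁)).1 ⟨g ≫ c, Category.assoc _ _ _⟩ X (𝟙 X) x
    rw [← cancel_mono (c ≫ j₁), MonObj.mul_comp, MonObj.mul_comp, Category.assoc x w₀, reassoc_of% hw₀, hw]
    rw [Category.id_comp] at h
    exact h.symm
  obtain ⟨T₁, _, t₁, ht₁⟩ := MTImage.exists_maxTorus_general C₀
  obtain ⟨wT, hwT⟩ := Groth.Agent.S8398.result _ C₀ (fun s => by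
      rw [show C₀.hom.base ⁻¹' {s} = Set.univ from
        Set.eq_univ_of_forall fun y => Subsingleton.elim (α := PrimeSpectrum K) _ _]
      exact isConnected_univ) _ t₁ ht₁ H hHmt w₀ hw₀c
  haveI := ht₁.1; haveI := ht₁.2.1
  obtain ⟨T', _, i', r₁, hi', hr₁⟩ := MTImage.exists_maxTorus_containing (t₁ ≫ c ≫ j₁) ht₁.2.2.1
  haveI := hi'.1; haveI := hi'.2.1
  let uT : H ⟶ T' := wT ≫ r₁
  have huT : uT ≫ i' = u := by
    rw [Category.assoc, hr₁, reassoc_of% hwT, reassoc_of% hw₀, hw]
  haveI : IsMonHom uT := MTSplit.isMonHom_of_comp_mono uT i' u huT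
  -- coordinates of the torus
  obtain ⟨AT, _, _, eT', heT', hATft, hATdom, ⟨M, _, ⟨E⟩⟩⟩ := exists_hopf_torus hi'.2.2.1
  haveI := heT'
  haveI : IsMonHom a.inv := inferInstance
  obtain ⟨r, ⟨eM⟩⟩ := exists_lattice E
  haveI : IsMonHom (eT'.hom ≫ i' ≫ a.inv) := inferInstance
  obtain ⟨tA, htA⟩ := MTBridge.exists_bialgHom (R := K) (A := AT) (B := K ⊗[k] A) (eT'.hom ≫ i' ≫ a.inv)
  let tK : K ⊗[k] A →ₐc[K] MonoidAlgebra K M := (E : AT →ₐc[K] MonoidAlgebra K M).comp tA
  have hti : eT'.hom.left ≫ i'.left = Spec.map (CommRingCat.ofHom (tA : K ⊗[k] A →ₐ[K] AT).toRingHom) ≫ a.hom.left := by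
    rw [← htA, ← Over.comp_left, ← Over.comp_left]
    simp
  obtain ⟨ν, hνadd, hνsep⟩ := exists_separating_functional (K := K) eM (wts (C.bc K) tK)
  set D' := (C.bc K).c.map (torusTan tK ν) with hD'
  -- torus points are coarser than the functional
  have hcoarse : ∀ (R : CommAlgCat.{u} K) (h : SpA R ⟶ H), ∃ χ : M →* R,
      ptsR a R (h ≫ u) = torusPt tK χ ∧
      ∀ m ∈ wts (C.bc K) tK, ∀ m' ∈ wts (C.bc K) tK, ν m = ν m' → χ m = χ m' := by
    intro R h
    set y := ptsR eT' R (h ≫ uT) with hy
    let χ : M →* R := (MonoidAlgebra.lift K R M).symm (y.ofConv.comp (E.symm : MonoidAlgebra K M →ₐ[K] AT))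
    have hχ : MonoidAlgebra.lift K R M χ = y.ofConv.comp (E.symm : MonoidAlgebra K M →ₐ[K] AT) :=
      Equiv.apply_symm_apply _ _
    have hyE : y.ofConv = (MonoidAlgebra.lift K R M χ).comp (E : AT →ₐ[K] MonoidAlgebra K M) := by
      refine AlgHom.ext fun z => ?_
      rw [hχ]
      exact congrArg y.ofConv (E.symm_apply_apply z).symm
    refine ⟨χ, ?_, fun m hm m' hm' hν => ?_⟩
    · rw [← huT, ← Category.assoc, ptsR_comp a eT' i' (tA : K ⊗[k] A →ₐ[K] AT) hti, ← hy]
      refine WithConv.ext (AlgHom.ext fun z => ?_)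
      show y.ofConv (tA z) = MonoidAlgebra.lift K R M χ (tK z)
      rw [hyE]
      rfl
    · have hco := hνsep m hm m' hm' hν
      rcases CharP.exists K with ⟨p, hp⟩
      rcases CharP.char_is_prime_or_zero K p with hprime | rfl
      · have hχp : ∀ m₀ : M, χ m₀ ^ p = 1 := by
          intro m₀
          have h1 : y ^ p = 1 := by
            rw [hy, ← map_pow, ← MonObj.pow_comp, htors p hprime hp, MonObj.one_comp, map_one]
          have hpow : ∀ j : ℕ, (y ^ j).ofConv (E.symm (MonoidAlgebra.single m₀ 1)) = χ m₀ ^ j := by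
            intro j
            induction j with
            | zero =>
              rw [pow_zero, AlgHom.convOne_apply, pow_zero, CoalgHomClass.counit_comp_apply]
              simp
            | succ j ih =>
              rw [pow_succ, pow_succ, Takeuchi.mul_apply, ← CoalgHomClass.map_comp_comul_apply]
              simp only [MonoidAlgebra.comul_single, CommSemiring.comul_apply, TensorProduct.map_tmul,
                Algebra.TensorProduct.lift_tmul, MonoidAlgebra.lsingle_apply, LinearMap.coe_coe]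
              rw [show χ m₀ = y.ofConv (E.symm (MonoidAlgebra.single m₀ 1)) from rfl] at ih ⊢
              rw [← ih]
          rw [← hpow p, h1, AlgHom.convOne_apply, CoalgHomClass.counit_comp_apply]
          simp
        have hdvd : ∀ i, (p : ℤ) ∣ (Multiplicative.toAdd (eM m) i - Multiplicative.toAdd (eM m') i) := fun i => by
          rw [← CharP.intCast_eq_zero_iff K p]
          push_cast
          rw [hco i, sub_self]
        choose q hq using hdvd
        have hm'' : m = m' * (eM.symm (Multiplicative.ofAdd q)) ^ p := by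
          apply eM.injective
          rw [map_mul, map_pow, MulEquiv.apply_symm_apply]
          apply Multiplicative.toAdd.injective
          funext i
          simp only [toAdd_mul, toAdd_pow, toAdd_ofAdd, Pi.add_apply, Pi.smul_apply, nsmul_eq_mul, Pi.mul_apply, Pi.natCast_apply]
          have := hq i
          linear_combination this
        rw [hm'', map_mul, map_pow, hχp, _root_.mul_one]
      · haveI : CharZero K := CharP.charP_to_charZero K
        have : m = m' := eM.injective (Multiplicative.toAdd.injective (funext fun i => by exact_mod_cast hco i))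
        rw [this]
  -- vectors killed by `D'` commute with the semisimple part
  have hkill : ∀ V ∈ tanSpaceK C K, ∀ N : ℕ, ((adM D') ^ N) V = 0 → adM (e₀.map (algebraMap k K)) V = 0 := by
    rintro V ⟨d, hd, rfl⟩ N hN
    let R : CommAlgCat.{u} K := CommAlgCat.of K (DualNumber K)
    let g : SpA R ⟶ Red.bc f G := (ptsR a R).symm (liftPt (tanPtK hd))
    have hgm : (C.bc K).mat (ptsR a R g) = C.mat (tanPtK hd) := by
      rw [MulEquiv.apply_symm_apply, mat_bc, restrPt_liftPt]
    have hfst : (C.mat (tanPtK hd)).map TrivSqZeroExt.fst = 1 := Matrix.ext fun i j => (mat_tanPtK C hd i j).1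
    have hsnd : (C.mat (tanPtK hd)).map TrivSqZeroExt.snd = C.c.map d := Matrix.ext fun i j => (mat_tanPtK C hd i j).2
    have hdec := mat_decomp C (tanPtK hd) hfst
    rw [hsnd] at hdec
    have h1 := (hmem _ g).2 fun X' x h => by
      refine over_hom_ext _ _ fun S p => (ptsR a S).injective ?_
      rw [MonObj.comp_mul, MonObj.comp_mul, map_mul, map_mul, ← Category.assoc p h u, ← Category.assoc p x g,
        (C.bc K).commute_iff]
      obtain ⟨χ, hχ, hχc⟩ := hcoarse S (p ≫ h)
      obtain ⟨φ, hφ⟩ : ∃ φ : R →ₐ[K] S, sp (A := R) (B := S) φ = p ≫ x :=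
        ⟨{ toRingHom := (Spec.preimage (p ≫ x).left).hom
           commutes' := fun c => by
            have e0 : CommRingCat.ofHom (algebraMap K R) ≫ Spec.preimage (p ≫ x).left =
                CommRingCat.ofHom (algebraMap K S) := by
              apply Spec.map_injective
              rw [Spec.map_comp, Spec.map_preimage]
              exact Over.w (p ≫ x)
            exact congr($(e0) c) }, Over.OverMorphism.ext (Spec.map_preimage _)⟩
      rw [hχ, ← hφ, ptsR_sp, MatGen.mat_push, hgm, hdec]
      have hc := commute_torusPt (C.bc K) tK ν hN χ hχc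
      have hmap : ((1 : Matrix (Fin n) (Fin n) R) + (DualNumber.eps : DualNumber K) •
          (C.c.map d).map (algebraMap K R)).map φ = 1 + φ DualNumber.eps • (C.c.map d).map (algebraMap K S) := by
        ext i j
        simp [Matrix.one_apply, apply_ite φ]
      rw [hmap, add_mul, mul_add, smul_mul_assoc, mul_smul_comm, hc, _root_.one_mul, _root_.mul_one]
    have h2 := h1 R (𝟙 _)
    rw [Category.id_comp, hgm, hdec] at h2
    ext i j
    have h3 := congrArg (fun Z : Matrix (Fin n) (Fin n) (DualNumber K) => TrivSqZeroExt.snd (Z i j)) h2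
    simp [R, Matrix.mul_apply, Matrix.one_apply, TrivSqZeroExt.snd_sum, DualNumber.snd_mul,
      TrivSqZeroExt.algebraMap_eq_inl', apply_ite TrivSqZeroExt.snd, apply_ite TrivSqZeroExt.fst] at h3
    rw [adM_apply, Matrix.sub_apply, Matrix.mul_apply, Matrix.mul_apply, Matrix.zero_apply, sub_eq_zero]
    simp only [Matrix.map_apply]
    exact h3.symm
  -- transport to the given torus
  have hTK : AGF.IsMaxTorus (F.map iT) := Chev.MaxTorusBC.isMaxTorus_pt iT hT f
  obtain ⟨g, φ, hφ⟩ := MTImage.exists_conjBy_maxTori (F.map iT) hTK i' hi'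
  let R : CommAlgCat.{u} K := CommAlgCat.of K (DualNumber K)
  let νT : MonoidAlgebra K M →ₗ[K] K :=
    (Finsupp.linearCombination K ν) ∘ₗ (MonoidAlgebra.coeffLinearEquiv K).toLinearMap
  have hνT : IsTan νT := by
    have := isTan_torusTan (BialgHom.id K (MonoidAlgebra K M)) ν hνadd
    exact this
  let P' : SpA R ⟶ T' := (ptsR eT' R).symm (compHom (E : AT →ₐc[K] MonoidAlgebra K M) R (tanPt hνT))
  let Q : SpA (CommAlgCat.of k (DualNumber K)) ⟶ T := kpt (P' ≫ φ.inv)
  let gq : Pt k A (DualNumber K) := ptsR e (CommAlgCat.of k (DualNumber K)) (kpt (toUnit (SpA R) ≫ g))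
  haveI : IsAffine T.left := Chev.isAffine_of_isTorus hT.2.2.1
  obtain ⟨BT, _, eT, heT⟩ := FinHopf.exists_hopf (R := CommRingCat.of k) T
  haveI := heT
  haveI : IsMonHom (eT.hom ≫ iT ≫ e.inv) := inferInstance
  obtain ⟨t₀, ht₀⟩ := MTBridge.exists_bialgHom (R := k) (A := BT) (B := A) (eT.hom ≫ iT ≫ e.inv)
  have hti₀ : eT.hom.left ≫ iT.left = Spec.map (CommRingCat.ofHom (t₀ : A →ₐ[k] BT).toRingHom) ≫ e.hom.left := by
    rw [← ht₀, ← Over.comp_left, ← Over.comp_left]
    simp
  let q₀ := ptsR eT (CommAlgCat.of k (DualNumber K)) Q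
  let qA : Pt k A (DualNumber K) := compHom t₀ _ q₀
  have hconjm : (C.bc K).mat (ptsR a R (P' ≫ i')) = C.mat (gq * qA * gq⁻¹) := by
    have h1 : P' ≫ i' = (toUnit _ ≫ g) * ((P' ≫ φ.inv) ≫ F.map iT) * (toUnit _ ≫ g)⁻¹ := by
      conv_lhs => rw [← φ.inv_hom_id_assoc i', ← hφ]
      simp only [MonObj.comp_mul, GrpObj.comp_inv, ← Category.assoc, comp_toUnit]
    rw [h1, map_mul, map_mul, map_inv, MatGen.mat_mul, MatGen.mat_mul, C.mat_mul, C.mat_mul]
    have e1 : (C.bc K).mat (ptsR a R (toUnit (SpA R) ≫ g)) = C.mat gq := mat_kpt e a ha C _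
    have e2 : (C.bc K).mat (ptsR a R (toUnit (SpA R) ≫ g))⁻¹ = C.mat gq⁻¹ := by
      rw [← map_inv (ptsR a R), mat_kpt e a ha C]
      refine congrArg C.mat ?_
      rw [ptsR_kpt e a ha, map_inv]
      refine eq_inv_of_mul_eq_one_left (C.mat_injective ?_)
      rw [C.mat_mul, C.mat_one, ← mat_bc, show C.mat gq = (C.bc K).mat (ptsR a R (toUnit (SpA R) ≫ g)) from e1.symm,
        ← MatGen.mat_mul, inv_mul_cancel, MatGen.mat_one]
    have e3 : (C.bc K).mat (ptsR a R ((P' ≫ φ.inv) ≫ F.map iT)) = C.mat qA := by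
      rw [mat_kpt e a ha C]
      refine congrArg C.mat ?_
      rw [show kpt ((P' ≫ φ.inv) ≫ F.map iT) = Q ≫ iT from Over.OverMorphism.ext (by
        show ((P' ≫ φ.inv).left ≫ ((Over.pullback f).map iT).left) ≫ pullback.fst _ _ = _
        simp [Q, kpt, pullback.lift_fst]; rfl)]
      rw [ptsR_comp e eT iT (t₀ : A →ₐ[k] BT) hti₀]
      rfl
    rw [e1, e2, e3]
  have hP'm : (C.bc K).mat (ptsR a R (P' ≫ i')) = (C.bc K).c.map (fun z => (tanPt hνT).ofConv (tK z)) := by
    rw [ptsR_comp a eT' i' (tA : K ⊗[k] A →ₐ[K] AT) hti, MulEquiv.apply_symm_apply]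
    rfl
  have hP1 : ((C.bc K).mat (ptsR a R (P' ≫ i'))).map TrivSqZeroExt.fst = 1 ∧
      ((C.bc K).mat (ptsR a R (P' ≫ i'))).map TrivSqZeroExt.snd = D' := by
    rw [hP'm]
    constructor
    · ext i j
      simp only [Matrix.map_apply, tanPt, AlgHom.coe_mk, RingHom.coe_mk, MonoidHom.coe_mk, OneHom.coe_mk]
      rw [Bialgebra.counitAlgHom_apply, CoalgHomClass.counit_comp_apply, (C.bc K).counit_c, Matrix.one_apply]
      split_ifs <;> simp
    · ext i j
      simp only [Matrix.map_apply, tanPt, AlgHom.coe_mk, RingHom.coe_mk, MonoidHom.coe_mk, OneHom.coe_mk]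
      simp
      rfl
  -- the tangent vector of the given torus
  set G₀ := basePt C gq
  set G₁ := basePt C gq⁻¹
  obtain ⟨hG01, hG10⟩ := basePt_mul_inv C gq
  let ι₀ : DualNumber K →ₐ[k] DualNumber K :=
    ((Algebra.ofId K (DualNumber K)).restrictScalars k).comp (fstK k K)
  let q₁ : Pt k BT (DualNumber K) := q₀ * (push ι₀ q₀)⁻¹
  have hfι : (fstK k K).comp ι₀ = fstK k K := AlgHom.ext fun z => by simp [ι₀, fstK]
  have hq₁ : push (fstK k K) q₁ = 1 := by
    rw [Takeuchi.push_mul, Takeuchi.push_inv, show push (fstK k K) (push ι₀ q₀) = push (fstK k K) q₀ from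
      WithConv.ext (by rw [← hfι]; rfl), mul_inv_cancel]
  have hq₁' : compHom t₀ (DualNumber K) q₁ = qA := by
    have hone : compHom t₀ (DualNumber K) (push ι₀ q₀) = 1 := by
      refine C.mat_injective ?_
      have h0 : (C.mat qA).map TrivSqZeroExt.fst = 1 := by
        have h := congrArg (fun Z : Matrix (Fin n) (Fin n) (DualNumber K) => Z.map TrivSqZeroExt.fst) hconjm
        rw [hP1.1] at h
        simp only [C.mat_mul, mul_map_fst] at h
        change 1 = G₀ * _ * G₁ at h
        calc (C.mat qA).map TrivSqZeroExt.fst = G₁ * (G₀ * (C.mat qA).map TrivSqZeroExt.fst * G₁) * G₀ := by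
              simp only [← _root_.mul_assoc, hG10, _root_.one_mul]; rw [_root_.mul_assoc, hG10, _root_.mul_one, _root_.one_mul]
          _ = 1 := by rw [← h, _root_.mul_one, hG10]
      rw [C.mat_one]
      show (C.mat qA).map ι₀ = 1
      have e4 : (ι₀ : DualNumber K → DualNumber K) = (algebraMap K (DualNumber K)) ∘ TrivSqZeroExt.fst := rfl
      rw [e4, ← Matrix.map_map, h0, Matrix.map_one _ (map_zero _) (map_one _)]
    rw [map_mul, map_inv, hone, inv_one, _root_.mul_one]
  let δ : BT →ₗ[k] K := ((TrivSqZeroExt.sndHom K K).restrictScalars k) ∘ₗ q₁.ofConv.toLinearMap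
  have hδ : IsTanAt (Bialgebra.counitAlgHom k BT) δ := by
    intro x y
    have h0 : ∀ z, TrivSqZeroExt.fst (q₁.ofConv z) = algebraMap k K (Bialgebra.counitAlgHom k BT z) := fun z => by
      have := congrArg (fun z' : Pt k BT K => z'.ofConv z) hq₁
      rwa [AlgHom.convOne_apply] at this
    show TrivSqZeroExt.snd (q₁.ofConv (x * y)) = _
    rw [map_mul, DualNumber.snd_mul, h0, h0]
    simp [δ, Algebra.smul_def, mul_comm]
  obtain ⟨l, x₀, δs, hδs, hdecomp⟩ := exists_rational_decomp (Bialgebra.counitAlgHom k BT) hδ (C.c.map t₀)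
  set Dq := (C.mat qA).map TrivSqZeroExt.snd with hDq
  have hDqd : Dq = ∑ j, x₀ j • (C.c.map fun z => δs j (t₀ z)).map (algebraMap k K) := by
    rw [hDq, ← hq₁']
    refine Eq.trans ?_ hdecomp
    rfl
  have hrel : D' = G₀ * Dq * G₁ := by
    have hqfst : (C.mat qA).map TrivSqZeroExt.fst = 1 := by
      rw [← hq₁', ← mat_map_fst]
      rw [show push (fstK k K) (compHom t₀ (DualNumber K) q₁) = compHom t₀ K (push (fstK k K) q₁) from rfl, hq₁,
        map_one, C.mat_one]
    rw [← hP1.2, hconjm]
    exact (snd_conj C gq qA hqfst).1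
  -- the bound over the extension
  obtain ⟨m, v, hvli, hvsp⟩ : ∃ (m : ℕ) (v : Fin m → Matrix (Fin n) (Fin n) k),
      LinearIndependent k v ∧ Submodule.span k (Set.range v) = tanSpace C := by
    let b := Module.finBasis k (tanSpace C)
    refine ⟨_, fun i => (b i : Matrix (Fin n) (Fin n) k), b.linearIndependent.map' (tanSpace C).subtype (Submodule.ker_subtype _), ?_⟩
    rw [show Set.range (fun i => (b i : Matrix (Fin n) (Fin n) k)) = (tanSpace C).subtype '' Set.range b from Set.range_comp _ _,
      Submodule.span_image, b.span_eq, Submodule.map_top, Submodule.range_subtype]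
  let vK := fun i => (v i).map (algebraMap k K)
  have hvK : LinearIndependent K vK := by
    refine Fintype.linearIndependent_iff.2 fun cc hcc i => ?_
    let bK := Module.Basis.ofVectorSpace k K
    refine bK.repr.map_eq_zero_iff.1 (Finsupp.ext fun jj => ?_)
    have h0 : ∑ i, bK.coord jj (cc i) • v i = 0 := by
      ext p q
      have h := congrArg (bK.coord jj) (congrFun (congrFun hcc p) q)
      simp only [vK, Matrix.sum_apply, Matrix.smul_apply, Matrix.map_apply, map_sum, Matrix.zero_apply, map_zero,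
        smul_eq_mul] at h
      simp only [Matrix.sum_apply, Matrix.smul_apply, Matrix.zero_apply, smul_eq_mul]
      refine Eq.trans (Finset.sum_congr rfl fun i _ => ?_) h
      rw [mul_comm (cc i), ← Algebra.smul_def, map_smul, smul_eq_mul, mul_comm]
    exact Fintype.linearIndependent_iff.1 hvli _ h0 i
  let Φ := (adM Dq) ^ (n * n)
  have hbound : Module.finrank K ↥(Submodule.span K (Set.range vK) ⊓ LinearMap.ker Φ) ≤
      Module.finrank k (tanCent C e₀) := by
    let S₀ := Submodule.span K ((fun X : Matrix (Fin n) (Fin n) k => X.map (algebraMap k K)) '' (tanCent C e₀))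
    let cj : Matrix (Fin n) (Fin n) K →ₗ[K] Matrix (Fin n) (Fin n) K :=
      LinearMap.mulLeft K G₁ ∘ₗ LinearMap.mulRight K G₀
    have hle : Submodule.span K (Set.range vK) ⊓ LinearMap.ker Φ ≤ S₀.map cj := by
      rintro V ⟨hV, hVk⟩
      rw [← mem_tanSpaceK_iff C v hvsp] at hV
      refine ⟨G₀ * V * G₁, mem_span_tanCent C e₀ (conj_mem_tanSpaceK C gq hV)
        (hkill _ (conj_mem_tanSpaceK C gq hV) (n * n) ?_), ?_⟩
      · rw [hrel, adM_conj _ _ _ _ hG10]
        rw [show ((adM Dq) ^ (n * n)) V = 0 from hVk, mul_zero, zero_mul]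
      · show G₁ * (G₀ * V * G₁ * G₀) = V
        simp only [← _root_.mul_assoc, hG10, _root_.one_mul]
        rw [_root_.mul_assoc, hG10, _root_.mul_one, _root_.one_mul]
    refine (Submodule.finrank_mono hle).trans ((Submodule.finrank_map_le cj S₀).trans ?_)
    obtain ⟨b⟩ : Nonempty (Module.Basis (Fin (Module.finrank k (tanCent C e₀))) k (tanCent C e₀)) :=
      ⟨Module.finBasis k _⟩
    have hS : S₀ ≤ Submodule.span K (Set.range fun i => ((b i : Matrix (Fin n) (Fin n) k)).map (algebraMap k K)) := by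
      refine Submodule.span_le.2 ?_
      rintro _ ⟨X, hX, rfl⟩
      have := b.sum_repr ⟨X, hX⟩
      have h2 : X.map (algebraMap k K) = ∑ i, algebraMap k K (b.repr ⟨X, hX⟩ i) •
          ((b i : Matrix (Fin n) (Fin n) k)).map (algebraMap k K) := by
        ext p q
        have h3 := congrArg (fun Z : tanCent C e₀ => algebraMap k K ((Z : Matrix (Fin n) (Fin n) k) p q)) this
        simp only [AddSubmonoidClass.coe_finset_sum, SetLike.val_smul, Matrix.sum_apply, Matrix.smul_apply, map_sum,
          smul_eq_mul, map_mul] at h3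
        simp only [Matrix.sum_apply, Matrix.smul_apply, Matrix.map_apply, smul_eq_mul]
        exact h3.symm
      show X.map (algebraMap k K) ∈ _
      rw [h2]
      exact Submodule.sum_mem _ fun i _ => Submodule.smul_mem _ _ (Submodule.subset_span ⟨i, rfl⟩)
    exact (Submodule.finrank_mono hS).trans ((finrank_range_le_card _).trans (Fintype.card_fin _).le)
  obtain ⟨s, fs, hfs, hcard⟩ := exists_indep_images Φ vK hvK
  obtain ⟨cs, hcs⟩ := exists_rational_centralizer (k := k) (K := K) (fun j => C.c.map fun z => δs j (t₀ z)) v (n * n)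
    fs x₀ (by rw [← hDqd]; exact hfs)
  have hz : IsTan (A := BT) (∑ j, cs j • δs j) := fun p q => by
    simp only [LinearMap.sum_apply, LinearMap.smul_apply, hδs _ p q, smul_eq_mul, mul_add, Finset.sum_add_distrib]
    rw [Finset.mul_sum, Finset.sum_mul]
    congr 1 <;> exact Finset.sum_congr rfl fun j _ => by ring
  obtain ⟨wT', hwT'⟩ := exists_lieVec eT hz
  refine ⟨wT', ?_⟩
  have hmat : lieMat e C (LieS.map k (fkk k) iT wT') = ∑ j, cs j • C.c.map fun z => δs j (t₀ z) := by
    have h1 : dPt e (LieS.map k (fkk k) iT wT').1 = compHom t₀ _ (dPt eT wT'.1) := by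
      rw [dPt, show (LieS.map k (fkk k) iT wT').1 = wT'.1 ≫ iT from rfl, ← Category.assoc]
      exact ptsR_comp e eT iT (t₀ : A →ₐ[k] BT) hti₀ _ _
    ext p q
    show TrivSqZeroExt.snd ((dPt e (LieS.map k (fkk k) iT wT').1).ofConv (C.c p q)) = _
    rw [h1]
    show lieVec eT wT' (t₀ (C.c p q)) = _
    rw [hwT']
    simp [Matrix.sum_apply]
  rw [hmat]
  have h1 := finrank_inf_ker_le (tanSpace C) ((adM (∑ j, cs j • C.c.map fun z => δs j (t₀ z))) ^ (n * n))
    (fun i => v (fs i)) (fun i => hvsp ▸ Submodule.subset_span ⟨_, rfl⟩) hcs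
  have h2 : Module.finrank k (tanSpace C) = m := by
    rw [← hvsp, finrank_span_eq_card hvli, Fintype.card_fin]
  rw [Fintype.card_fin] at h1
  omega

end Groth.Agent.GrMax
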