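import Groth.Agent.RootSys.NoRoot
import Groth.Agent.RootSys.FieldGen
import Groth.Agent.RootBase.Adjoint
import Groth.Agent.RootSys.Span

/-!
# Brackets with the Lie algebra of a split torus; roots not divisible by the characteristic
-/

set_option autoImplicit false
set_option backward.isDefEq.respectTransparency false
set_option linter.style.haveILetI false
set_option maxHeartbeats 1000000
set_option synthInstance.maxHeartbeats 400000

universe u

open CategoryTheory Limits MonoidalCategory CartesianMonoidalCategory MonObj GrpObj AlgebraicGeometry LieS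
open scoped CategoryTheory.Obj

noncomputable section

namespace Groth.Agent.GrMax

open Groth.Agent.HomDiag Groth.Agent.DynPar Groth.Agent.RootSys Groth.Agent.RootBase
open Groth.Agent.DynPar.Der (dv uB pl sG rep rep_comp rep_injective)

variable {k : Type u} [Field k] {G : Over (Spec (CommRingCat.of k))} [GrpObj G] [IsAffine G.left]
variable {M : Type} [AddCommGroup M] (c : Red.DS (Spec (CommRingCat.of k)) M ⟶ G) [IsMonHom c]

/-- The character `m ↦ 1 + ν(m) ε`. -/
def infChar (ν : M →+ k) : Multiplicative M →* DualNumber k where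
  toFun m := 1 + TrivSqZeroExt.inr (ν m.toAdd)
  map_one' := by simp
  map_mul' a b := by ext <;> simp [DualNumber.snd_mul, add_comm]

/-- The tangent vector of a split torus with the given functional. -/
theorem exists_torusVec (ν : M →+ k) :
    ∃ w : Lie (Red.DS (Spec (CommRingCat.of k)) M) k (RootSys.fk k),
      ∀ m, chv (w.1 : pt (DualNumber k) (fd (RootSys.fk k)) ⟶ Red.DS (Spec (CommRingCat.of k)) M) m = infChar ν m := by
  obtain ⟨g, hg⟩ := exists_chv (S := Spec (CommRingCat.of k)) (f := fd (RootSys.fk k)) (infChar ν)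
  refine ⟨⟨g, (mem_Lie_iff _ k _ _).2 (chv_ext fun m => ?_)⟩, hg⟩
  have hq : Spec.map (CommRingCat.ofHom (TrivSqZeroExt.fstHom k k k).toRingHom) ≫ fd (RootSys.fk k) = RootSys.fk k := by
    show Spec.map _ ≫ Spec.map _ ≫ RootSys.fk k = _
    rw [← Category.assoc, specMap_comp, fstHom_comp_algebraMap, CommRingCat.ofHom_id, Spec.map_id, Category.id_comp]
  refine Eq.trans (b := chv (qm (TrivSqZeroExt.fstHom k k k).toRingHom hq ≫ g) m) rfl ?_
  rw [chv_qm, hg]
  have e1 : chv (1 : pt k (RootSys.fk k) ⟶ Red.DS (Spec (CommRingCat.of k)) M) m = 1 := by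
    show (Scheme.ΓSpecIso (CommRingCat.of k)).hom (ch (1 : pt k (RootSys.fk k) ⟶ Red.DS (Spec (CommRingCat.of k)) M) m) = 1
    rw [ch_one, map_one]
  rw [e1]
  simp [infChar]

/-- The bracket of a weight vector with a tangent vector of the torus. -/
theorem isBracket_wt {v : Lie G k (RootSys.fk k)} {a : M} (hv : IsWt c v a) (ν : M →+ k)
    (w : Lie (Red.DS (Spec (CommRingCat.of k)) M) k (RootSys.fk k))
    (hw : ∀ m, chv (w.1 : pt (DualNumber k) (fd (RootSys.fk k)) ⟶ Red.DS (Spec (CommRingCat.of k)) M) m = infChar ν m) :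
    IsBracket G k (RootSys.fk k) v (LieS.map k (RootSys.fk k) c w) ((-ν a) • v) := by
  let h := algebraMap k (DualNumber k)
  let X : Lie G (DualNumber k) (fd (RootSys.fk k)) := pl h rfl v
  let g : pt (DualNumber k) (fd (RootSys.fk k)) ⟶ Red.DS (Spec (CommRingCat.of k)) M := w.1
  have hAd := hv.ad_pl h rfl g
  rw [hw] at hAd
  let y : dpt (DualNumber k) (fd (RootSys.fk k)) ⟶ G := proj (DualNumber k) (fd (RootSys.fk k)) ≫ g ≫ c
  have h1 : (X * (Ad G (DualNumber k) (fd (RootSys.fk k)) (g ≫ c) X)⁻¹).1 = X.1 * y * (X.1)⁻¹ * y⁻¹ := by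
    show X.1 * ((y * X.1 * y⁻¹))⁻¹ = _
    rw [_root_.mul_inv_rev, _root_.mul_inv_rev, _root_.inv_inv]
    simp only [_root_.mul_assoc]
  have h2 : X * (Ad G (DualNumber k) (fd (RootSys.fk k)) (g ≫ c) X)⁻¹ = (TrivSqZeroExt.inr (-ν a) : DualNumber k) • X := by
    rw [mul_inv_eq_iff_eq_mul, hAd]
    refine Der.dv_injective (funext fun x => ?_)
    rw [Der.dv_mul, Der.dv_smul, Der.dv_smul]
    have : (TrivSqZeroExt.inr (-ν a) : DualNumber k) + infChar ν (Multiplicative.ofAdd a) = 1 := by
      ext <;> simp [infChar]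
    rw [← add_mul, this, _root_.one_mul]
  show mulMap k (RootSys.fk k) ≫ ((-ν a) • v).1 = X.1 * y * (X.1)⁻¹ * y⁻¹
  rw [← h1, h2]
  refine Over.OverMorphism.ext ?_
  show Spec.map _ ≫ Spec.map _ ≫ v.1.left = Spec.map _ ≫ Spec.map _ ≫ v.1.left
  rw [← Category.assoc, ← Category.assoc, specMap_comp, specMap_comp]
  congr 2
  refine congrArg CommRingCat.ofHom (RingHom.ext fun z => ?_)
  simp only [RingHom.comp_apply, h, LieS.scaleHom, LieS.bcHom, LieS.mulHom, dualHom_apply]
  ext <;> simp [TrivSqZeroExt.algebraMap_eq_inl', DualNumber.snd_mul] <;> ring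

omit [IsMonHom c] in
/-- A bracket is determined by its arguments. -/
theorem isBracket_unique {x y z z' : Lie G k (RootSys.fk k)} (h : IsBracket G k (RootSys.fk k) x y z)
    (h' : IsBracket G k (RootSys.fk k) x y z') : z = z' := by
  have e : mulMap k (RootSys.fk k) ≫ z.1 = mulMap k (RootSys.fk k) ≫ z'.1 := h.trans h'.symm
  have e1 : rep (R := LieS.D2 k) (X := G.left) (Spec.map (CommRingCat.ofHom (mulHom k)) ≫ z.1.left) =
      rep (R := LieS.D2 k) (X := G.left) (Spec.map (CommRingCat.ofHom (mulHom k)) ≫ z'.1.left) :=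
    congrArg (fun t => rep (R := LieS.D2 k) (X := G.left) t) (congrArg (fun t => t.left) e)
  rw [rep_comp (R := DualNumber k), rep_comp (R := DualNumber k)] at e1
  refine Subtype.ext (Over.OverMorphism.ext (rep_injective (R := DualNumber k) (X := G.left) (RingHom.ext fun r => ?_)))
  have e2 := congrArg (fun t => ((TrivSqZeroExt.fst (TrivSqZeroExt.fst t)), TrivSqZeroExt.snd (TrivSqZeroExt.snd t)))
    (RingHom.congr_fun e1 r)
  simp [mulHom, TrivSqZeroExt.algebraMap_eq_inl', DualNumber.snd_mul] at e2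
  exact TrivSqZeroExt.ext e2.1 e2.2

omit [IsAffine G.left] in
/-- **Roots of an adjoint group are not divisible by the characteristic.** -/
theorem exists_functional_root [IsAlgClosed k] [Infinite k] (hG : Red.IsReductive G) [Module.Free ℤ M]
    [Module.Finite ℤ M] (hc : Red.IsMaximalTorus c) [IsAffine G.left]
    (hadj : ∀ (X : Over (Spec (CommRingCat.of k))) (g : X ⟶ G),
      (∀ (X' : Over (Spec (CommRingCat.of k))) (x : X' ⟶ X) (h : X' ⟶ G), (x ≫ g) * h = h * (x ≫ g)) → g = 1) :
    ∃ ν : M →+ k, ∀ a, IsSplitRoot c a → ν a ≠ 0 := by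
  classical
  obtain ⟨i1, i2, i3⟩ := red_inst hG
  haveI := i2; haveI := i3
  obtain ⟨U, hsU, hU⟩ := exists_split_nhd hG hc (IsLocalRing.closedPoint k)
  have hsplit : SplitOn c Set.univ := SplitOn.of_id (hU (𝟙 _) fun z _ => by
    rw [show z = IsLocalRing.closedPoint k from Subsingleton.elim (α := PrimeSpectrum k) _ _]
    exact hsU)
  obtain ⟨idx, hidx, P, u, hP, hu, -, hdim⟩ := hsplit
  letI := hidx
  have hne : ∀ a, P.root a ≠ 0 := fun a h => by
    have h2 := P.root_coroot_two a
    rw [show P.root a = 0 from h, map_zero, LinearMap.zero_apply] at h2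
    exact two_ne_zero h2.symm
  have F : Frame c (fun a => P.root a) u := ⟨hG, hc, P.root.injective, hne, hu, fun s => hdim s trivial⟩
  haveI : Nonempty (Spec (CommRingCat.of k) : Scheme.{u}) := ⟨IsLocalRing.closedPoint k⟩
  have hspan := F.span_eq_top hadj
  -- every root is indivisible
  let E : Grp.mk (Red.DS (Spec (CommRingCat.of k)) M) ≅ Grp.mk (Red.DS (Spec (CommRingCat.of k)) M) := Iso.refl _
  have hE : E.inv.hom.hom ≫ c = c := Category.id_comp c
  haveI : IsMonHom (E.inv.hom.hom ≫ c) := by rw [hE]; infer_instance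
  have hwt : ∀ a, ∃ v : Lie G k (RootSys.fk k), IsWt (E.inv.hom.hom ≫ c) v (P.root a) ∧ v ≠ 1 := fun a => by
    obtain ⟨-, v, hv, hv1⟩ := F.isSplitRoot a
    exact ⟨v, hv.congr_hom hE.symm, hv1⟩
  have hind : ∀ a, RootD.IsIndiv P a := fun a b hb => by
    obtain ⟨v, hv, hv1⟩ := hwt b
    obtain ⟨v', hv', hv1'⟩ := hwt a
    rcases (field_rank_one hG c hc E hv (hne b) hv1).2 (P.root a) v' hv' hv1' (hne a)
      ⟨2, 1, one_ne_zero, by rw [one_smul]; exact hb.symm⟩ with ⟨h, -⟩ | h
    · exact hne b (by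
        have : P.root b + P.root b = P.root b := by rw [← two_zsmul]; exact hb.trans h
        exact add_eq_left.1 this)
    · exact hne b (by
        have h3 : (3 : ℤ) • P.root b = 0 := by
          rw [show (3 : ℤ) = 2 + 1 by norm_num, add_smul, one_smul, hb, h, neg_add_cancel]
        exact (smul_eq_zero.1 h3).resolve_left (by norm_num))
  obtain ⟨Δ, hΔ⟩ := exists_simpleSys (P := P)
  have htop : (⊤ : Submodule ℤ M) ≤ Submodule.span ℤ (P.root '' Δ) := by
    rw [← hspan]
    refine Submodule.span_le.2 ?_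
    rintro _ ⟨a, rfl⟩
    have hsub : RootD.natSpan P Δ ≤ (Submodule.span ℤ (P.root '' Δ)).toAddSubmonoid :=
      AddSubmonoid.closure_le.2 Submodule.subset_span
    rcases hΔ.mem_or_neg_mem a with h | h
    · exact hsub h
    · exact (neg_mem_iff (x := P.root a)).1 (hsub h)
  let b : Module.Basis Δ ℤ M := Module.Basis.mk hΔ.linInd (by
    rw [← Set.image_eq_range]
    exact htop)
  have hfun : ∀ a, ∃ ν : M →+ k, ν (P.root a) ≠ 0 := fun a => by
    obtain ⟨g, -, i, hi, hgi⟩ := exists_conj_simple hΔ (hind a)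
    refine ⟨((Int.castAddHom k).comp ((b.coord ⟨i, hi⟩).toAddMonoidHom)).comp
      (DistribSMul.toAddMonoidHom M g⁻¹), ?_⟩
    have h1 : g⁻¹ • P.root a = b ⟨i, hi⟩ := by
      rw [← root_smul, ← hgi, inv_smul_smul, Module.Basis.mk_apply]
    simp [h1]
  let W : idx → Submodule k (M →+ k) := fun a =>
    { carrier := {ν | ν (P.root a) = 0}
      add_mem' := fun {x y} hx hy => by
        show (x + y) (P.root a) = 0
        rw [AddMonoidHom.add_apply, hx, hy, add_zero]
      zero_mem' := rfl
      smul_mem' := fun r x hx => by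
        show r * x (P.root a) = 0
        rw [hx, mul_zero] }
  obtain ⟨ν, hν⟩ := Submodule.exists_forall_notMem_of_forall_ne_top W fun a h => by
    obtain ⟨ν, hν⟩ := hfun a
    exact hν (show ν ∈ W a from h ▸ Submodule.mem_top)
  refine ⟨ν, fun m hm => ?_⟩
  obtain ⟨a, rfl⟩ := F.exists_eq_root hm
  exact hν a

end Groth.Agent.GrMax
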