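import Groth.Agent.GrMax.Weights
import Groth.Agent.GrMax.MatCoeff
import Groth.Agent.GrMax.Rational
import Mathlib.Algebra.DualNumber

/-!
# A non-nilpotent commutator in the Lie algebra of a quotient by the centre
-/

set_option autoImplicit false
set_option linter.unusedSectionVars false
set_option backward.isDefEq.respectTransparency false
set_option maxHeartbeats 1000000

universe u

open TensorProduct WithConv
open scoped Groth.Agent.Takeuchi
open Groth.Agent.Takeuchi (Pt push)

noncomputable section

namespace Groth.Agent.GrMax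

open Chev.CentTorus

variable {k : Type u} [Field k] {A : Type u} [CommRing A] [HopfAlgebra k A] {M : Type u} [CommGroup M]

section
variable (t : A →ₐc[k] MonoidAlgebra k M)

/-- The component of given weight. -/
def cw (m : M) : A →ₗ[k] A :=
  (TensorProduct.rid k A).toLinearMap ∘ₗ ((MonoidAlgebra.basis M k).coord m).lTensor A ∘ₗ (coact t).toLinearMap

theorem cw_of_weight [DecidableEq M] {m m' : M} {x : A} (hx : IsWeight t m' x) :
    cw t m x = if m' = m then x else 0 := by
  show TensorProduct.rid k A (((MonoidAlgebra.basis M k).coord m).lTensor A (coact t x)) = _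
  rw [hx, LinearMap.lTensor_tmul, TensorProduct.rid_tmul]
  simp [MonoidAlgebra.basis, Finsupp.single_apply]

theorem ext_weights {P : Type u} [AddCommGroup P] [Module k P] {f g : A →ₗ[k] P}
    (h : ∀ m x, IsWeight t m x → f x = g x) : f = g := by
  refine LinearMap.ext fun a => ?_
  obtain ⟨s, x, hx, rfl⟩ := exists_weights t a
  rw [map_sum, map_sum]
  exact Finset.sum_congr rfl fun m hm => h m _ (hx m hm)

theorem isWeight_mul {m m' : M} {x y : A} (hx : IsWeight t m x) (hy : IsWeight t m' y) :
    IsWeight t (m * m') (x * y) := by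
  show coact t (x * y) = _
  rw [map_mul, hx, hy, Algebra.TensorProduct.tmul_mul_tmul, MonoidAlgebra.single_mul_single, _root_.mul_one]

theorem isTan_comp_cw {v : A →ₗ[k] k} (hv : IsTan v) {m : M} (hm : m ≠ 1) : IsTan (v ∘ₗ cw t m) := by
  classical
  have key : ∀ m₁ x, IsWeight t m₁ x → ∀ m₂ y, IsWeight t m₂ y →
      v (cw t m (x * y)) = Bialgebra.counitAlgHom k A x * v (cw t m y) + v (cw t m x) * Bialgebra.counitAlgHom k A y := by
    intro m₁ x hx m₂ y hy
    rw [cw_of_weight t (isWeight_mul t hx hy), cw_of_weight t hx, cw_of_weight t hy]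
    by_cases h1 : m₁ = 1
    · subst h1
      rw [_root_.one_mul, if_neg (Ne.symm hm), map_zero, zero_mul, add_zero]
      split_ifs with h
      · rw [hv, counit_eq_zero t hy (h ▸ hm), mul_zero, add_zero]
      · simp
    · rw [counit_eq_zero t hx h1, zero_mul, zero_add]
      by_cases h2 : m₂ = 1
      · subst h2
        rw [_root_.mul_one]
        split_ifs with h
        · rw [hv, counit_eq_zero t hx h1, zero_mul, zero_add]
        · simp
      · rw [counit_eq_zero t hy h2, mul_zero]
        split_ifs
        · rw [hv, counit_eq_zero t hx h1, counit_eq_zero t hy h2]; simp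
        · simp
  intro a b
  obtain ⟨s, x, hx, rfl⟩ := exists_weights t a
  obtain ⟨r, y, hy, rfl⟩ := exists_weights t b
  show v (cw t m _) = _ * v (cw t m _) + v (cw t m _) * _
  simp only [Finset.sum_mul, map_sum]
  rw [← Finset.sum_add_distrib]
  refine Finset.sum_congr rfl fun i hi => ?_
  simp only [Finset.mul_sum, map_sum]
  rw [← Finset.sum_add_distrib]
  exact Finset.sum_congr rfl fun j hj => key i _ (hx i hi) j _ (hy j hj)

/-- A tangent vector as a point with values in dual numbers. -/
def tanPt {v : A →ₗ[k] k} (hv : IsTan v) : Pt k A (DualNumber k) :=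
  toConv
    { toFun := fun a => TrivSqZeroExt.inl (Bialgebra.counitAlgHom k A a) + TrivSqZeroExt.inr (v a)
      map_one' := by rw [hv.map_one, _root_.map_one]; simp
      map_mul' := fun a b => by
        refine TrivSqZeroExt.ext ?_ ?_
        · simp
        · rw [hv, map_mul]; simp [mul_comm]
      map_zero' := by simp
      map_add' := fun a b => by
        refine TrivSqZeroExt.ext ?_ ?_ <;> simp
      commutes' := fun r => by
        rw [show v (algebraMap k A r) = 0 by rw [Algebra.algebraMap_eq_smul_one, map_smul, hv.map_one, smul_zero]]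
        simp [TrivSqZeroExt.algebraMap_eq_inl] }

end

theorem comp_mul {B : Type u} [CommRing B] [HopfAlgebra k B] (p : B →ₐc[k] A) {R : Type u} [CommRing R] [Algebra k R]
    (g h : Pt k A R) :
    toConv ((g * h).ofConv.comp (p : B →ₐ[k] A)) =
      (toConv (g.ofConv.comp (p : B →ₐ[k] A)) * toConv (h.ofConv.comp (p : B →ₐ[k] A)) : Pt k B R) := by
  refine WithConv.ext (AlgHom.ext fun b => ?_)
  show (g * h) (p b) = _
  rw [Takeuchi.mul_apply]
  refine Eq.trans ?_ (Takeuchi.mul_apply _ _ b).symm
  rw [← CoalgHomClass.map_comp_comul_apply p b]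
  generalize Coalgebra.comul (R := k) b = z
  induction z using TensorProduct.induction_on with
  | zero => simp
  | tmul x y => simp
  | add x y hx hy => simp only [map_add, hx, hy]

/-- Composition with a homomorphism, on points. -/
def compHom {B : Type u} [CommRing B] [HopfAlgebra k B] (p : B →ₐc[k] A) (R : Type u) [CommRing R] [Algebra k R] :
    Pt k A R →* Pt k B R :=
  MonoidHom.mk' (fun g => toConv (g.ofConv.comp (p : B →ₐ[k] A))) (comp_mul p)

variable {B : Type u} [CommRing B] [HopfAlgebra k B] {M' : Type u} [CommGroup M']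

/-- Being central among all points. -/
def IsCentralPt {R : Type u} [CommRing R] [Algebra k R] (g : Pt k A R) : Prop :=
  ∀ (S : Type u) [CommRing S] [Algebra k S] (φ : R →ₐ[k] S) (x : Pt k A S), push φ g * x = x * push φ g

theorem isWeight_comp (p : B →ₐc[k] A) (t : A →ₐc[k] MonoidAlgebra k M) (t' : B →ₐc[k] MonoidAlgebra k M')
    (ι : M' →* M) (hι : ∀ b, t (p b) = MonoidAlgebra.mapDomainAlgHom k k ι (t' b))
    {m : M'} {x : B} (hx : IsWeight t' m x) : IsWeight t (ι m) (p x) := by
  let S := A ⊗[k] MonoidAlgebra k M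
  let η : MonoidAlgebra k M' →ₐ[k] S :=
    (Algebra.TensorProduct.includeRight : MonoidAlgebra k M →ₐ[k] S).comp (MonoidAlgebra.mapDomainAlgHom k k ι)
  have h : compHom p S (conj t (Algebra.TensorProduct.includeLeft : A →ₐ[k] S) Algebra.TensorProduct.includeRight
      (toConv (AlgHom.id k A))) = conj t' (Algebra.TensorProduct.includeLeft : A →ₐ[k] S) η
        (toConv (p : B →ₐ[k] A)) := by
    rw [conj, conj, map_mul, map_mul, map_inv]
    have e1 : compHom p S (push Algebra.TensorProduct.includeRight (toConv (t : A →ₐ[k] MonoidAlgebra k M))) =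
        push η (toConv (t' : B →ₐ[k] MonoidAlgebra k M')) :=
      WithConv.ext (AlgHom.ext fun b => congrArg (Algebra.TensorProduct.includeRight : MonoidAlgebra k M →ₐ[k] S) (hι b))
    rw [e1]
    rfl
  have h' := congrArg (fun z : Pt k B S => z.ofConv x) h
  rw [conj_apply t' hx] at h'
  show coact t (p x) = _
  refine Eq.trans h' ?_
  simp [η]

/-- A tangent vector extended to a derivation on points with values in an algebra. -/
theorem tan_rTensor_mul {P : Type u} [CommRing P] [Algebra k P] {w : B →ₗ[k] k} (hw : IsTan w) (y z : B ⊗[k] P) :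
    TensorProduct.lid k P (w.rTensor P (y * z)) =
      Algebra.TensorProduct.lift ((Algebra.ofId k P).comp (Bialgebra.counitAlgHom k B)) (AlgHom.id k P)
          (fun _ _ => Commute.all _ _) y * TensorProduct.lid k P (w.rTensor P z) +
        TensorProduct.lid k P (w.rTensor P y) *
          Algebra.TensorProduct.lift ((Algebra.ofId k P).comp (Bialgebra.counitAlgHom k B)) (AlgHom.id k P)
            (fun _ _ => Commute.all _ _) z := by
  induction y using TensorProduct.induction_on with
  | zero => simp
  | add a b ha hb => simp only [add_mul, map_add, ha, hb]; ring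
  | tmul a r =>
    induction z using TensorProduct.induction_on with
    | zero => simp
    | add a b ha hb => simp only [mul_add, map_add, ha, hb]; ring
    | tmul b s =>
      simp only [Algebra.TensorProduct.tmul_mul_tmul, LinearMap.rTensor_tmul, TensorProduct.lid_tmul,
        Algebra.TensorProduct.lift_tmul, AlgHom.comp_apply, AlgHom.id_apply, Algebra.ofId_apply, hw a b,
        Algebra.smul_def, map_add, map_mul]
      ring

/-- **A non-nilpotent commutator.** -/
theorem exists_adM_ne_zero [IsNoetherianRing A] [IsDomain A] [DecidableEq M]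
    (p : B →ₐc[k] A) (t : A →ₐc[k] MonoidAlgebra k M) (t' : B →ₐc[k] MonoidAlgebra k M') (ι : M' →* M)
    (hιi : Function.Injective ι) (hι : ∀ b, t (p b) = MonoidAlgebra.mapDomainAlgHom k k ι (t' b))
    (ht' : Function.Surjective t')
    (hkc : ∀ (R : Type u) [CommRing R] [Algebra k R] (g : Pt k A R), compHom p R g = 1 → IsCentralPt g)
    (hck : ∀ (R : Type u) [CommRing R] [Algebra k R] (g : Pt k A R), IsCentralPt g → compHom p R g = 1)
    (ν : M' → k) (hν : ∀ a b, ν (a * b) = ν a + ν b) (hν0 : ∃ m, ν m ≠ 0) {n : ℕ} (C : MatGen k B n) :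
    ∃ d v : B →ₗ[k] k, IsTan d ∧ IsTan v ∧ ∀ N : ℕ, ((adM (C.c.map d)) ^ N) (C.c.map v) ≠ 0 := by
  classical
  let W : Set M' := {m | m ≠ 1 ∧ ∃ (x : B) (v : B →ₗ[k] k), IsWeight t' m x ∧ IsTan v ∧ v x ≠ 0}
  let K := Subgroup.closure W
  -- outside the image of `K` the cotangent weights vanish
  have hA : ∀ (m : M) (x : A), IsWeight t m x → m ∉ K.map ι → ∀ v : A →ₗ[k] k, IsTan v → v x = 0 := by
    intro m x hx hm v hv
    have hm1 : m ≠ 1 := fun e => hm (e ▸ one_mem _)
    let w := v ∘ₗ cw t m
    have hw : IsTan w := isTan_comp_cw t hv hm1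
    have hwp : w ∘ₗ (p : B →ₐ[k] A).toLinearMap = 0 := by
      refine ext_weights t' fun m' y hy => ?_
      show v (cw t m (p y)) = 0
      rw [cw_of_weight t (isWeight_comp p t t' ι hι hy)]
      split_ifs with h
      · by_contra hne
        refine hm ⟨m', Subgroup.subset_closure ⟨fun e => hm1 (by rw [← h, e, _root_.map_one]), y,
          v ∘ₗ (p : B →ₐ[k] A).toLinearMap, hy, fun a b => ?_, hne⟩, h⟩
        show v (p (a * b)) = _
        rw [map_mul, hv]
        simp
      · exact map_zero v
    have hg : compHom p (DualNumber k) (tanPt hw) = 1 := by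
      refine WithConv.ext (AlgHom.ext fun b => ?_)
      rw [AlgHom.convOne_apply]
      show TrivSqZeroExt.inl (Bialgebra.counitAlgHom k A (p b)) + TrivSqZeroExt.inr (w (p b)) = _
      rw [show w (p b) = 0 from LinearMap.congr_fun hwp b]
      simp [TrivSqZeroExt.algebraMap_eq_inl]
    have hcen := hkc _ _ hg
    let S := DualNumber k ⊗[k] MonoidAlgebra k M
    have hc : conj t (Algebra.TensorProduct.includeLeft : DualNumber k →ₐ[k] S) Algebra.TensorProduct.includeRight (tanPt hw) =
        push (R' := S) (Algebra.TensorProduct.includeLeft : DualNumber k →ₐ[k] S) (tanPt hw) := by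
      rw [conj, ← hcen S]
      exact mul_inv_cancel_right (G := Pt k A S) _ _
    have h' := congrArg (fun z : Pt k A S => z.ofConv x) hc
    rw [conj_apply t hx] at h'
    have h2 : ((tanPt hw).ofConv x) ⊗ₜ[k] MonoidAlgebra.single m (1 : k) =
        ((tanPt hw).ofConv x) ⊗ₜ[k] (1 : MonoidAlgebra k M) := by
      refine (Eq.trans ?_ h').trans rfl
      exact ((Algebra.TensorProduct.tmul_mul_tmul _ _ _ _).trans (by rw [_root_.mul_one, _root_.one_mul])).symm
    have h3 := congrArg (fun z : DualNumber k ⊗[k] MonoidAlgebra k M =>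
      TensorProduct.rid k (DualNumber k) (((MonoidAlgebra.basis M k).coord m).lTensor _ z)) h2
    simp only [LinearMap.lTensor_tmul, TensorProduct.rid_tmul] at h3
    simp [MonoidAlgebra.basis, MonoidAlgebra.one_def, hm1, Ne.symm hm1] at h3
    have h4 := congrArg TrivSqZeroExt.snd h3
    have hwx : w x = v x := by show v (cw t m x) = v x; rw [cw_of_weight t hx, if_pos rfl]
    simp [tanPt, hwx] at h4
    exact h4
  -- hence `K` is everything
  have hK : ∀ m' : M', m' ∈ K := by
    intro m'
    let q := MonoidAlgebra.mapDomainAlgHom k k (QuotientGroup.mk' (K.map ι))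
    have hc := commute_of_weights t (K.map ι) hA
    let g : Pt k A (MonoidAlgebra k (M ⧸ K.map ι)) := push q (toConv (t : A →ₐ[k] MonoidAlgebra k M))
    have hg : IsCentralPt g := by
      intro S _ _ φ x
      let l : A ⊗[k] MonoidAlgebra k (M ⧸ K.map ι) →ₐ[k] S :=
        Algebra.TensorProduct.lift x.ofConv φ fun _ _ => Commute.all _ _
      have h := congrArg (push l) hc
      rw [conj, Takeuchi.push_mul, Takeuchi.push_mul, Takeuchi.push_inv] at h
      have e1 : ∀ z : Pt k A (MonoidAlgebra k M),
          push l (push ((Algebra.TensorProduct.includeRight : MonoidAlgebra k (M ⧸ K.map ι) →ₐ[k] _).comp q) z) =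
            push φ (push q z) := fun z => WithConv.ext (AlgHom.ext fun a => by simp [push, l, q])
      have e2 : push l (push (Algebra.TensorProduct.includeLeft : A →ₐ[k] _) (toConv (AlgHom.id k A))) = x :=
        WithConv.ext (AlgHom.ext fun a => by simp [push, l])
      rw [e1, e2, mul_inv_eq_iff_eq_mul] at h
      exact h
    obtain ⟨b, hb⟩ := ht' (MonoidAlgebra.single m' 1)
    have h := congrArg (fun z : Pt k B (MonoidAlgebra k (M ⧸ K.map ι)) => z.ofConv b) (hck _ g hg)
    simp only [AlgHom.convOne_apply] at h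
    have hcb : Coalgebra.counit (R := k) b = 1 := by
      rw [← CoalgHomClass.counit_comp_apply t' b, hb]
      simp
    rw [show (compHom p _ g).ofConv b = q (t (p b)) from rfl, hι, hb, hcb, _root_.map_one] at h
    simp only [q, MonoidAlgebra.mapDomainAlgHom_apply, MonoidAlgebra.mapDomain_single, MonoidAlgebra.one_def] at h
    have h2 : QuotientGroup.mk' (K.map ι) (ι m') = 1 := by
      by_contra hne
      have h3 := congrArg (fun z : MonoidAlgebra k (M ⧸ K.map ι) => z.coeff 1) h
      simp [Finsupp.single_apply] at h3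
      exact hne ((QuotientGroup.eq_one_iff _).2 h3)
    obtain ⟨m'', hm'', he⟩ := (QuotientGroup.eq_one_iff _).1 h2
    exact hιi he ▸ hm''
  obtain ⟨m, hmW, hνm⟩ : ∃ m ∈ W, ν m ≠ 0 := by
    by_contra! h
    obtain ⟨m₀, hm₀⟩ := hν0
    apply hm₀
    have h1 : ν 1 = 0 := by simpa using hν 1 1
    clear hm₀
    induction hK m₀ using Subgroup.closure_induction with
    | mem x hx => exact h x hx
    | one => exact h1
    | mul x y _ _ hx hy => rw [hν, hx, hy, add_zero]
    | inv x _ hx =>
      have := hν x x⁻¹
      rw [mul_inv_cancel, h1, hx, zero_add] at this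
      exact this.symm
  obtain ⟨hm1, x, v, hx, hv, hvx⟩ := hmW
  let Nν : MonoidAlgebra k M' →ₗ[k] k :=
    (Finsupp.linearCombination k ν) ∘ₗ (MonoidAlgebra.coeffLinearEquiv k).toLinearMap
  let aug := Bialgebra.counitAlgHom k (MonoidAlgebra k M')
  have hNs : ∀ a r, Nν (MonoidAlgebra.single a r) = r * ν a := fun a r => by simp [Nν]
  have hN : ∀ y z, Nν (y * z) = aug y * Nν z + Nν y * aug z := by
    intro y z
    induction y using MonoidAlgebra.induction_linear with
    | zero => simp
    | add a b ha hb => simp only [add_mul, map_add, ha, hb]; ring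
    | single a r =>
      induction z using MonoidAlgebra.induction_linear with
      | zero => simp
      | add a b ha hb => simp only [mul_add, map_add, ha, hb]; ring
      | single b s =>
        rw [MonoidAlgebra.single_mul_single, hNs, hNs, hNs, hν]
        simp [aug]
        ring
  let d := Nν ∘ₗ (t' : B →ₐ[k] MonoidAlgebra k M').toLinearMap
  have hd : IsTan d := fun a b => by
    show Nν (t' (a * b)) = Bialgebra.counitAlgHom k B a * Nν (t' b) + Nν (t' a) * Bialgebra.counitAlgHom k B b
    rw [map_mul, hN]
    simp [aug, CoalgHomClass.counit_comp_apply]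
  let w := v ∘ₗ cw t' m
  have hw : IsTan w := isTan_comp_cw t' hv hm1
  refine ⟨d, w, hd, hw, fun N => ?_⟩
  -- the weight identity
  let S := B ⊗[k] MonoidAlgebra k M'
  let F : S →ₗ[k] MonoidAlgebra k M' := (TensorProduct.lid k _).toLinearMap ∘ₗ w.rTensor _
  let E : S →ₐ[k] MonoidAlgebra k M' :=
    Algebra.TensorProduct.lift ((Algebra.ofId k _).comp (Bialgebra.counitAlgHom k B)) (AlgHom.id k _) fun _ _ => Commute.all _ _
  have hF : ∀ y z, F (y * z) = E y * F z + F y * E z := tan_rTensor_mul hw
  let U := C.c.map (t' : B →ₐ[k] MonoidAlgebra k M')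
  let UR := U.map (Algebra.TensorProduct.includeRight : MonoidAlgebra k M' →ₐ[k] S)
  let cL := C.c.map (Algebra.TensorProduct.includeLeft : B →ₐ[k] S)
  let Γ := C.c.map (coact t')
  have hrel : Γ * UR = UR * cL := by
    let T := push (Algebra.TensorProduct.includeRight : MonoidAlgebra k M' →ₐ[k] S) (toConv (t' : B →ₐ[k] MonoidAlgebra k M'))
    let X := push (Algebra.TensorProduct.includeLeft : B →ₐ[k] S) (toConv (AlgHom.id k B))
    have e : toConv (coact t') * T = T * X := by
      rw [coact, toConv_ofConv, conj, inv_mul_cancel_right]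
    have := congrArg (C.mat (R := S)) e
    rwa [C.mat_mul, C.mat_mul] at this
  have hEU : UR.map E = U := Matrix.ext fun i j => by
    simp only [UR, E, Matrix.map_apply]
    exact (Algebra.TensorProduct.lift_tmul _ _ _ _ _).trans (by simp [← MonoidAlgebra.one_def])
  have hFU : UR.map F = 0 := Matrix.ext fun i j => by
    show TensorProduct.lid k _ (w.rTensor _ ((1 : B) ⊗ₜ[k] U i j)) = 0
    rw [LinearMap.rTensor_tmul, TensorProduct.lid_tmul, hw.map_one, zero_smul]
  have hEΓ : ∀ i j, E (cL i j) = algebraMap k _ ((1 : Matrix (Fin n) (Fin n) k) i j) := fun i j => by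
    show Algebra.TensorProduct.lift _ _ _ (C.c i j ⊗ₜ[k] (1 : MonoidAlgebra k M')) = _
    rw [Algebra.TensorProduct.lift_tmul, AlgHom.id_apply, _root_.mul_one, AlgHom.comp_apply, Bialgebra.counitAlgHom_apply, C.counit_c]
    rfl
  have hcoef : ∀ y : B, F (coact t' y) = MonoidAlgebra.single m (w y) := by
    intro y
    obtain ⟨s, f, hf, rfl⟩ := exists_weights t' y
    rw [map_sum, map_sum, map_sum, ← MonoidAlgebra.lsingle_apply (R := k) (S := k), map_sum]
    refine Finset.sum_congr rfl fun i hi => ?_
    rw [hf i hi]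
    show TensorProduct.lid k _ (w.rTensor _ (f i ⊗ₜ MonoidAlgebra.single i 1)) = _
    have hwi : w (f i) = if i = m then v (f i) else 0 := by
      show v (cw t' m (f i)) = _
      rw [cw_of_weight t' (hf i hi)]
      split_ifs <;> simp
    by_cases h : i = m
    · subst h; simp
    · simp [hwi, h]
  have hFe : ∀ i j, ∑ l, MonoidAlgebra.single m (w (C.c i l)) * U l j = ∑ l, U i l * algebraMap k _ (w (C.c l j)) := by
    intro i j
    have h := congrArg F (congrFun (congrFun hrel i) j)
    rw [Matrix.mul_apply, Matrix.mul_apply, map_sum, map_sum] at h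
    simp only [hF] at h
    have hFU' : ∀ a b, F (UR a b) = 0 := fun a b => congrFun (congrFun hFU a) b
    have hEU' : ∀ a b, E (UR a b) = U a b := fun a b => congrFun (congrFun hEU a) b
    simp only [hFU', hEU', mul_zero, zero_mul, zero_add, add_zero] at h
    simp only [Γ, Matrix.map_apply, hcoef] at h
    refine h.trans (Finset.sum_congr rfl fun l _ => ?_)
    congr 1
    show TensorProduct.lid k _ (w.rTensor _ (C.c l j ⊗ₜ[k] (1 : MonoidAlgebra k M'))) = _
    rw [LinearMap.rTensor_tmul, TensorProduct.lid_tmul, Algebra.smul_def, _root_.mul_one]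
  have haugU : ∀ i j, aug (U i j) = (1 : Matrix (Fin n) (Fin n) k) i j := fun i j => by
    show Coalgebra.counit (R := k) (t' (C.c i j)) = _
    rw [CoalgHomClass.counit_comp_apply, C.counit_c]
  have hbr : adM (C.c.map d) (C.c.map w) = ν m • C.c.map w := by
    ext i j
    have h := congrArg Nν (hFe i j)
    rw [map_sum, map_sum] at h
    simp only [hN] at h
    have hNU : ∀ a b, Nν (U a b) = d (C.c a b) := fun _ _ => rfl
    simp only [hNU, haugU, hNs, aug, Bialgebra.counitAlgHom_apply, MonoidAlgebra.counit_single,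
      CommSemiring.counit_apply, MonoidAlgebra.coe_algebraMap] at h
    simp [Matrix.one_apply, Finset.sum_add_distrib, hNs, hν, show ν 1 = 0 by simpa using hν 1 1] at h
    rw [adM_apply, Matrix.sub_apply, Matrix.mul_apply, Matrix.mul_apply, Matrix.smul_apply]
    simp only [Matrix.map_apply, smul_eq_mul]
    linear_combination -h
  have hpow : ((adM (C.c.map d)) ^ N) (C.c.map w) = (ν m) ^ N • C.c.map w := by
    induction N with
    | zero => simp
    | succ N ih => rw [pow_succ', Module.End.mul_apply, ih, map_smul, hbr, smul_smul, pow_succ]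
  rw [hpow]
  refine smul_ne_zero (pow_ne_zero _ hνm) fun h0 => hvx ?_
  have hall : ∀ y : B, w y = 0 := by
    intro y
    have hy : y ∈ Algebra.adjoin k (Set.range fun p : Fin n × Fin n => C.c p.1 p.2) := C.gen ▸ Algebra.mem_top
    induction hy using Algebra.adjoin_induction with
    | mem z hz => obtain ⟨⟨i, j⟩, rfl⟩ := hz; exact congrFun (congrFun h0 i) j
    | algebraMap r => rw [Algebra.algebraMap_eq_smul_one, map_smul, hw.map_one, smul_zero]
    | add a b _ _ ha hb => rw [map_add, ha, hb, add_zero]
    | mul a b _ _ ha hb => rw [hw, ha, hb, mul_zero, zero_mul, add_zero]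
  have := hall x
  rwa [show w x = v x by show v (cw t' m x) = v x; rw [cw_of_weight t' hx, if_pos rfl]] at this

end Groth.Agent.GrMax
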